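import Cfsg.Agent.EqLemmas
import Mathlib

/-!
# Integer polynomials as coefficient lists

Enough arithmetic to check polynomial identities by computation, and a bound for the values of polynomials with small
coefficients.
-/

set_option autoImplicit false

namespace Cfsg.Agent.ChevLang

/-- The value of a coefficient list. -/
def pev (q : ℤ) : List ℤ → ℤ
  | [] => 0
  | c :: f => c + q * pev q f

/-- Sum of coefficient lists. -/
def padd : List ℤ → List ℤ → List ℤ
  | [], g => g
  | f, [] => f
  | a :: f, b :: g => (a + b) :: padd f g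

/-- Scalar multiple of a coefficient list. -/
def pscale (a : ℤ) (f : List ℤ) : List ℤ := f.map fun x => a * x

/-- Product of coefficient lists. -/
def pmul : List ℤ → List ℤ → List ℤ
  | [], _ => []
  | c :: f, g => padd (pscale c g) (0 :: pmul f g)

/-- All coefficients vanish. -/
def pzero (f : List ℤ) : Bool := f.all fun x => x == 0

/-- Equality up to trailing zeros. -/
def peq (f g : List ℤ) : Bool := pzero (padd f (pscale (-1) g))

/-- A finite sum of coefficient lists. -/
def psum : {n : ℕ} → (Fin n → List ℤ) → List ℤ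
  | 0, _ => []
  | _ + 1, f => padd (f 0) (psum fun i => f i.succ)

theorem pev_padd (q : ℤ) : ∀ f g : List ℤ, pev q (padd f g) = pev q f + pev q g
  | [], g => by simp [padd, pev]
  | a :: f, [] => by simp [padd, pev]
  | a :: f, b :: g => by simp [padd, pev, pev_padd q f g]; ring

theorem pev_pscale (q a : ℤ) : ∀ f : List ℤ, pev q (pscale a f) = a * pev q f
  | [] => by simp [pscale, pev]
  | b :: f => by
    have := pev_pscale q a f
    simp [pscale, pev] at this ⊢
    rw [this]; ring

theorem pev_pmul (q : ℤ) : ∀ f g : List ℤ, pev q (pmul f g) = pev q f * pev q g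
  | [], g => by simp [pmul, pev]
  | a :: f, g => by simp [pmul, pev, pev_padd, pev_pscale, pev_pmul q f g]; ring

theorem pev_psum (q : ℤ) : ∀ {n : ℕ} (f : Fin n → List ℤ), pev q (psum f) = ∑ i, pev q (f i)
  | 0, f => by simp [psum, pev]
  | n + 1, f => by simp [psum, pev_padd, pev_psum q fun i => f i.succ, Fin.sum_univ_succ]

theorem pev_of_pzero {f : List ℤ} (h : pzero f = true) (q : ℤ) : pev q f = 0 := by
  induction f with
  | nil => rfl
  | cons a f ih =>
    simp only [pzero, List.all_cons, Bool.and_eq_true, beq_iff_eq] at h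
    rw [pev, ih h.2, h.1, mul_zero, add_zero]

theorem pev_of_peq {f g : List ℤ} (h : peq f g = true) (q : ℤ) : pev q f = pev q g := by
  have := pev_of_pzero h q
  rw [pev_padd, pev_pscale] at this
  linarith

/-- A polynomial with coefficients bounded by `4` at an argument at least `6`: it is small, and nonzero unless all
coefficients vanish. -/
theorem pev_bound {q : ℤ} (hq : 6 ≤ q) : ∀ {f : List ℤ}, (∀ a ∈ f, |a| ≤ 4) →
    5 * |pev q f| + 4 ≤ 4 * q ^ f.length ∧ (pev q f = 0 → pzero f = true)
  | [], _ => by simp [pev, pzero]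
  | a :: f, h => by
    obtain ⟨h1, h2⟩ := pev_bound hq (f := f) fun b hb => h b (List.mem_cons_of_mem _ hb)
    have ha := h a List.mem_cons_self
    refine ⟨?_, fun e => ?_⟩
    · have e1 : |pev q (a :: f)| ≤ |a| + q * |pev q f| := by
        refine (abs_add_le _ _).trans ?_
        rw [abs_mul, abs_of_pos (show (0 : ℤ) < q by omega)]
      have e2 : q * (5 * |pev q f| + 4) ≤ q * (4 * q ^ f.length) := mul_le_mul_of_nonneg_left h1 (by omega)
      rw [List.length_cons, pow_succ]
      nlinarith
    · rw [pev] at e
      have hz : pev q f = 0 := by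
        by_contra hne
        have h3 : |q * pev q f| = |a| := by rw [show q * pev q f = -a by linarith, abs_neg]
        rw [abs_mul, abs_of_pos (show (0 : ℤ) < q by omega)] at h3
        nlinarith [Int.one_le_abs hne]
      rw [hz, mul_zero, add_zero] at e
      have := h2 hz
      simp only [pzero, List.all_cons, Bool.and_eq_true, beq_iff_eq] at this ⊢
      exact ⟨e, this⟩

theorem length_padd : ∀ f g : List ℤ, (padd f g).length = max f.length g.length
  | [], g => by simp [padd]
  | a :: f, [] => by simp [padd]
  | a :: f, b :: g => by simp [padd, length_padd f g]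

theorem mem_padd_bound {B C : ℤ} (hB : 0 ≤ B) (hC : 0 ≤ C) :
    ∀ {f g : List ℤ}, (∀ a ∈ f, |a| ≤ B) → (∀ a ∈ g, |a| ≤ C) → ∀ a ∈ padd f g, |a| ≤ B + C
  | [], g, _, hg => fun a ha => (hg a (by simpa [padd] using ha)).trans (by linarith)
  | b :: f, [], hf, _ => fun a ha => (hf a (by simpa [padd] using ha)).trans (by linarith)
  | b :: f, c :: g, hf, hg => fun a ha => by
    rcases List.mem_cons.1 (by simpa only [padd] using ha) with rfl | ha
    · exact (abs_add_le _ _).trans (add_le_add (hf _ List.mem_cons_self) (hg _ List.mem_cons_self))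
    · exact mem_padd_bound hB hC (fun x hx => hf x (List.mem_cons_of_mem _ hx))
        (fun x hx => hg x (List.mem_cons_of_mem _ hx)) a ha

/-- Congruence modulo a divisor of `q - r`. -/
theorem pev_modEq {n q r : ℤ} (h : q ≡ r [ZMOD n]) : ∀ f : List ℤ, pev q f ≡ pev r f [ZMOD n]
  | [] => Int.ModEq.refl _
  | a :: f => (h.mul (pev_modEq h f)).add_left a

end Cfsg.Agent.ChevLang
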