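import Cfsg.Agent.EqLemmas
import Cfsg.Agent.Lib.Lang.Group
import Cfsg.Agent.Lib.ChevFixed.Basic

/-!
# The Lang–Steinberg theorem for Chevalley groups

`exists_lang`: over an algebraically closed field of characteristic `p`, every element of a Chevalley group is
`g⁻¹ g^{(q)}` with `g` in the group.
-/

set_option autoImplicit false

namespace Cfsg.Agent.ChevLang

open Cfsg.Lie Cfsg.Lie.ChevalleyDatum Cfsg.Agent.Chev Cfsg.Agent.ChevBN Cfsg.Agent.ChevFixed

variable {D : ChevalleyDatum} {K : Type*} [Field K] [IsAlgClosed K]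

/-- The polynomial root matrices. -/
noncomputable def rootPoly (D : ChevalleyDatum) (K : Type*) [Field K] (r : Fin D.nroots) :
    Matrix D.Idx D.Idx (Polynomial K) :=
  xR D (Polynomial K) r.val Polynomial.X

omit [IsAlgClosed K] in
theorem gval_rootPoly (hD : Good D) (r : Fin D.nroots) (t : K) :
    Lang.gval (rootPoly D K) r t = (xg hD K r.val t : Matrix D.Idx D.Idx K) := by
  rw [Lang.gval, coe_xg, x_eq_xR D r.isLt, rootPoly]
  have := xR_map D (Polynomial.evalRingHom t) r.val Polynomial.X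
  simpa using this

/-- The Lang–Steinberg theorem for a Chevalley group. -/
theorem exists_lang (hD : Good D) {p f q : ℕ} [Fact p.Prime] [CharP K p] (hf : 1 ≤ f) (hqf : q = p ^ f)
    (σ : K →+* K) (hσ : ∀ z, σ z = z ^ q) {n : GL D.Idx K} (hn : n ∈ D.group K) :
    ∃ g ∈ D.group K, mapG D σ g = g * n := by
  have hmem : ∀ r t, ∃ g ∈ D.group K, (g : Matrix D.Idx D.Idx K) = Lang.gval (rootPoly D K) r t :=
    fun r t => ⟨xg hD K r.val t, xg_mem_group hD _ _, (gval_rootPoly hD r t).symm⟩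
  have hone : ∀ r, Lang.gval (rootPoly D K) r 0 = 1 := fun r => by
    rw [gval_rootPoly hD, xg_zero, Units.val_one]
  have hgen : ∀ g ∈ D.group K, ∃ L, (g : Matrix D.Idx D.Idx K) ∈ Lang.wset (rootPoly D K) L := by
    intro g hg
    suffices H : (∃ L, (g : Matrix D.Idx D.Idx K) ∈ Lang.wset (rootPoly D K) L) ∧
        (∃ L, ((g⁻¹ : GL D.Idx K) : Matrix D.Idx D.Idx K) ∈ Lang.wset (rootPoly D K) L) from H.1
    induction hg using Subgroup.closure_induction with
    | mem z hz =>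
      obtain ⟨r, t, e⟩ := hz
      obtain rfl : z = xg hD K r.val t := Units.ext (by rw [e]; simp [ChevalleyDatum.x])
      refine ⟨⟨[r], t, 1, rfl, by rw [mul_one, gval_rootPoly hD]⟩, ⟨[r], -t, 1, rfl, ?_⟩⟩
      rw [mul_one, gval_rootPoly hD, xg_inv]
    | one => exact ⟨⟨[], rfl⟩, ⟨[], by rw [inv_one]; rfl⟩⟩
    | mul a b _ _ ha hb =>
      obtain ⟨⟨L, hL⟩, ⟨L', hL'⟩⟩ := ha
      obtain ⟨⟨M, hM⟩, ⟨M', hM'⟩⟩ := hb
      refine ⟨⟨L ++ M, by rw [Units.val_mul]; exact Lang.mul_mem_wset _ L M hL hM⟩, ⟨M' ++ L', ?_⟩⟩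
      rw [_root_.mul_inv_rev, Units.val_mul]
      exact Lang.mul_mem_wset _ M' L' hM' hL'
    | inv a _ ha => exact ⟨ha.2, by rw [inv_inv]; exact ha.1⟩
  have hstab : ∀ g ∈ D.group K, ∃ g' ∈ D.group K,
      (g' : Matrix D.Idx D.Idx K) = (g : Matrix D.Idx D.Idx K).map σ := fun g hg =>
    ⟨mapG D σ g, mapG_group_le hD σ ⟨g, hg, rfl⟩, rfl⟩
  obtain ⟨g, hg, e⟩ := Lang.lang (rootPoly D K) (D.group K) hmem hone hgen σ hf hqf hσ hstab hn
  exact ⟨g, hg, Units.ext (by rw [coe_mapG, Units.val_mul]; exact e)⟩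

end Cfsg.Agent.ChevLang
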