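import Cfsg.Agent.EqLemmas
import Cfsg.Agent.Lib.ChevFixed.Basic
import Mathlib.FieldTheory.IsAlgClosed.AlgebraicClosure

/-!
# Descent to finite subfields

Elements of a Chevalley group over an algebraic extension of `F` are defined over finite subextensions.
-/

set_option autoImplicit false

namespace Cfsg.Agent.ChevLang

open Cfsg.Lie Cfsg.Lie.ChevalleyDatum Cfsg.Agent.Chev Cfsg.Agent.ChevBN Cfsg.Agent.ChevFixed
  Cfsg.Agent.ChevOrder

variable {D : ChevalleyDatum} {F : Type*} [Field F] {K : Type*} [Field K] [Algebra F K]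
  [Algebra.IsAlgebraic F K]

/-- A finite set lies in a finite subextension. -/
theorem exists_subfield (s : Finset K) :
    ∃ L : IntermediateField F K, FiniteDimensional F L ∧ ∀ a ∈ s, a ∈ L :=
  ⟨IntermediateField.adjoin F (s : Set K),
    IntermediateField.finiteDimensional_adjoin fun a _ => (Algebra.IsAlgebraic.isAlgebraic a).isIntegral,
    fun _ ha => IntermediateField.subset_adjoin F _ ha⟩

omit [Algebra.IsAlgebraic F K] in
theorem map_group_mono (hD : Good D) {L L' : IntermediateField F K} (h : L ≤ L') :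
    (D.group L).map (mapG D (algebraMap L K)) ≤ (D.group L').map (mapG D (algebraMap L' K)) := by
  rw [ChevalleyDatum.group, MonoidHom.map_closure]
  refine (Subgroup.closure_le _).2 ?_
  rintro _ ⟨z, ⟨r, t, e⟩, rfl⟩
  obtain rfl : z = xg hD L r.val t := Units.ext (by rw [e]; simp [ChevalleyDatum.x])
  exact ⟨xg hD L' r.val ⟨(t : K), h t.2⟩, xg_mem_group hD _ _, by rw [mapG_xg hD, mapG_xg hD]; rfl⟩

/-- An element of the group is defined over all sufficiently large finite subextensions. -/
theorem exists_defined (hD : Good D) {g : GL D.Idx K} (hg : g ∈ D.group K) :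
    ∃ L : IntermediateField F K, FiniteDimensional F L ∧
      g ∈ (D.group L).map (mapG D (algebraMap L K)) := by
  induction hg using Subgroup.closure_induction with
  | mem z hz =>
    obtain ⟨r, t, e⟩ := hz
    obtain rfl : z = xg hD K r.val t := Units.ext (by rw [e]; simp [ChevalleyDatum.x])
    obtain ⟨L, hL, hmem⟩ := exists_subfield (F := F) {t}
    exact ⟨L, hL, xg hD L r.val ⟨t, hmem t (Finset.mem_singleton_self t)⟩, xg_mem_group hD _ _,
      mapG_xg hD _ _ _⟩
  | one => exact ⟨⊥, inferInstance, one_mem _⟩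
  | mul a b _ _ ha hb =>
    obtain ⟨L, hL, ha⟩ := ha
    obtain ⟨L', hL', hb⟩ := hb
    exact ⟨L ⊔ L', IntermediateField.finiteDimensional_sup L L',
      mul_mem (map_group_mono hD le_sup_left ha) (map_group_mono hD le_sup_right hb)⟩
  | inv a _ ha =>
    obtain ⟨L, hL, ha⟩ := ha
    exact ⟨L, hL, inv_mem ha⟩

/-- A diagonal element is defined over all sufficiently large finite subextensions. -/
theorem exists_defined_torus (hD : Good D) (c : Fin D.rank → Kˣ) :
    ∃ L : IntermediateField F K, FiniteDimensional F L ∧ ∀ L' : IntermediateField F K, L ≤ L' →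
      ∃ c' : Fin D.rank → L'ˣ, mapG D (algebraMap L' K) (torusHom D L' c') = torusHom D K c := by
  classical
  obtain ⟨L, hL, hmem⟩ := exists_subfield (F := F) (Finset.univ.image fun i => (c i : K))
  refine ⟨L, hL, fun L' hle => ⟨fun i => Units.mk0 ⟨(c i : K), hle (hmem _ (Finset.mem_image_of_mem _
    (Finset.mem_univ i)))⟩ (fun e => (c i).ne_zero (congrArg Subtype.val e)), ?_⟩⟩
  rw [mapG_torusHom hD]
  congr 1
  funext i
  exact Units.ext rfl

end Cfsg.Agent.ChevLang
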