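import Cfsg.Agent.EqLemmas
import Cfsg.Agent.Lib.ChevSt.Cards
import Cfsg.Agent.Lib.ChevFixed.Basic

/-!
# The Steinberg group as a functor of the field

`stMap`, its compatibility with the map to the Chevalley group and with the torus, and `TorusInj`: injectivity of
the torus of the Steinberg group, with the seven tabulated instances in question.
-/

set_option autoImplicit false

namespace Cfsg.Agent.ChevLang

open Cfsg.Lie Cfsg.Lie.ChevalleyDatum Cfsg.Agent.Chev Cfsg.Agent.ChevBN Cfsg.Agent.ChevFixed
  Cfsg.Agent.ChevSt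

variable {D : ChevalleyDatum} {F K : Type*} [Field F] [Field K]

/-- The map of free groups. -/
def freeMap (D : ChevalleyDatum) (f : F →+* K) :
    FreeGroup (Fin D.nroots × F) →* FreeGroup (Fin D.nroots × K) :=
  FreeGroup.map fun p => (p.1, f p.2)

theorem freeMap_stX (f : F →+* K) (r : ℕ) (t : F) : freeMap D f (D.stX r t) = D.stX r (f t) := by
  by_cases hr : r < D.nroots
  · simp only [ChevalleyDatum.stX, dif_pos hr, freeMap, FreeGroup.map.of]
  · simp only [ChevalleyDatum.stX, dif_neg hr, map_one]

theorem freeMap_stWord (f : F →+* K) (w : List (ℕ × F)) :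
    freeMap D f (D.stWord w) = D.stWord (w.map fun p => (p.1, f p.2)) := by
  simp only [ChevalleyDatum.stWord, map_list_prod, List.map_map]
  congr 1
  exact List.map_congr_left fun p _ => freeMap_stX f p.1 p.2

theorem freeMap_stH (f : F →+* K) (r : ℕ) (t : F) : freeMap D f (D.stH r t) = D.stH r (f t) := by
  rw [ChevalleyDatum.stH, freeMap_stWord]
  congr 1
  simp [ChevalleyDatum.hWord, ChevalleyDatum.nWord]

theorem freeMap_rels (f : F →+* K) :
    ∀ g ∈ D.steinbergRels F, freeMap D f g ∈ D.steinbergRels K := by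
  rintro g ((⟨r, t, u, hr, rfl⟩ | ⟨r, s, t, u, hr, hs, h₁, h₂, rfl⟩) | ⟨r, t, u, hr, ht, hu, rfl⟩)
  · exact Or.inl (Or.inl ⟨r, f t, f u, hr, by simp [freeMap_stX]⟩)
  · refine Or.inl (Or.inr ⟨r, s, f t, f u, hr, hs, h₁, h₂, ?_⟩)
    simp only [map_mul, map_inv, freeMap_stX, freeMap_stWord]
    congr 3
    simp [ChevalleyDatum.commWord, Function.comp_def]
  · exact Or.inr ⟨r, f t, f u, hr, (map_ne_zero f).2 ht, (map_ne_zero f).2 hu, by simp [freeMap_stH]⟩

/-- The map of Steinberg groups. -/
def stMap (D : ChevalleyDatum) (f : F →+* K) : D.SteinbergGroup F →* D.SteinbergGroup K :=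
  PresentedGroup.toGroup (f := fun p => PresentedGroup.mk (D.steinbergRels K) (FreeGroup.of (p.1, f p.2))) <| by
    intro g hg
    have e : FreeGroup.lift (fun p : Fin D.nroots × F =>
        PresentedGroup.mk (D.steinbergRels K) (FreeGroup.of (p.1, f p.2))) =
        (PresentedGroup.mk (D.steinbergRels K)).comp (freeMap D f) :=
      FreeGroup.ext_hom _ _ fun p => by simp [freeMap]
    rw [e, MonoidHom.comp_apply]
    exact PresentedGroup.one_of_mem (freeMap_rels f g hg)

theorem stMap_mk (f : F →+* K) (w : FreeGroup (Fin D.nroots × F)) :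
    stMap D f (PresentedGroup.mk _ w) = PresentedGroup.mk _ (freeMap D f w) := by
  have e : (stMap D f).comp (PresentedGroup.mk (D.steinbergRels F)) =
      (PresentedGroup.mk (D.steinbergRels K)).comp (freeMap D f) :=
    FreeGroup.ext_hom _ _ fun p => by simp [stMap, freeMap]; rfl
  exact DFunLike.congr_fun e w

theorem stMap_comp {L : Type*} [Field L] (f : F →+* K) (g : K →+* L) (z : D.SteinbergGroup F) :
    stMap D g (stMap D f z) = stMap D (g.comp f) z := by
  obtain ⟨w, rfl⟩ := PresentedGroup.mk_surjective _ z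
  rw [stMap_mk, stMap_mk, stMap_mk]
  congr 1
  rw [← MonoidHom.comp_apply]
  congr 1
  exact FreeGroup.ext_hom _ _ fun p => by simp [freeMap]

variable (hD : Good D)
include hD

/-- The map to matrices commutes with field maps. -/
theorem th_stMap (f : F →+* K) (z : D.SteinbergGroup F) :
    (stSys (F := K) hD).th (stMap D f z) = mapG D f ((stSys (F := F) hD).th z) := by
  have e : (stSys (F := K) hD).th.comp (stMap D f) = (mapG D f).comp (stSys (F := F) hD).th := by
    refine MonoidHom.eq_of_eqOn_dense (stSys_gen hD) ?_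
    rintro _ ⟨r, t, rfl⟩
    show (stSys (F := K) hD).th (stMap D f (PresentedGroup.mk _ (D.stX r t))) = _
    rw [stMap_mk, freeMap_stX]
    show (stSys (F := K) hD).th ((stSys (F := K) hD).x r (f t)) = _
    rw [(stSys (F := K) hD).th_xg hD, MonoidHom.comp_apply, (stSys (F := F) hD).th_xg hD, mapG_xg hD]
  exact DFunLike.congr_fun e z

variable {M : List (List ℤ)} {d : ℤ} (hR : Roots D M d)
  (hX : ∀ i < D.rank, Decomp D (D.simple i) ∧ Decomp D (D.neg (D.simple i)))
include hR hX

/-- The torus of the Steinberg group. -/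
noncomputable def tau (K : Type*) [Field K] : (Fin D.rank → Kˣ) →* D.SteinbergGroup K :=
  (stSys (F := K) hD).torusHom hD hR hX (stSys_mul hD)

theorem th_tau (c : Fin D.rank → Kˣ) : (stSys (F := K) hD).th (tau hD hR hX K c) = ChevOrder.torusHom D K c := by
  have e := DFunLike.congr_fun ((stSys (F := K) hD).th_torusHom hD hR hX (stSys_mul hD)) c
  refine e.trans (Units.ext ?_)
  rw [ChevOrder.coe_torusHom]
  show Matrix.diagonal _ = Matrix.diagonal _
  congr 1
  funext a
  rcases a with i | s
  · rfl
  · show ((ChevSt.chi D K c s : Kˣ) : K) = ((ChevOrder.chi c s.val : Kˣ) : K)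
    congr 1
    show ∏ i, c i ^ D.pairing (D.simple i.val) s.val = ∏ i, c i ^ D.cartan i.val s.val
    exact Finset.prod_congr rfl fun i _ => by rw [pairing_simple hD i.isLt]

theorem stMap_tau (f : F →+* K) (c : Fin D.rank → Fˣ) :
    stMap D f (tau hD hR hX F c) = tau hD hR hX K (fun i => Units.map f.toMonoidHom (c i)) := by
  have e : (stMap D f).comp (tau hD hR hX F) =
      (tau hD hR hX K).comp (MonoidHom.pi fun i => (Units.map f.toMonoidHom).comp (Pi.evalMonoidHom _ i)) := by
    refine pi_hom_ext fun i y => ?_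
    rw [MonoidHom.comp_apply, MonoidHom.comp_apply]
    have e2 : (MonoidHom.pi fun j => (Units.map f.toMonoidHom).comp (Pi.evalMonoidHom _ j)) (Pi.mulSingle i y) =
        Pi.mulSingle i (Units.map f.toMonoidHom y) := by
      funext j
      show Units.map f.toMonoidHom ((Pi.mulSingle i y : Fin D.rank → Fˣ) j) = _
      rcases eq_or_ne j i with rfl | h
      · simp
      · simp [Pi.mulSingle_eq_of_ne h]
    rw [e2, tau, tau, Sys.torusHom, Sys.torusHom, MonoidHom.noncommPiCoprod_mulSingle,
      MonoidHom.noncommPiCoprod_mulSingle]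
    show stMap D f ((stSys (F := F) hD).h (D.simple i.val) (y : F)) =
      (stSys (F := K) hD).h (D.simple i.val) (f y)
    rw [stSys_h, stSys_h, stMap_mk, freeMap_stH]
  exact DFunLike.congr_fun e c

/-- The kernel of the map to matrices comes from the torus. -/
theorem exists_tau_of_th {z : D.SteinbergGroup K}
    (h : (stSys (F := K) hD).th z ∈ D.diagonalSubgroup K) : ∃ c, tau hD hR hX K c = z := by
  obtain ⟨c, hc⟩ := (ChevOrder.torusHom_range hD).ge h
  have hk : z * (tau hD hR hX K c)⁻¹ ∈ (stSys (F := K) hD).th.ker := by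
    rw [MonoidHom.mem_ker, map_mul, map_inv, th_tau, hc, mul_inv_cancel]
  rw [(stSys (F := K) hD).ker_eq_map hD hR hX (stSys_mul hD) (stSys_gen hD)] at hk
  obtain ⟨k, -, hk⟩ := hk
  refine ⟨k * c, ?_⟩
  rw [map_mul]
  show (stSys (F := K) hD).torusHom hD hR hX (stSys_mul hD) k * _ = z
  rw [hk, inv_mul_cancel_right]

/-- Injectivity for data with unimodular Cartan matrix. -/
theorem tau_injective_of_one (h1 : d = 1) : Function.Injective (tau hD hR hX K) := by
  rw [injective_iff_map_eq_one]
  intro c hc
  have e := DFunLike.congr_fun ((stSys (F := K) hD).th_torusHom hD hR hX (stSys_mul hD)) c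
  rw [MonoidHom.comp_apply, show (stSys (F := K) hD).torusHom hD hR hX (stSys_mul hD) c = 1 from hc, map_one,
    MonoidHom.comp_apply] at e
  have h2 : ChevSt.chi D K c = 1 := dgU_inj D K (by rw [map_one]; exact e.symm)
  funext i
  simpa [h1] using pow_eq_one_of_chi hD hR h2 i

end Cfsg.Agent.ChevLang
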