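import Cfsg.Agent.EqLemmas
import Cfsg.Agent.Lib.ChevLang.StMap
import Cfsg.Agent.Lib.ChevLang.Descent

/-!
# Elements with fixed lifts come from the group over the fixed field

`exists_fixed_split`: a fixed element is a diagonal element between two elements from the fixed field.
`mem_image_of_fixed`: over an algebraic extension of a finite field, the image of a fixed element of the Steinberg
group comes from the group over the finite field, when the torus of the Steinberg group is parametrised injectively.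
-/

set_option autoImplicit false

namespace Cfsg.Agent.ChevLang

open Cfsg.Lie Cfsg.Lie.ChevalleyDatum Cfsg.Agent.Chev Cfsg.Agent.ChevBN Cfsg.Agent.ChevFixed
  Cfsg.Agent.ChevSt

universe u v

theorem mapG_comp {D : ChevalleyDatum} {F K L : Type*} [Field F] [Field K] [Field L] (f : F →+* K) (g : K →+* L)
    (x : GL D.Idx F) : mapG D g (mapG D f x) = mapG D (g.comp f) x := by
  apply Units.ext
  ext a b
  rfl

section Split

variable {D : ChevalleyDatum} {F : Type u} [Field F] [Finite F] {K : Type v} [Field K] (hD : Good D)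
  {M : List (List ℤ)} {d : ℤ} (hR : Roots D M d)

include hR in
/-- A fixed element is a diagonal element up to elements over the fixed field. -/
theorem exists_fixed_split (ι : K →+* F) (σ : F →+* F) (hfix : ∀ t, σ t = t → ∃ t₀, ι t₀ = t)
    {g : GL D.Idx F} (hg : g ∈ D.group F) (hfg : mapG D σ g = g) :
    ∃ v ∈ fixedImage ι hD, ∃ w ∈ fixedImage ι hD, ∃ h ∈ D.diagonalSubgroup F, g = v * h * w := by
  set R := chevRGD hD hR F
  rw [← chev_G hD hR] at hg
  obtain ⟨b, hb, l, u, hu, e⟩ := R.exists_normalForm hg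
  have hnfix : mapG D σ (R.nw l) = R.nw l := by
    show mapG D σ ((l.map R.n).prod) = (l.map R.n).prod
    rw [map_list_prod, List.map_map]
    congr 1
    refine List.map_congr_left fun i _ => ?_
    show mapG D σ (ng hD F (D.simple i.val) 1) = ng hD F (D.simple i.val) 1
    rw [mapG_ng hD, map_one]
  have hnI : R.nw l ∈ fixedImage ι hD := by
    refine list_prod_mem fun x hx => ?_
    obtain ⟨i, -, rfl⟩ := List.mem_map.1 hx
    refine ⟨ng hD K (D.simple i.val) 1, ?_, by rw [mapG_ng hD, map_one]; rfl⟩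
    exact mul_mem (mul_mem (xg_mem_group hD _ _) (xg_mem_group hD _ _)) (xg_mem_group hD _ _)
  have hu' : mapG D σ u ∈ R.Uminus l := by
    have h : (R.Uminus l).map (mapG D σ) ≤ R.Uminus l := by
      show (R.span _).map _ ≤ R.span _
      rw [RGD.RootData.span, Subgroup.map_iSup]
      refine iSup_le fun s => ?_
      rw [Subgroup.map_iSup]
      refine iSup_le fun hs => ?_
      rintro _ ⟨x, hx, rfl⟩
      obtain ⟨t, rfl⟩ := (mem_rootSubgroup hD _).1 hx
      rw [mapG_xg hD]
      exact R.U_le_span hs (xg_mem_rootSubgroup hD _ _)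
    exact h ⟨u, hu, rfl⟩
  have hb' : mapG D σ b ∈ R.B := by
    rw [chev_B hD hR] at hb ⊢
    exact mapG_borel hD σ hb
  have e2 : b * R.nw l * u = mapG D σ b * R.nw l * mapG D σ u := by
    rw [← e, ← hfg, e, map_mul, map_mul, hnfix]
  obtain ⟨ebb, euu⟩ := R.normalForm_unique (k := 1) (one_mem _) (one_mul _).symm hb hb' hu hu' e2
  rw [chev_B hD hR] at hb
  obtain ⟨v, hv, h, hh, rfl⟩ := (ChevOrder.mem_borel_iff hD).1 hb
  have hvh : mapG D σ v = v := by
    have h1 : v⁻¹ * mapG D σ v = h * (mapG D σ h)⁻¹ := by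
      have e3 : v * h = mapG D σ v * mapG D σ h := by rw [← map_mul]; exact ebb
      rw [inv_mul_eq_iff_eq_mul, ← mul_assoc, e3, mul_inv_cancel_right]
    have h2 : v⁻¹ * mapG D σ v ∈ D.posUnipotent F ⊓ D.diagonalSubgroup F :=
      Subgroup.mem_inf.2 ⟨Subgroup.mul_mem _ (Subgroup.inv_mem _ hv) (mapG_pos hD σ hv),
        h1 ▸ Subgroup.mul_mem _ hh (Subgroup.inv_mem _ (mapG_diag hD σ hh))⟩
    rw [ChevOrder.posUnipotent_inf_diagonal hD, Subgroup.mem_bot] at h2
    exact (inv_mul_eq_one.1 h2).symm
  have huU : u ∈ D.posUnipotent F := by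
    rw [← chev_Upos hD hR]
    exact R.Uminus_le_Upos l hu
  exact ⟨v, fixed_pos hD ι σ hfix hv hvh, R.nw l * u, mul_mem hnI (fixed_pos hD ι σ hfix huU euu.symm), h, hh,
    by rw [e]; group⟩

end Split

variable {F : Type u} [Field F] [Fintype F] {K : Type v} [Field K] [Algebra F K]

/-- The fixed points of the Frobenius map. -/
theorem exists_eq_of_pow_card {z : K} (hz : z ^ Fintype.card F = z) : ∃ a : F, algebraMap F K a = z := by
  classical
  let P : Polynomial K := Polynomial.X ^ Fintype.card F - Polynomial.X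
  have h1 : 1 < Fintype.card F := Fintype.one_lt_card
  have hP : P ≠ 0 := FiniteField.X_pow_card_sub_X_ne_zero K h1
  have hsub : Finset.univ.image (algebraMap F K) ⊆ P.roots.toFinset := by
    intro x hx
    obtain ⟨a, -, rfl⟩ := Finset.mem_image.1 hx
    simp [P, Polynomial.mem_roots hP, ← map_pow, FiniteField.pow_card]
  have hcard : P.roots.toFinset.card ≤ (Finset.univ.image (algebraMap F K)).card := by
    rw [Finset.card_image_of_injective _ (algebraMap F K).injective, Finset.card_univ]
    refine (Multiset.toFinset_card_le _).trans ((Polynomial.card_roots' P).trans ?_)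
    rw [FiniteField.X_pow_card_sub_X_natDegree_eq K h1]
  have hmem : z ∈ P.roots.toFinset := by simp [P, Polynomial.mem_roots hP, hz]
  rw [← Finset.eq_of_subset_of_card_le hsub hcard] at hmem
  obtain ⟨a, -, ha⟩ := Finset.mem_image.1 hmem
  exact ⟨a, ha⟩

variable [Algebra.IsAlgebraic F K] {D : ChevalleyDatum} (hD : Good D) {M : List (List ℤ)} {d : ℤ}
  (hR : Roots D M d) (hX : ∀ i < D.rank, Decomp D (D.simple i) ∧ Decomp D (D.neg (D.simple i)))

omit [Fintype F] [Algebra F K] [Algebra.IsAlgebraic F K] in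
include hD in
/-- Elements of the group lift to the Steinberg group. -/
theorem exists_lift {g : GL D.Idx F} (hg : g ∈ D.group F) : ∃ a, (stSys (F := F) hD).th a = g := by
  induction hg using Subgroup.closure_induction with
  | mem z hz =>
    obtain ⟨r, t, e⟩ := hz
    exact ⟨(stSys (F := F) hD).x r.val t, Units.ext (by rw [(stSys (F := F) hD).th_x, e]; simp [ChevalleyDatum.x])⟩
  | one => exact ⟨1, map_one _⟩
  | mul a b _ _ ha hb =>
    obtain ⟨a', rfl⟩ := ha
    obtain ⟨b', rfl⟩ := hb
    exact ⟨a' * b', map_mul _ _ _⟩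
  | inv a _ ha =>
    obtain ⟨a', rfl⟩ := ha
    exact ⟨a'⁻¹, map_inv _ _⟩

omit [Fintype F] [Algebra F K] [Algebra.IsAlgebraic F K] in
include hD in
theorem th_mem_group (z : D.SteinbergGroup F) : (stSys (F := F) hD).th z ∈ D.group F := by
  have h : (⊤ : Subgroup (D.SteinbergGroup F)).map (stSys (F := F) hD).th ≤ D.group F := by
    rw [← stSys_gen hD, MonoidHom.map_closure]
    refine (Subgroup.closure_le _).2 ?_
    rintro _ ⟨_, ⟨r, t, rfl⟩, rfl⟩
    rw [(stSys (F := F) hD).th_xg hD]
    exact xg_mem_group hD _ _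
  exact h ⟨z, Subgroup.mem_top z, rfl⟩

include hR hX in
/-- The image of a fixed element of the Steinberg group comes from the finite field. -/
theorem mem_image_of_fixed (hinj : Function.Injective (tau hD hR hX K)) (σ : K →+* K)
    (hσ : ∀ z, σ z = z ^ Fintype.card F) {z : D.SteinbergGroup K} (hz : stMap D σ z = z) :
    (stSys (F := K) hD).th z ∈ fixedImage (algebraMap F K) hD := by
  have hσι : σ.comp (algebraMap F K) = algebraMap F K :=
    RingHom.ext fun a => by rw [RingHom.comp_apply, hσ, ← map_pow, FiniteField.pow_card]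
  set g := (stSys (F := K) hD).th z with hgdef
  have hgfix : mapG D σ g = g := by rw [hgdef, ← th_stMap hD, hz]
  obtain ⟨L, hL, gL, hgL, eg⟩ := exists_defined (F := F) hD (th_mem_group hD z)
  have : Finite L := Module.finite_of_finite F
  let σL : L →+* L := (σ.comp (algebraMap L K)).codRestrict L.toSubfield.toSubring fun x => by
    show σ (x : K) ∈ L
    rw [hσ]
    exact pow_mem x.2 _
  have hσL : (algebraMap L K).comp σL = σ.comp (algebraMap L K) := RingHom.ext fun x => rfl
  have hfixL : mapG D σL gL = gL := by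
    apply mapG_injective (algebraMap L K)
    rw [mapG_comp, hσL, ← mapG_comp, eg, hgfix]
  have hfix : ∀ t, σL t = t → ∃ t₀, algebraMap F L t₀ = t := fun t ht => by
    have h1 : σ (t : K) = t := congrArg Subtype.val ht
    rw [hσ] at h1
    obtain ⟨a, ha⟩ := exists_eq_of_pow_card h1
    exact ⟨a, Subtype.ext ha⟩
  obtain ⟨_, ⟨v, hv, rfl⟩, _, ⟨w, hw, rfl⟩, h, hh, e⟩ :=
    exists_fixed_split hD hR (algebraMap F L) σL hfix hgL hfixL
  obtain ⟨a, rfl⟩ := exists_lift hD hv
  obtain ⟨b, rfl⟩ := exists_lift hD hw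
  have hιL : (algebraMap L K).comp (algebraMap F L) = algebraMap F K := RingHom.ext fun x => rfl
  set h' := mapG D (algebraMap L K) h with hh'
  have e' : g = mapG D (algebraMap F K) ((stSys (F := F) hD).th a) * h' *
      mapG D (algebraMap F K) ((stSys (F := F) hD).th b) := by
    rw [hgdef, ← eg, e, map_mul, map_mul, mapG_comp, mapG_comp, hιL, hh']
  set z' := (stMap D (algebraMap F K) a)⁻¹ * z * (stMap D (algebraMap F K) b)⁻¹ with hz'
  have hth : (stSys (F := K) hD).th z' = h' := by
    rw [hz', map_mul, map_mul, map_inv, map_inv, th_stMap hD, th_stMap hD, ← hgdef, e']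
    group
  have hfix' : stMap D σ z' = z' := by
    rw [hz', map_mul, map_mul, map_inv, map_inv, stMap_comp, stMap_comp, hσι, hz]
  obtain ⟨c, hc⟩ := exists_tau_of_th hD hR hX (z := z') (hth ▸ mapG_diag hD _ hh)
  rw [← hc, stMap_tau hD hR hX] at hfix'
  have hc' := hinj hfix'
  choose c₀ hc₀ using fun i => exists_eq_of_pow_card (F := F) (z := (c i : K))
    (by rw [← hσ]; exact congrArg (fun x : Fin D.rank → Kˣ => (x i : K)) hc')
  have hne : ∀ i, c₀ i ≠ 0 := fun i h0 => (c i).ne_zero (by rw [← hc₀ i, h0, map_zero])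
  have hm : mapG D (algebraMap F K) (ChevOrder.torusHom D F fun i => Units.mk0 (c₀ i) (hne i)) = h' := by
    rw [← hth, ← hc, th_tau, mapG_torusHom hD]
    congr 1
    funext i
    exact Units.ext (hc₀ i)
  have hT : h' ∈ fixedImage (algebraMap F K) hD :=
    ⟨_, borel_le_group hD hR (Subgroup.mem_sup_right
      ((ChevOrder.torusHom_range (F := F) hD).le ⟨_, rfl⟩)), hm⟩
  rw [e']
  exact mul_mem (mul_mem ⟨_, th_mem_group hD a, rfl⟩ hT) ⟨_, th_mem_group hD b, rfl⟩

end Cfsg.Agent.ChevLang
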