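import Cfsg.Agent.EqLemmas
import Cfsg.Agent.Lib.ChevTorus.Regular
import Cfsg.Agent.Lib.ChevLang.Fixed

/-!
# Centralisers of toral elements without root value one and without symmetries

`mem_diagonal_of_regular`: over a finite field, an element of the group commuting with a toral element whose values at
the roots differ from one is diagonal, provided that no Weyl group element other than one preserves these values.
`mem_diagonal_of_regular'`: the same over an algebraic extension of a finite field.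
-/

set_option autoImplicit false

namespace Cfsg.Agent.ChevLang

open Cfsg.Lie Cfsg.Lie.ChevalleyDatum Cfsg.Agent.Chev Cfsg.Agent.ChevBN Cfsg.Agent.ChevFixed
  Cfsg.Agent.ChevSt

/-- The action of a word in the fundamental reflections on root indices. -/
def wl (D : ChevalleyDatum) (l : List (Fin D.rank)) (r : ℕ) : ℕ := l.foldr (fun i q => wN D i.val q) r

variable {D : ChevalleyDatum} {M : List (List ℤ)} {d : ℤ} (hD : Good D) (hR : Roots D M d)
  {F : Type*} [Field F]

include hD hR in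
theorem wl_eq (l : List (Fin D.rank)) (r : Fin D.nroots) :
    ((chevRGD hD hR F).ww l r).val = wl D l r.val := by
  induction l with
  | nil => rfl
  | cons i l ih =>
    show wN D i.val ((chevRGD hD hR F).ww l r).val = wN D i.val (wl D l r.val)
    rw [ih]

include hD in
/-- A unipotent element commuting with a toral element without root value one is trivial. -/
theorem eq_one_of_commute_pos [Finite F] {h : GL D.Idx F} {χ : ℕ → Fˣ}
    (hscale : ∀ q < D.nroots, ∀ u : F, h * xg hD F q u = xg hD F q ((χ q : F) * u) * h)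
    (hne : ∀ q < D.nroots, χ q ≠ 1) {u : GL D.Idx F} (hu : u ∈ D.posUnipotent F) (hc : h * u = u * h) :
    u = 1 := by
  have hxc : ∀ q < D.nroots, ∀ t : F, h * xg hD F q t * h⁻¹ = xg hD F q ((χ q : F) * t) := fun q hq t => by
    rw [hscale q hq t, mul_inv_cancel_right]
  obtain ⟨o, ho⟩ := hD.order
  have hlin : IsLin D o := ⟨ho.add, ho.neg⟩
  suffices H : ∀ (m : ℕ) (T : Finset ℕ), T.card = m → (∀ q ∈ T, q < D.nroots ∧ 0 < o q) →
      (∀ r ∈ T, ∀ s ∈ T, s ≠ r → ∀ τ ∈ D.commTerms r s, τ.1 ∈ T) →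
      ∀ g ∈ (ChevOrder.matSys D hD F).genBy (T : Set ℕ), h * g * h⁻¹ = g → g = 1 by
    set A := (Finset.range D.nroots).filter fun r => D.IsPosRoot r with hA
    have hmem : ∀ r, r ∈ A ↔ r < D.nroots ∧ 0 < o r := fun r => by
      simp only [hA, Finset.mem_filter, Finset.mem_range]
      exact and_congr_right fun hr => ho.pos_iff r hr
    refine H _ A rfl (fun q hq => (hmem q).1 hq) ?_ u ?_ (by rw [hc, mul_inv_cancel_right])
    · intro r hr s hs hne' τ hτ
      obtain ⟨hr1, hr2⟩ := (hmem r).1 hr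
      obtain ⟨hs1, hs2⟩ := (hmem s).1 hs
      have h₂ : s ≠ D.neg r := by rintro rfl; rw [hlin.neg r hr1] at hs2; omega
      obtain ⟨h3, h4, h5, h6⟩ := hlin.commTerms hD hr1 hs1 hne' h₂ hτ
      exact (hmem _).2 ⟨h3, by rw [h6]; positivity⟩
    · refine Subgroup.closure_mono ?_ hu
      rintro g ⟨r, t, hr, hg⟩
      exact ⟨r, (hmem r).2 ⟨hr.1, (ho.pos_iff r hr.1).1 hr⟩, t, Units.ext hg⟩
  intro m
  induction m with
  | zero =>
    intro T hT _ _ g hg _
    rw [Finset.card_eq_zero] at hT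
    subst hT
    simpa [Sys.genBy] using hg
  | succ m ih =>
    intro T hT hpos hclosed g hg hfg
    obtain ⟨k, hk, hT'card, hclosed', -, hdec, huniq, -, -⟩ := genBy_step (F := F) hD hlin hT hpos hclosed
    obtain ⟨t, g', hg', rfl⟩ := hdec g hg
    have hconj : ∀ a ∈ (ChevOrder.matSys D hD F).genBy (T.erase k : Set ℕ),
        h * a * h⁻¹ ∈ (ChevOrder.matSys D hD F).genBy (T.erase k : Set ℕ) := by
      intro a ha
      induction ha using Subgroup.closure_induction with
      | mem z hz =>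
        obtain ⟨q, hq, v, rfl⟩ := hz
        show h * xg hD F q v * h⁻¹ ∈ _
        rw [hxc q (hpos q (Finset.mem_of_mem_erase hq)).1]
        exact (ChevOrder.matSys D hD F).x_mem_genBy hq _
      | one => rw [mul_one, mul_inv_cancel]; exact one_mem _
      | mul a b _ _ ha hb =>
        rw [show h * (a * b) * h⁻¹ = (h * a * h⁻¹) * (h * b * h⁻¹) by group]
        exact mul_mem ha hb
      | inv a _ ha =>
        rw [show h * a⁻¹ * h⁻¹ = (h * a * h⁻¹)⁻¹ by group]
        exact inv_mem ha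
    have e : xg hD F k ((χ k : F) * t) * (h * g' * h⁻¹) = xg hD F k t * g' := by
      rw [← hxc k (hpos k hk).1]
      conv_rhs => rw [← hfg]
      group
    obtain ⟨e1, e2⟩ := huniq _ _ _ (hconj g' hg') g' hg' e
    have ht : t = 0 := by
      by_contra ht
      exact hne k (hpos k hk).1 (Units.ext (mul_right_cancel₀ ht (e1.trans (one_mul t).symm)))
    subst ht
    rw [ih (T.erase k) hT'card (fun q hq => hpos q (Finset.mem_of_mem_erase hq)) hclosed' g' hg' e2, xg_zero,
      mul_one]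

include hD hR in
/-- An element of the group commuting with a toral element without root value one and without symmetries in the
Weyl group is diagonal. -/
theorem mem_diagonal_of_regular [Finite F] {h : GL D.Idx F} (hh : h ∈ D.diagonalSubgroup F) {χ : ℕ → Fˣ}
    (hχ : (h : Matrix D.Idx D.Idx F) = dg χ) (hne : ∀ q < D.nroots, χ q ≠ 1)
    (hrig : ∀ l : List (Fin D.rank), (∀ r < D.nroots, χ (wl D l r) = χ r) → ∀ r < D.nroots, wl D l r = r)
    {g : GL D.Idx F} (hg : g ∈ D.group F) (hc : g * h = h * g) : g ∈ D.diagonalSubgroup F := by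
  let R := chevRGD hD hR F
  obtain ⟨χ', hχ', htor⟩ := isToral_of_mem hD hh
  have hscale : ∀ q < D.nroots, ∀ u : F, h * xg hD F q u = xg hD F q ((χ q : F) * u) * h := by
    intro q hq u
    have e := congrArg (fun N : Matrix D.Idx D.Idx F => N (Sum.inr ⟨q, hq⟩) (Sum.inr ⟨q, hq⟩))
      (hχ.symm.trans hχ')
    simp only [dg, Matrix.diagonal_apply_eq, Sum.elim_inr] at e
    rw [e]
    exact htor q u
  have hU : ∀ u ∈ D.posUnipotent F, h * u = u * h → u = 1 := fun u hu hcu =>
    eq_one_of_commute_pos hD hscale hne hu hcu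
  rw [← chev_G hD hR] at hg
  obtain ⟨b, hb, l, u, hu, rfl⟩ := R.exists_normalForm hg
  have hhH : h ∈ R.H := hh
  set m := R.nw l * h⁻¹ * (R.nw l)⁻¹ with hm
  have hmH : m ∈ R.H := R.nw_conj_H l (inv_mem hhH)
  have hconj : h * u * h⁻¹ ∈ R.Uminus l := R.H_conj_span _ hhH _ hu
  have e : b * R.nw l * u = h * b * m * R.nw l * (h * u * h⁻¹) := by
    calc b * R.nw l * u = h * (b * R.nw l * u) * h⁻¹ := by rw [← hc, mul_inv_cancel_right]
      _ = _ := by rw [hm]; group
  obtain ⟨ebb, euu⟩ := R.normalForm_unique (k := 1) (one_mem _) (one_mul _).symm hb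
    (mul_mem (mul_mem (R.H_le_B hhH) hb) (R.H_le_B hmH)) hu hconj e
  have hu1 : u = 1 := by
    refine hU u ?_ (eq_mul_inv_iff_mul_eq.1 euu).symm
    rw [← chev_Upos hD hR (F := F)]
    exact R.Uminus_le_Upos l hu
  subst hu1
  obtain ⟨v, hv, t, ht, rfl⟩ := R.exists_B hb
  have hv1 : (h * v * h⁻¹) * (h * t * m) = v * t := by
    rw [ebb]; group
  have hvU : h * v * h⁻¹ ∈ R.Upos := R.H_conj_span _ hhH _ hv
  have h2 : v⁻¹ * (h * v * h⁻¹) = t * (h * t * m)⁻¹ := by
    rw [inv_mul_eq_iff_eq_mul, ← mul_assoc, ← hv1, mul_inv_cancel_right]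
  have h3 : v⁻¹ * (h * v * h⁻¹) = 1 := by
    rw [← Subgroup.mem_bot, ← R.U_inf_H]
    exact ⟨R.Upos.mul_mem (R.Upos.inv_mem hv) hvU,
      h2 ▸ R.H.mul_mem ht (R.H.inv_mem (R.H.mul_mem (R.H.mul_mem hhH ht) hmH))⟩
  have hvh : v = 1 := by
    refine hU v ?_ ?_
    · rw [← chev_Upos hD hR (F := F)]; exact hv
    · exact (eq_mul_inv_iff_mul_eq.1 (inv_mul_eq_one.1 h3)).symm
  subst hvh
  rw [h3] at h2
  have hcom : R.nw l * h = h * R.nw l := by
    have e1 : t = h * t * m := mul_inv_eq_one.1 h2.symm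
    rw [show h * t = t * h from diag_commute hD hhH ht, mul_assoc, left_eq_mul] at e1
    have e2 : R.nw l * h * (R.nw l)⁻¹ = h := by
      have : h * (R.nw l * h⁻¹ * (R.nw l)⁻¹) = 1 := e1
      calc R.nw l * h * (R.nw l)⁻¹ = (R.nw l * h⁻¹ * (R.nw l)⁻¹)⁻¹ := by group
        _ = h := inv_eq_of_mul_eq_one_left this
    exact mul_inv_eq_iff_eq_mul.1 e2
  have hval : ∀ r : Fin D.nroots, χ (R.ww l r).val = χ r.val := by
    intro r
    obtain ⟨c, hc0, hlin⟩ := ChevTorus.nw_conj_xg hD hR (F := F) l r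
    have e1 : xg hD F (R.ww l r).val ((χ (R.ww l r).val : F) * c) * (h * R.nw l) =
        xg hD F (R.ww l r).val (c * (χ r.val : F)) * (h * R.nw l) := by
      calc xg hD F (R.ww l r).val ((χ (R.ww l r).val : F) * c) * (h * R.nw l)
          = h * (xg hD F (R.ww l r).val (c * 1) * R.nw l) := by
            rw [mul_one, ← mul_assoc, ← hscale _ (R.ww l r).isLt, mul_assoc]
        _ = h * R.nw l * xg hD F r.val 1 := by rw [← hlin, mul_assoc]
        _ = R.nw l * (h * xg hD F r.val 1) := by rw [← hcom, mul_assoc]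
        _ = R.nw l * xg hD F r.val (χ r.val : F) * h := by rw [hscale _ r.isLt, mul_one, mul_assoc]
        _ = _ := by rw [hlin, mul_assoc, hcom]
    have e2 := mul_right_cancel e1
    have e3 : xg hD F (R.ww l r).val ((χ (R.ww l r).val : F) * c + -(c * (χ r.val : F))) = 1 := by
      rw [← xg_add hD (R.ww l r).isLt, e2, xg_add hD (R.ww l r).isLt, add_neg_cancel, xg_zero]
    have e4 := xg_eq_one hD (R.ww l r).isLt e3
    exact Units.ext (mul_right_cancel₀ hc0 (by linear_combination e4))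
  have hfix : ∀ r : Fin D.nroots, R.ww l r = r := fun r => Fin.ext (by
    rw [wl_eq hD hR]
    exact hrig l (fun s hs => by rw [← wl_eq hD hR (F := F) l ⟨s, hs⟩]; exact hval ⟨s, hs⟩) r.val r.isLt)
  have hn : R.nw l ∈ R.H := R.mem_H_of_pos fun r hr => by rw [hfix]; exact hr
  rw [one_mul, mul_one]
  exact R.H.mul_mem ht hn

include hD hR in
/-- The same over an algebraic extension of a finite field. -/
theorem mem_diagonal_of_regular' [Finite F] {K : Type*} [Field K] [Algebra F K] [Algebra.IsAlgebraic F K]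
    (c : Fin D.rank → Kˣ) (hne : ∀ q < D.nroots, ChevOrder.chi c q ≠ 1)
    (hrig : ∀ l : List (Fin D.rank), (∀ r < D.nroots, ChevOrder.chi c (wl D l r) = ChevOrder.chi c r) →
      ∀ r < D.nroots, wl D l r = r)
    {g : GL D.Idx K} (hg : g ∈ D.group K)
    (hc : g * ChevOrder.torusHom D K c = ChevOrder.torusHom D K c * g) : g ∈ D.diagonalSubgroup K := by
  obtain ⟨L₁, h₁, hg1⟩ := exists_defined (F := F) hD hg
  obtain ⟨L₂, h₂, hc2⟩ := exists_defined_torus (F := F) hD c
  have : FiniteDimensional F ↥(L₁ ⊔ L₂) := IntermediateField.finiteDimensional_sup L₁ L₂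
  have : Finite ↥(L₁ ⊔ L₂) := Module.finite_of_finite F
  obtain ⟨gL, hgL, rfl⟩ := map_group_mono hD (le_sup_left : L₁ ≤ L₁ ⊔ L₂) hg1
  obtain ⟨c', hc'⟩ := hc2 (L₁ ⊔ L₂) le_sup_right
  set f := algebraMap ↥(L₁ ⊔ L₂) K with hf
  have hchi : ∀ s, Units.map f.toMonoidHom (ChevOrder.chi c' s) =
      ChevOrder.chi (fun i => Units.map f.toMonoidHom (c' i)) s := fun s => by
    simp [ChevOrder.chi, map_prod, map_zpow]
  have hcc : ∀ s < D.nroots, Units.map f.toMonoidHom (ChevOrder.chi c' s) = ChevOrder.chi c s := by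
    intro s hs
    have e : ChevOrder.torusHom D K (fun i => Units.map f.toMonoidHom (c' i)) = ChevOrder.torusHom D K c := by
      rw [← mapG_torusHom hD]; exact hc'
    have e' := congrArg (fun x : GL D.Idx K => (x : Matrix D.Idx D.Idx K) (Sum.inr ⟨s, hs⟩) (Sum.inr ⟨s, hs⟩)) e
    simp only [ChevOrder.coe_torusHom, dg, Matrix.diagonal_apply_eq, Sum.elim_inr] at e'
    rw [hchi]
    exact Units.ext e'
  refine mapG_diag hD f (mem_diagonal_of_regular hD hR ((ChevOrder.torusHom_range hD).le ⟨c', rfl⟩)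
    (ChevOrder.coe_torusHom c') (fun q hq e => hne q hq ?_) (fun l h r hr => hrig l (fun s hs => ?_) r hr) hgL
    (mapG_injective f ?_))
  · rw [← hcc q hq, e, map_one]
  · rw [← hcc s hs, ← hcc _ ?_, h s hs]
    rw [← wl_eq hD hR (F := F) l ⟨s, hs⟩]
    exact Fin.isLt _
  · rw [map_mul, map_mul, hc']
    exact hc

end Cfsg.Agent.ChevLang
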