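import Cfsg.Agent.EqLemmas
import Cfsg.Agent.Lib.ChevLang.Lang
import Cfsg.Agent.Lib.ChevLang.Regular
import Mathlib.RingTheory.Polynomial.Cyclotomic.Roots

/-!
# Cyclic twisted tori

`exists_cyclic`: a word in the fundamental reflections, with a certificate that the fixed points of the
corresponding twisted torus are cyclic of order `N` and regular, gives a self-centralising cyclic subgroup.
-/

set_option autoImplicit false

namespace Cfsg.Agent.ChevLang

open Cfsg.Lie Cfsg.Lie.ChevalleyDatum Cfsg.Agent.Chev Cfsg.Agent.ChevBN Cfsg.Agent.ChevFixed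
  Cfsg.Agent.ChevSt
open scoped Matrix

universe u

variable {D : ChevalleyDatum} {M : List (List ℤ)} {d : ℤ} (hD : Good D) (hR : Roots D M d)
  (hX : ∀ i < D.rank, Decomp D (D.simple i) ∧ Decomp D (D.neg (D.simple i)))

section Act

variable {G : Type*} [CommGroup G] {n : ℕ}

theorem act_add (A B : Matrix (Fin n) (Fin n) ℤ) (c : Fin n → G) :
    ChevOrder.act (A + B) c = ChevOrder.act A c * ChevOrder.act B c := by
  ext j
  simp [ChevOrder.act_apply, zpow_add, Finset.prod_mul_distrib]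

theorem act_smul (k : ℤ) (A : Matrix (Fin n) (Fin n) ℤ) (c : Fin n → G) :
    ChevOrder.act (k • A) c = ChevOrder.act A (c ^ k) := by
  ext j
  simp only [ChevOrder.act_apply, Pi.pow_apply, ← zpow_mul, Matrix.smul_apply, smul_eq_mul]

theorem act_smul_sub_one (k : ℤ) (A : Matrix (Fin n) (Fin n) ℤ) (c : Fin n → G) :
    ChevOrder.act (k • A - 1) c = 1 ↔ ChevOrder.act A (c ^ k) = c := by
  have e : ChevOrder.act (k • A) c = ChevOrder.act (k • A - 1) c * c := by
    conv_lhs => rw [← sub_add_cancel (k • A) (1 : Matrix (Fin n) (Fin n) ℤ), act_add, ChevOrder.act_one]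
  rw [← act_smul, e, mul_eq_right]

end Act

variable {K : Type*} [Field K]

include hD hR in
theorem exists_chi_one {c : Fin D.rank → Kˣ} (h : ChevOrder.torusHom D K c = 1) (i : Fin D.rank) :
    c i ^ d = 1 := by
  refine pow_eq_one_of_chi hD hR (t := c) ?_ i
  funext s
  have e := congrArg (fun x : GL D.Idx K => (x : Matrix D.Idx D.Idx K) (Sum.inr s) (Sum.inr s)) h
  simp only [ChevOrder.coe_torusHom, dg, Matrix.diagonal_apply_eq, Sum.elim_inr, Units.val_one,
    Matrix.one_apply_eq] at e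
  show ∏ i, c i ^ D.pairing (D.simple i.val) s.val = 1
  rw [← Units.val_eq_one.1 e]
  exact Finset.prod_congr rfl fun i _ => by rw [pairing_simple hD i.isLt]

include hD in
/-- A toral element scales root elements. -/
theorem torusHom_mul_xg (c : Fin D.rank → Kˣ) {r : ℕ} (hr : r < D.nroots) (u : K) :
    ChevOrder.torusHom D K c * xg hD K r u =
      xg hD K r ((ChevOrder.chi c r : K) * u) * ChevOrder.torusHom D K c := by
  obtain ⟨χ', hχ', htor⟩ := isToral_of_mem hD ((ChevOrder.torusHom_range (F := K) hD).le ⟨c, rfl⟩)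
  have e := congrArg (fun N : Matrix D.Idx D.Idx K => N (Sum.inr ⟨r, hr⟩) (Sum.inr ⟨r, hr⟩))
    ((ChevOrder.coe_torusHom c).symm.trans hχ')
  simp only [dg, Matrix.diagonal_apply_eq, Sum.elim_inr] at e
  rw [e]
  exact htor r u

include hD hR in
theorem wl_lt (l : List (Fin D.rank)) {r : ℕ} (hr : r < D.nroots) : wl D l r < D.nroots := by
  have := ((chevRGD hD hR ℚ).ww l ⟨r, hr⟩).isLt
  rwa [wl_eq hD hR] at this

include hD hR in
/-- Conjugation of the torus by a word. -/
theorem nw_conj_torusHom (l : List (Fin D.rank)) (A : Matrix (Fin D.rank) (Fin D.rank) ℤ)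
    (hA : ∀ i : Fin D.rank, ∀ r < D.nroots, ∑ j : Fin D.rank, A j i * D.cartan j.val (wl D l r) = D.cartan i.val r)
    (c : Fin D.rank → Kˣ) :
    (chevRGD hD hR K).nw l * ChevOrder.torusHom D K c * ((chevRGD hD hR K).nw l)⁻¹ =
      ChevOrder.torusHom D K (ChevOrder.act A c) := by
  set R := chevRGD hD hR K
  obtain ⟨c', hc'⟩ := (ChevOrder.torusHom_range (F := K) hD).ge
    (R.nw_conj_H l ((ChevOrder.torusHom_range (F := K) hD).le ⟨c, rfl⟩))
  rw [← hc']
  have hchi : ∀ r : Fin D.nroots, ChevOrder.chi c' (R.ww l r).val = ChevOrder.chi c r.val := by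
    intro r
    obtain ⟨a, ha, hlin⟩ := ChevTorus.nw_conj_xg hD hR (F := K) l r
    set t := ChevOrder.torusHom D K c
    set t' := ChevOrder.torusHom D K c'
    have ht : t' * R.nw l = R.nw l * t := by rw [hc']; group
    have e : xg hD K (R.ww l r).val ((ChevOrder.chi c' (R.ww l r).val : K) * a) * (t' * R.nw l) =
        xg hD K (R.ww l r).val (a * (ChevOrder.chi c r.val : K)) * (t' * R.nw l) := by
      calc _ = t' * (xg hD K (R.ww l r).val (a * 1) * R.nw l) := by
            rw [mul_one, ← mul_assoc, ← torusHom_mul_xg hD c' (R.ww l r).isLt, mul_assoc]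
        _ = t' * R.nw l * xg hD K r.val 1 := by rw [← hlin, mul_assoc]
        _ = R.nw l * (t * xg hD K r.val 1) := by rw [ht, mul_assoc]
        _ = R.nw l * xg hD K r.val (ChevOrder.chi c r.val : K) * t := by
            rw [torusHom_mul_xg hD c r.isLt, mul_one, mul_assoc]
        _ = _ := by rw [hlin, mul_assoc, ht]
    have e2 := mul_right_cancel e
    have e3 : xg hD K (R.ww l r).val
        ((ChevOrder.chi c' (R.ww l r).val : K) * a + -(a * (ChevOrder.chi c r.val : K))) = 1 := by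
      rw [← xg_add hD (R.ww l r).isLt, e2, xg_add hD (R.ww l r).isLt, add_neg_cancel, xg_zero]
    exact Units.ext (mul_right_cancel₀ ha (by linear_combination xg_eq_one hD (R.ww l r).isLt e3))
  apply Units.ext
  rw [ChevOrder.coe_torusHom, ChevOrder.coe_torusHom, dg, dg]
  congr 1
  funext a
  rcases a with i | s
  · rfl
  show ((ChevOrder.chi c' s.val : Kˣ) : K) = ((ChevOrder.chi (ChevOrder.act A c) s.val : Kˣ) : K)
  congr 1
  obtain ⟨r, rfl⟩ : ∃ r, R.ww l r = s := ⟨_, R.ww_ww_reverse l s⟩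
  rw [hchi, wl_eq hD hR]
  simp only [ChevOrder.chi, ChevOrder.act_apply, ← Finset.prod_zpow, ← zpow_mul]
  rw [Finset.prod_comm]
  refine Finset.prod_congr rfl fun i _ => ?_
  rw [← ChevOrder.zpow_sum', hA i r.val r.isLt]

include hD hR hX in
/-- Conjugation of the torus of the Steinberg group by a lift of a word. -/
theorem conj_tau [IsAlgClosed K] (l : List (Fin D.rank)) (A : Matrix (Fin D.rank) (Fin D.rank) ℤ)
    (hA : ∀ i : Fin D.rank, ∀ r < D.nroots, ∑ j : Fin D.rank, A j i * D.cartan j.val (wl D l r) = D.cartan i.val r)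
    {n : D.SteinbergGroup K} (hn : (stSys (F := K) hD).th n = (chevRGD hD hR K).nw l) (c : Fin D.rank → Kˣ) :
    n * tau hD hR hX K c * n⁻¹ = tau hD hR hX K (ChevOrder.act A c) := by
  set T := tau hD hR hX K
  have hker : ∀ c, (stSys (F := K) hD).th (n * T c * n⁻¹ * (T (ChevOrder.act A c))⁻¹) = 1 := fun c => by
    rw [map_mul, map_mul, map_mul, map_inv, map_inv, th_tau, th_tau, hn, nw_conj_torusHom hD hR l A hA,
      mul_inv_cancel]
  have hcen : ∀ c, n * T c * n⁻¹ * (T (ChevOrder.act A c))⁻¹ ∈ Subgroup.center (D.SteinbergGroup K) :=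
    fun c => (stSys (F := K) hD).ker_le_center hD hR hX (stSys_gen hD) (hker c)
  let ψ : (Fin D.rank → Kˣ) →* D.SteinbergGroup K :=
    MonoidHom.mk' (fun c => n * T c * n⁻¹ * (T (ChevOrder.act A c))⁻¹) fun a b => by
      have hc := Subgroup.mem_center_iff.1 (hcen b)
      calc n * T (a * b) * n⁻¹ * (T (ChevOrder.act A (a * b)))⁻¹
          = (n * T a * n⁻¹) * (n * T b * n⁻¹ * (T (ChevOrder.act A b))⁻¹) * (T (ChevOrder.act A a))⁻¹ := by
            rw [map_mul, map_mul, map_mul]; group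
        _ = n * T a * n⁻¹ * ((n * T b * n⁻¹ * (T (ChevOrder.act A b))⁻¹) * (T (ChevOrder.act A a))⁻¹) :=
            mul_assoc _ _ _
        _ = _ := by rw [← hc, mul_assoc _ (T _)⁻¹]
  have hd : ∀ c, ψ c ^ d = 1 := by
    intro c
    have h0 : (stSys (F := K) hD).th (ψ c) = 1 := hker c
    obtain ⟨k, hk⟩ := exists_tau_of_th hD hR hX (z := ψ c) (by rw [h0]; exact one_mem _)
    have h1 : k ^ d = 1 := funext fun i => exists_chi_one hD hR (by rw [← th_tau hD hR hX, hk, h0]) i
    rw [← hk, ← map_zpow, h1, map_one]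
  obtain ⟨c', hc'⟩ : ∃ c' : Fin D.rank → Kˣ, c' ^ d = c := by
    have hd' : 0 < d.toNat := by have := hR.d_pos; omega
    choose y hy using fun i => IsAlgClosed.exists_pow_nat_eq (c i : K) hd'
    have hy0 : ∀ i, y i ≠ 0 := fun i h0 => (c i).ne_zero (by rw [← hy i, h0, zero_pow hd'.ne'])
    refine ⟨fun i => Units.mk0 (y i) (hy0 i), funext fun i => Units.ext ?_⟩
    conv_lhs => rw [show d = (d.toNat : ℤ) by omega, zpow_natCast]
    simpa using hy i
  have := hd c'
  rw [← map_zpow, hc'] at this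
  exact mul_inv_eq_one.1 this

/-- The exponent of the generator of a cyclic twisted torus at a root. -/
def expo (D : ChevalleyDatum) (P : Fin D.rank → ℤ) (r : ℕ) : ℤ := ∑ i, P i * D.cartan i.val r

include hD hR hX in
/-- A self-centralising cyclic subgroup from a cyclic regular twisted torus. -/
theorem exists_cyclic {F : Type u} [Field F] [Fintype F]
    (hinj : ∀ (K : Type u) [Field K], Function.Injective (tau hD hR hX K))
    (l : List (Fin D.rank)) (A : Matrix (Fin D.rank) (Fin D.rank) ℤ)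
    (hA : ∀ i : Fin D.rank, ∀ r < D.nroots, ∑ j : Fin D.rank, A j i * D.cartan j.val (wl D l r) = D.cartan i.val r)
    {N : ℕ} (hN : (N : F) ≠ 0) (P Ψ φ : Fin D.rank → ℤ) (Y : Matrix (Fin D.rank) (Fin D.rank) ℤ)
    (h1 : ∀ i, (N : ℤ) ∣ (((Fintype.card F : ℤ) • A - 1) *ᵥ P) i) (h2 : ∑ i, Ψ i * P i = 1)
    (h3 : Matrix.vecMulVec P Ψ + Y * ((Fintype.card F : ℤ) • A - 1) = 1)
    (h4 : ∀ i, (φ ᵥ* ((Fintype.card F : ℤ) • A - 1)) i = (N : ℤ) * Ψ i)
    {g₀ : ℕ} (hg₀ : g₀ ∣ N) (hge : ∀ r < D.nroots, (g₀ : ℤ) ∣ expo D P r)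
    (hgcd : ∀ k : ℕ, (N : ℤ) ∣ k * d → N ∣ k * g₀)
    (hne : ∀ r < D.nroots, ¬ (N : ℤ) ∣ expo D P r)
    (hrig : ∀ l' : List (Fin D.rank), (∀ r < D.nroots, (N : ℤ) ∣ expo D P (wl D l' r) - expo D P r) →
      ∀ r < D.nroots, wl D l' r = r) :
    ∃ H : Subgroup ↥(D.group F), IsCyclic ↥H ∧ Nat.card ↥H = N / g₀ ∧
      Subgroup.centralizer (H : Set ↥(D.group F)) = H := by
  classical
  have hN0 : N ≠ 0 := by rintro rfl; simp at hN
  obtain ⟨p, hp⟩ := CharP.exists F
  obtain ⟨f, hpr, hqf⟩ := FiniteField.card F p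
  have : Fact p.Prime := ⟨hpr⟩
  let K := AlgebraicClosure F
  have : CharP K p := charP_of_injective_algebraMap (algebraMap F K).injective p
  have : ExpChar K p := ExpChar.prime hpr
  let σ : K →+* K := iterateFrobenius K p (f : ℕ)
  have hσ : ∀ z, σ z = z ^ Fintype.card F := fun z => by rw [hqf]; exact iterateFrobenius_def p _ z
  have hσι : σ.comp (algebraMap F K) = algebraMap F K :=
    RingHom.ext fun a => by rw [RingHom.comp_apply, hσ, ← map_pow, FiniteField.pow_card]
  set R := chevRGD hD hR K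
  have hnG : R.nw l ∈ D.group K := by rw [← chev_G hD hR]; exact R.N_le_G (R.nw_mem_N l)
  obtain ⟨g, hgG, hg⟩ := exists_lang hD f.pos hqf σ hσ hnG
  obtain ⟨g', rfl⟩ := exists_lift hD hgG
  obtain ⟨n', hn'⟩ := exists_lift hD hnG
  set g := (stSys (F := K) hD).th g' with hgdef
  set z₀ := (g' * n')⁻¹ * stMap D σ g' with hz₀
  have hz : z₀ ∈ Subgroup.center (D.SteinbergGroup K) := by
    refine (stSys (F := K) hD).ker_le_center hD hR hX (stSys_gen hD) ?_
    rw [MonoidHom.mem_ker, hz₀, map_mul, map_inv, map_mul, th_stMap hD, hn', ← hgdef, hg, inv_mul_cancel]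
  set T := tau hD hR hX K
  -- the Frobenius map on the twisted torus
  have hΦ : ∀ c, stMap D σ (g' * T c * g'⁻¹) =
      g' * T (ChevOrder.act A (c ^ (Fintype.card F : ℤ))) * g'⁻¹ := by
    intro c
    have e1 : stMap D σ g' = g' * n' * z₀ := by rw [hz₀, mul_inv_cancel_left]
    have e2 : stMap D σ (T c) = T (c ^ (Fintype.card F : ℤ)) := by
      rw [stMap_tau]
      congr 1
      funext i
      exact Units.ext (by simp [hσ])
    rw [map_mul, map_mul, map_inv, e1, e2, ← conj_tau hD hR hX l A hA hn']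
    have hc := Subgroup.mem_center_iff.1 hz (T (c ^ (Fintype.card F : ℤ)))
    calc g' * n' * z₀ * T (c ^ (Fintype.card F : ℤ)) * (g' * n' * z₀)⁻¹
        = g' * n' * (z₀ * T (c ^ (Fintype.card F : ℤ))) * z₀⁻¹ * n'⁻¹ * g'⁻¹ := by group
      _ = _ := by rw [← hc]; simp only [T]; group
  -- a primitive root of unity
  have : NeZero N := ⟨hN0⟩
  have hNK : NeZero (N : K) := ⟨fun h => hN ((map_eq_zero (algebraMap F K)).1 (by rw [map_natCast, h]))⟩
  obtain ⟨ζ', hζ'⟩ : ∃ ζ : K, IsPrimitiveRoot ζ N := by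
    obtain ⟨z, hz⟩ := IsAlgClosed.exists_root (Polynomial.cyclotomic N K)
      (Polynomial.degree_cyclotomic_pos N K (Nat.pos_of_ne_zero hN0)).ne'
    exact ⟨z, Polynomial.isRoot_cyclotomic_iff.1 hz⟩
  let ζ : Kˣ := (hζ'.isUnit hN0).unit
  have hζ : IsPrimitiveRoot ζ N := IsPrimitiveRoot.coe_units_iff.1 hζ'
  have hζd : ∀ k : ℤ, ζ ^ k = 1 ↔ (N : ℤ) ∣ k := hζ.zpow_eq_one_iff_dvd
  let c₀ : Fin D.rank → Kˣ := fun i => ζ ^ P i
  have hfix₀ : ChevOrder.act A (c₀ ^ (Fintype.card F : ℤ)) = c₀ := by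
    refine (act_smul_sub_one _ A c₀).1 (funext fun j => ?_)
    rw [ChevOrder.act_apply, Pi.one_apply]
    simp only [c₀, ← zpow_mul]
    rw [← ChevOrder.zpow_sum', hζd]
    convert h1 j using 1
    simp only [Matrix.mulVec, dotProduct, mul_comm]
  have hfixed : ∀ c, ChevOrder.act A (c ^ (Fintype.card F : ℤ)) = c → ∃ k : ℕ, c = c₀ ^ k := by
    intro c hc
    have hB : ChevOrder.act ((Fintype.card F : ℤ) • A - 1) c = 1 := (act_smul_sub_one _ A c).2 hc
    let y : Kˣ := ∏ i, c i ^ Ψ i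
    have hy : ∀ j, c j = y ^ P j := by
      intro j
      have e := congrFun (ChevOrder.act_one c) j
      rw [← h3, act_add, ChevOrder.act_mul, hB, map_one, mul_one] at e
      rw [← e, ChevOrder.act_apply]
      show _ = (∏ i, c i ^ Ψ i) ^ P j
      rw [← Finset.prod_zpow]
      exact Finset.prod_congr rfl fun i _ => by rw [← zpow_mul, Matrix.vecMulVec_apply, mul_comm]
    have hyN : y ^ (N : ℤ) = 1 := by
      calc y ^ (N : ℤ) = ∏ i, c i ^ (φ ᵥ* ((Fintype.card F : ℤ) • A - 1)) i := by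
            show (∏ i, c i ^ Ψ i) ^ (N : ℤ) = _
            rw [← Finset.prod_zpow]
            exact Finset.prod_congr rfl fun i _ => by rw [← zpow_mul, h4, mul_comm]
        _ = ∏ i, ∏ j, c i ^ (((Fintype.card F : ℤ) • A - 1) j i * φ j) := by
            refine Finset.prod_congr rfl fun i _ => ?_
            rw [← ChevOrder.zpow_sum']
            simp only [Matrix.vecMul, dotProduct, mul_comm]
        _ = ∏ j, ChevOrder.act ((Fintype.card F : ℤ) • A - 1) c j ^ φ j := by
            rw [Finset.prod_comm]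
            refine Finset.prod_congr rfl fun j _ => ?_
            rw [ChevOrder.act_apply, ← Finset.prod_zpow]
            exact Finset.prod_congr rfl fun i _ => by rw [← zpow_mul]
        _ = 1 := Finset.prod_eq_one fun j _ => by rw [hB, Pi.one_apply, one_zpow]
    rw [zpow_natCast] at hyN
    obtain ⟨k, -, hk⟩ := hζ'.eq_pow_of_pow_eq_one (ξ := (y : K)) (by rw [← Units.val_pow_eq_pow_val, hyN]; rfl)
    have hk' : y = ζ ^ k := Units.ext (by rw [Units.val_pow_eq_pow_val]; exact hk.symm)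
    refine ⟨k, funext fun j => ?_⟩
    rw [hy, hk', Pi.pow_apply, ← zpow_natCast ζ k, ← zpow_natCast (c₀ j) k, ← zpow_mul, ← zpow_mul, mul_comm]
  have hchi : ∀ r, ChevOrder.chi c₀ r = ζ ^ expo D P r := fun r => by
    simp only [ChevOrder.chi, c₀, expo, ← zpow_mul, ← ChevOrder.zpow_sum']
  set t₀ := ChevOrder.torusHom D K c₀ with ht₀
  have hord : orderOf t₀ = N / g₀ := by
    obtain ⟨m, hm⟩ := hg₀
    have hg0 : 0 < g₀ := Nat.pos_of_ne_zero fun h => hN0 (by rw [hm, h, zero_mul])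
    have hdiv : N / g₀ = m := by rw [hm, Nat.mul_div_cancel_left _ hg0]
    rw [hdiv]
    refine Nat.dvd_antisymm (orderOf_dvd_of_pow_eq_one (Units.ext ?_)) ?_
    · rw [ht₀, ← map_pow, ChevOrder.coe_torusHom, Units.val_one, dg, ← Matrix.diagonal_one]
      congr 1
      funext a
      rcases a with i | s
      · rfl
      simp only [Sum.elim_inr]
      have hs : ChevOrder.chi (c₀ ^ m) s.val = 1 := by
        have e : ChevOrder.chi (c₀ ^ m) s.val = ChevOrder.chi c₀ s.val ^ m := by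
          simp only [ChevOrder.chi, Pi.pow_apply, ← Finset.prod_pow]
          exact Finset.prod_congr rfl fun i _ => by
            simp only [c₀, ← zpow_natCast, ← zpow_mul]
            congr 1
            ring
        rw [e, hchi, ← zpow_natCast, ← zpow_mul, hζd, hm, Nat.cast_mul]
        exact mul_dvd_mul_right (hge s.val s.isLt) _
      rw [hs, Units.val_one]
    · have e : ChevOrder.torusHom D K (c₀ ^ orderOf t₀) = 1 := by rw [map_pow, ← ht₀, pow_orderOf_eq_one]
      have e2 : ζ ^ ((orderOf t₀ : ℤ) * d) = 1 := by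
        have e3 : ∏ i, ((c₀ ^ orderOf t₀) i ^ d) ^ Ψ i = 1 := by
          refine Finset.prod_eq_one fun i _ => ?_
          rw [exists_chi_one hD hR e i, one_zpow]
        rw [← e3]
        simp only [c₀, Pi.pow_apply, ← zpow_natCast, ← zpow_mul, ← ChevOrder.zpow_sum']
        congr 1
        rw [← mul_one ((orderOf t₀ : ℤ) * d), ← h2, Finset.mul_sum]
        exact Finset.sum_congr rfl fun i _ => by ring
      have e4 := hgcd _ ((hζd _).1 e2)
      rw [hm, mul_comm _ g₀] at e4
      exact (Nat.mul_dvd_mul_iff_left hg0).1 e4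
  -- the generator
  set z := g' * T c₀ * g'⁻¹ with hzdef
  have hzfix : stMap D σ z = z := by rw [hzdef, hΦ, hfix₀]
  obtain ⟨γ, hγ, hγe⟩ := mem_image_of_fixed hD hR hX (hinj K) σ hσ hzfix
  rw [hzdef, map_mul, map_mul, map_inv, th_tau, ← hgdef, ← ht₀] at hγe
  let γ₀ : D.group F := ⟨γ, hγ⟩
  let j : D.group F →* GL D.Idx K := (mapG D (algebraMap F K)).comp (D.group F).subtype
  have hj : Function.Injective j := fun a b h => Subtype.ext (mapG_injective _ h)
  have hjγ : j γ₀ = g * t₀ * g⁻¹ := hγe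
  refine ⟨Subgroup.zpowers γ₀, inferInstance, ?_, le_antisymm (fun x hx => ?_) ?_⟩
  · rw [Nat.card_zpowers, ← orderOf_injective j hj, hjγ,
      ← orderOf_injective (MulAut.conj g).toMonoidHom (MulAut.conj g).injective t₀] at *
    exact hord
  · have hc : γ₀ * x = x * γ₀ := Subgroup.mem_centralizer_iff.1 hx γ₀ (Subgroup.mem_zpowers γ₀)
    have hc' : (g * t₀ * g⁻¹) * j x = j x * (g * t₀ * g⁻¹) := by rw [← hjγ, ← map_mul, ← map_mul, hc]
    have hxK : g⁻¹ * j x * g ∈ D.diagonalSubgroup K := by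
      refine mem_diagonal_of_regular' (F := F) hD hR c₀ (fun r hr e => hne r hr ?_)
        (fun l' h r hr => hrig l' (fun s hs => ?_) r hr) ?_ ?_
      · rwa [hchi, hζd] at e
      · have e := h s hs
        rw [hchi, hchi] at e
        rw [← hζd, zpow_sub, e, mul_inv_cancel]
      · exact mul_mem (mul_mem (inv_mem hgG) (mapG_group_le hD _ ⟨_, x.2, rfl⟩)) hgG
      · calc g⁻¹ * j x * g * t₀ = g⁻¹ * (j x * (g * t₀ * g⁻¹)) * g := by group
          _ = g⁻¹ * ((g * t₀ * g⁻¹) * j x) * g := by rw [hc']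
          _ = t₀ * (g⁻¹ * j x * g) := by group
    obtain ⟨a, ha⟩ := exists_lift hD x.2
    have hthx : (stSys (F := K) hD).th (g'⁻¹ * stMap D (algebraMap F K) a * g') = g⁻¹ * j x * g := by
      rw [map_mul, map_mul, map_inv, th_stMap hD, ha, ← hgdef]
      rfl
    obtain ⟨c, hc1⟩ := exists_tau_of_th hD hR hX (z := g'⁻¹ * stMap D (algebraMap F K) a * g')
      (hthx ▸ hxK)
    have hfixa : stMap D σ (g' * T c * g'⁻¹) = g' * T c * g'⁻¹ := by
      have e : g' * T c * g'⁻¹ = stMap D (algebraMap F K) a := by rw [hc1]; group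
      rw [e, stMap_comp, hσι]
    rw [hΦ] at hfixa
    obtain ⟨k, hk⟩ := hfixed c (hinj K (mul_left_cancel (mul_right_cancel hfixa)))
    refine Subgroup.mem_zpowers_iff.2 ⟨k, hj ?_⟩
    rw [map_zpow, hjγ, zpow_natCast, conj_pow, ht₀, ← map_pow, ← hk, ← th_tau hD hR hX, hc1, hthx]
    group
  · intro x hx
    rw [Subgroup.mem_centralizer_iff]
    intro y hy
    obtain ⟨a, rfl⟩ := Subgroup.mem_zpowers_iff.1 hx
    obtain ⟨b, rfl⟩ := Subgroup.mem_zpowers_iff.1 hy
    rw [← zpow_add, ← zpow_add, add_comm]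

end Cfsg.Agent.ChevLang
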