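import Cfsg.Agent.EqLemmas
import Cfsg.Agent.Lib.ChevLang.Twist
import Cfsg.Agent.Lib.ChevLang.Poly

/-!
# Certificates for cyclic twisted tori

`Cert`: a word, the matrix of its action on coroots, and polynomial vectors describing the fixed points of the twisted
torus; `CertOK`: the checks, each decided by computation; `exists_cyclic_of_cert`: the conclusion.
-/

set_option autoImplicit false

namespace Cfsg.Agent.ChevLang

open Cfsg.Lie Cfsg.Lie.ChevalleyDatum Cfsg.Agent.Chev Cfsg.Agent.ChevBN Cfsg.Agent.ChevFixed
  Cfsg.Agent.ChevSt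
open scoped Matrix

universe u

/-- Data certifying a cyclic regular twisted torus: the word, its matrix `A`, the order `N`, the vectors `P`, `Ps`,
`ph`, `Y`, `u`, the table `E` of exponents at the roots, their length bound `L`, and, for the case of two elements,
the residues `V` of the exponents and the table `CO` of root coefficients. -/
structure Cert where
  word : List ℕ
  A : List (List ℤ)
  N : List ℤ
  P : List (List ℤ)
  Ps : List ℤ
  ph : List (List ℤ)
  Y : List (List (List ℤ))
  u : List ℤ
  E : List (List ℤ)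
  L : ℕ
  V : List ℤ
  CO : List (List ℤ)

namespace Cert

variable (C : Cert) (D : ChevalleyDatum)

/-- The word in the fundamental reflections. -/
def wordFin : List (Fin D.rank) := C.word.filterMap fun i => if h : i < D.rank then some ⟨i, h⟩ else none

/-- The matrix of the word. -/
def mat : Matrix (Fin D.rank) (Fin D.rank) ℤ := ChevOrder.toMat D.rank C.A

/-- The entries of `q A - 1`. -/
def bpoly (i j : Fin D.rank) : List ℤ := [if i = j then -1 else 0, C.mat D i j]

/-- The entries of `P`. -/
def pv (i : Fin D.rank) : List ℤ := C.P.getD i.val []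

/-- The entries of `ph`. -/
def phv (i : Fin D.rank) : List ℤ := C.ph.getD i.val []

/-- The entries of `Y`. -/
def yv (i j : Fin D.rank) : List ℤ := (C.Y.getD i.val []).getD j.val []

/-- All sections of a list of lists. -/
def prodL : List (List ℕ) → List (List ℕ)
  | [] => [[]]
  | a :: L => a.flatMap fun x => (prodL L).map (x :: ·)

theorem mem_prodL {α : Type*} (h : α → ℕ) (c : α → List ℕ) :
    ∀ L : List α, (∀ a ∈ L, h a ∈ c a) → L.map h ∈ prodL (L.map c)
  | [], _ => by simp [prodL]
  | a :: L, H => by
    simp only [List.map_cons, prodL, List.mem_flatMap, List.mem_map]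
    exact ⟨h a, H a List.mem_cons_self, _, mem_prodL h c L fun b hb => H b (List.mem_cons_of_mem _ hb), rfl⟩

/-- Pairwise different coefficient lists. -/
def distinctB : List (List ℤ) → Bool
  | [] => true
  | a :: L => L.all (fun b => !peq a b) && distinctB L

/-- Pairwise different integers. -/
def distinctZ : List ℤ → Bool
  | [] => true
  | a :: L => L.all (fun b => !(a == b)) && distinctZ L

theorem distinctB_getD : ∀ {L : List (List ℤ)}, distinctB L = true →
    ∀ {r s : ℕ}, r < s → s < L.length → peq (L.getD r []) (L.getD s []) = false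
  | [], _, r, s, _, hs => absurd hs (by simp)
  | a :: L, h, r, s, hrs, hs => by
    simp only [distinctB, Bool.and_eq_true, List.all_eq_true, Bool.not_eq_true'] at h
    obtain ⟨s, rfl⟩ : ∃ k, s = k + 1 := ⟨s - 1, by omega⟩
    simp only [List.length_cons, Nat.add_lt_add_iff_right] at hs
    cases r with
    | zero =>
      rw [List.getD_cons_zero, List.getD_cons_succ, List.getD_eq_getElem _ _ hs]
      exact h.1 _ (List.getElem_mem _)
    | succ r =>
      rw [List.getD_cons_succ, List.getD_cons_succ]
      exact distinctB_getD h.2 (by omega) hs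

theorem distinctZ_getD : ∀ {L : List ℤ}, distinctZ L = true →
    ∀ {r s : ℕ}, r < s → s < L.length → L.getD r 0 ≠ L.getD s 0
  | [], _, r, s, _, hs => absurd hs (by simp)
  | a :: L, h, r, s, hrs, hs => by
    simp only [distinctZ, Bool.and_eq_true, List.all_eq_true, Bool.not_eq_true'] at h
    obtain ⟨s, rfl⟩ : ∃ k, s = k + 1 := ⟨s - 1, by omega⟩
    simp only [List.length_cons, Nat.add_lt_add_iff_right] at hs
    cases r with
    | zero =>
      rw [List.getD_cons_zero, List.getD_cons_succ, List.getD_eq_getElem _ _ hs]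
      simpa using h.1 _ (List.getElem_mem _)
    | succ r =>
      rw [List.getD_cons_succ, List.getD_cons_succ]
      exact distinctZ_getD h.2 (by omega) hs

/-- The residues of the exponents at the argument `q`. -/
def res (q : ℤ) : List ℤ := C.E.map fun f => pev q f % pev q C.N

/-- The roots with the same residue at `2` as `r`. -/
def cls (r : ℕ) : List ℕ := (List.range D.nroots).filter fun s => C.V.getD s 0 == C.V.getD r 0

/-- No candidate for the images of the fundamental roots, other than these roots, extends to the roots. -/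
def rigidB (d : ℤ) : Bool :=
  (prodL ((List.range D.rank).map fun i => C.cls D (D.simple i))).all fun b =>
    b == (List.range D.rank).map D.simple ||
      (List.range D.nroots).any fun r => (C.cls D r).all fun r' => !(List.range D.rank).all fun k =>
        d * (C.CO.getD r' []).getD k 0 ==
          ((List.range D.rank).map fun i => (C.CO.getD r []).getD i 0 * (C.CO.getD (b.getD i 0) []).getD k 0).sum

end Cert

/-- The checks on a certificate. -/
structure CertOK (C : Cert) (D : ChevalleyDatum) (M : List (List ℤ)) (d : ℤ) : Prop where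
  word : decide (∀ i k : Fin D.rank, ∑ j : Fin D.rank,
    C.mat D j i * D.cartan j.val (wl D (C.wordFin D) (D.simple k.val)) = D.cartan i.val (D.simple k.val)) = true
  bp : decide (∀ i : Fin D.rank,
    peq (psum fun j => pmul (C.bpoly D i j) (C.pv D j)) (pscale (C.u.getD i.val 0) C.N) = true) = true
  psp : peq (psum fun i : Fin D.rank => pscale (C.Ps.getD i.val 0) (C.pv D i)) [1] = true
  split : decide (∀ i j : Fin D.rank, peq (padd (pscale (C.Ps.getD j.val 0) (C.pv D i))
    (psum fun k => pmul (C.yv D i k) (C.bpoly D k j))) [if i = j then 1 else 0] = true) = true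
  php : decide (∀ i : Fin D.rank,
    peq (psum fun j => pmul (C.phv D j) (C.bpoly D j i)) (pscale (C.Ps.getD i.val 0) C.N) = true) = true
  tableE : (List.range D.nroots).all (fun r =>
    peq (psum fun i : Fin D.rank => pscale (D.cartan i.val r) (C.pv D i)) (C.E.getD r [])) = true
  lenE : C.E.length = D.nroots
  boundE : C.E.all (fun f => decide (f.length ≤ C.L) && f.all fun a => decide (|a| ≤ 2)) = true
  nzE : C.E.all (fun f => !pzero f) = true
  distE : Cert.distinctB C.E = true
  small : ([3, 4, 5] : List ℤ).all (fun q => Cert.distinctZ (C.res q) && !(C.res q).contains 0) = true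
  res2 : C.V = C.res 2
  nz2 : C.V.contains 0 = false
  tableCO : C.CO = (List.range D.nroots).map fun r => (List.range D.rank).map fun k => co D M k r
  rigid : C.rigidB D d = true
  N0 : C.N.getD 0 0 = 1
  prime : d = 1 ∨ d.toNat.Prime
  dvdE : C.E.all (fun f => decide (d ∣ pev 1 f)) = true
  dvdN : d ∣ pev 1 C.N
  cop : (List.range d.toNat).all (fun r => r % d.toNat == 1 % d.toNat ||
    Nat.gcd (pev r C.N).natAbs d.toNat == 1) = true

variable {D : ChevalleyDatum} {M : List (List ℤ)} {d : ℤ} (hD : Good D) (hR : Roots D M d)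
  (hX : ∀ i < D.rank, Decomp D (D.simple i) ∧ Decomp D (D.neg (D.simple i)))

include hD hR in
/-- The table identity behind a word's matrix, from the fundamental roots. -/
theorem mat_spec (l : List (Fin D.rank)) (A : Matrix (Fin D.rank) (Fin D.rank) ℤ)
    (h : ∀ i k : Fin D.rank, ∑ j : Fin D.rank, A j i * D.cartan j.val (wl D l (D.simple k.val)) =
      D.cartan i.val (D.simple k.val)) (i : Fin D.rank) {r : ℕ} (hr : r < D.nroots) :
    ∑ j : Fin D.rank, A j i * D.cartan j.val (wl D l r) = D.cartan i.val r := by
  have hlin : ∀ (s : Finset (Fin D.rank)), IsLin D fun q => ∑ j ∈ s, A j i * D.cartan j.val q := by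
    intro s
    exact ⟨fun a ha b hb k hk => by
        simp only [← Finset.sum_add_distrib]
        exact Finset.sum_congr rfl fun j _ => by rw [(isLin_cartan hD j.isLt).add a ha b hb k hk]; ring,
      fun a ha => by
        simp only [← Finset.sum_neg_distrib]
        exact Finset.sum_congr rfl fun j _ => by rw [(isLin_cartan hD j.isLt).neg a ha]; ring⟩
  obtain ⟨g, hg, e⟩ := lin_comp hD hR ℚ l (hlin Finset.univ)
  have e' : ∀ q < D.nroots, g q = ∑ j : Fin D.rank, A j i * D.cartan j.val (wl D l q) := fun q hq => by
    rw [e ⟨q, hq⟩, wl_eq hD hR]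
  rw [← e' r hr]
  refine lin_ext hD hR hg (isLin_cartan hD i.isLt) (fun k hk => ?_) hr
  rw [e' _ (hD.simple_lt k hk)]
  exact h i ⟨k, hk⟩

include hD hR in
/-- A word fixing the fundamental roots fixes all roots. -/
theorem wl_eq_self {l : List (Fin D.rank)} (h : ∀ k < D.rank, wl D l (D.simple k) = D.simple k) {r : ℕ}
    (hr : r < D.nroots) : wl D l r = r := by
  refine hR.root_ext (wl_lt hD hR l hr) hr fun k hk => ?_
  obtain ⟨g, hg, e⟩ := lin_comp hD hR ℚ l (isLin_co hD M k)
  have e' : ∀ q < D.nroots, g q = co D M k (wl D l q) := fun q hq => by rw [e ⟨q, hq⟩, wl_eq hD hR]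
  rw [← e' r hr]
  exact lin_ext hD hR hg (isLin_co hD M k) (fun j hj => by rw [e' _ (hD.simple_lt j hj), h j hj]) hr

include hD hR in
/-- The image of a root under a word from the images of the fundamental roots. -/
theorem co_wl (l : List (Fin D.rank)) {k r : ℕ} (hr : r < D.nroots) :
    d * co D M k (wl D l r) =
      ((List.range D.rank).map fun i => co D M i r * co D M k (wl D l (D.simple i))).sum := by
  obtain ⟨g, hg, e⟩ := lin_comp hD hR ℚ l (isLin_co hD M k)
  have e' : ∀ q < D.nroots, g q = co D M k (wl D l q) := fun q hq => by rw [e ⟨q, hq⟩, wl_eq hD hR]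
  rw [← e' r hr]
  refine lin_ext hD hR (f := fun q => d * g q)
    (g := fun q => ((List.range D.rank).map fun i => co D M i q * co D M k (wl D l (D.simple i))).sum)
    (hg.smul d) (isLin_sum (List.range D.rank) fun i _ => ?_) (fun j hj => ?_) hr
  · have := (isLin_co hD M i).smul (co D M k (wl D l (D.simple i)))
    simpa only [mul_comm] using this
  · simp only [e' _ (hD.simple_lt j hj)]
    rw [← List.sum_toFinset _ List.nodup_range, List.toFinset_range, Finset.sum_eq_single j]
    · rw [hR.dual j hj j hj, if_pos rfl]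
    · intro i hi hij
      rw [hR.dual i (Finset.mem_range.1 hi) j hj, if_neg hij, zero_mul]
    · exact fun h => absurd (Finset.mem_range.2 hj) h

variable {C : Cert}

include hD hR hX in
/-- A self-centralising cyclic subgroup from a certificate. -/
theorem exists_cyclic_of_cert (hok : CertOK C D M d) {F : Type u} [Field F] [Fintype F]
    (hinj : ∀ (K : Type u) [Field K], Function.Injective (tau hD hR hX K))
    (hbig : ∀ q : ℤ, 6 ≤ q → 4 * q ^ C.L < 5 * pev q C.N)
    (hpos : ∀ q : ℤ, 2 ≤ q → 0 < pev q C.N) :
    ∃ H : Subgroup ↥(D.group F), IsCyclic ↥H ∧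
      Nat.card ↥H = (pev (Fintype.card F) C.N).toNat / Nat.gcd d.toNat (Fintype.card F - 1) ∧
      Subgroup.centralizer (H : Set ↥(D.group F)) = H := by
  classical
  have hq2 : 2 ≤ Fintype.card F := Fintype.one_lt_card
  set qn := Fintype.card F with hqn
  set q : ℤ := (qn : ℤ) with hqdef
  set N := (pev q C.N).toNat with hNdef
  have hNc : (N : ℤ) = pev q C.N := Int.toNat_of_nonneg (hpos q (by omega)).le
  let P : Fin D.rank → ℤ := fun i => pev q (C.pv D i)
  have hB : ∀ i j, ((q • C.mat D - 1) : Matrix (Fin D.rank) (Fin D.rank) ℤ) i j = pev q (C.bpoly D i j) := by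
    intro i j
    rw [Matrix.sub_apply, Matrix.smul_apply, smul_eq_mul, Matrix.one_apply, Cert.bpoly]
    simp only [pev]
    split_ifs <;> ring
  -- the exponents
  have hexp : ∀ r < D.nroots, expo D P r = pev q (C.E.getD r []) := by
    intro r hr
    rw [← pev_of_peq (List.all_eq_true.1 hok.tableE r (List.mem_range.2 hr)) q, pev_psum]
    exact Finset.sum_congr rfl fun i _ => by rw [pev_pscale, mul_comm]
  have hEb : ∀ r < D.nroots, (C.E.getD r []).length ≤ C.L ∧ ∀ a ∈ C.E.getD r [], |a| ≤ 2 := by
    intro r hr
    have hmem : C.E.getD r [] ∈ C.E := by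
      rw [List.getD_eq_getElem _ _ (hok.lenE.symm ▸ hr)]; exact List.getElem_mem _
    have := List.all_eq_true.1 hok.boundE _ hmem
    simpa [Bool.and_eq_true, List.all_eq_true] using this
  -- a value divisible by `N` of a polynomial with small coefficients
  have hsmall : 6 ≤ q → ∀ f : List ℤ, f.length ≤ C.L → (∀ a ∈ f, |a| ≤ 4) → (N : ℤ) ∣ pev q f → pzero f = true := by
    intro h6 f hlen hf hdvd
    obtain ⟨h1, h2⟩ := pev_bound h6 hf
    refine h2 (Int.eq_zero_of_abs_lt_dvd hdvd ?_)
    rw [hNc]
    have h3 : q ^ f.length ≤ q ^ C.L := pow_le_pow_right₀ (by omega) hlen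
    have h4 := hbig q h6
    linarith
  have hres : ∀ r < D.nroots, (C.res q).getD r 0 = expo D P r % N := by
    intro r hr
    rw [hexp r hr, hNc, Cert.res, List.getD_eq_getElem _ _ (by simp [hok.lenE, hr]), List.getElem_map,
      List.getD_eq_getElem _ _ (hok.lenE.symm ▸ hr)]
  have hV : q = 2 → ∀ r < D.nroots, C.V.getD r 0 = expo D P r % N := fun e r hr => by
    rw [← hres r hr, hok.res2, e]
  have hcases : 6 ≤ q ∨ q ∈ ([3, 4, 5] : List ℤ) ∨ q = 2 := by simp; omega
  have hne : ∀ r < D.nroots, ¬ (N : ℤ) ∣ expo D P r := by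
    intro r hr h
    rcases hcases with h6 | h6 | h6
    · obtain ⟨hl, hb⟩ := hEb r hr
      have := hsmall h6 _ hl (fun a ha => (hb a ha).trans (by norm_num)) (hexp r hr ▸ h)
      have hnz := List.all_eq_true.1 hok.nzE (C.E.getD r [])
        (by rw [List.getD_eq_getElem _ _ (hok.lenE.symm ▸ hr)]; exact List.getElem_mem _)
      simp only [Bool.not_eq_true'] at hnz
      rw [this] at hnz
      exact Bool.noConfusion hnz
    · have := List.all_eq_true.1 hok.small q h6
      simp only [Bool.and_eq_true, Bool.not_eq_true', List.contains_eq_mem, decide_eq_false_iff_not] at this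
      refine this.2 ?_
      rw [show (0 : ℤ) = (C.res q).getD r 0 by rw [hres r hr, Int.emod_eq_zero_of_dvd h],
        List.getD_eq_getElem _ _ (by simp [Cert.res, hok.lenE, hr])]
      exact List.getElem_mem _
    · have := hok.nz2
      simp only [List.contains_eq_mem, decide_eq_false_iff_not] at this
      refine this ?_
      rw [show (0 : ℤ) = C.V.getD r 0 by rw [hV h6 r hr, Int.emod_eq_zero_of_dvd h],
        List.getD_eq_getElem _ _ (by rw [hok.res2]; simp [Cert.res, hok.lenE, hr])]
      exact List.getElem_mem _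
  have hrig : ∀ l : List (Fin D.rank), (∀ r < D.nroots, (N : ℤ) ∣ expo D P (wl D l r) - expo D P r) →
      ∀ r < D.nroots, wl D l r = r := by
    intro l hl r hr
    have hwr := wl_lt hD hR l hr
    rcases hcases with h6 | h6 | h6
    · by_contra hne'
      have hd := hl r hr
      rw [hexp r hr, hexp _ hwr, sub_eq_add_neg, ← neg_one_mul (pev q (C.E.getD r [])), ← pev_pscale,
        ← pev_padd] at hd
      have hb1 := hEb r hr
      have hb2 := hEb _ hwr
      have hpe : peq (C.E.getD (wl D l r) []) (C.E.getD r []) = true := by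
        refine hsmall h6 _ (by simp [length_padd, pscale]; exact ⟨hb2.1, hb1.1⟩) ?_ hd
        refine fun a ha => (mem_padd_bound (B := 2) (C := 2) (by norm_num) (by norm_num) hb2.2 ?_ a ha).trans (by norm_num)
        intro x hx
        obtain ⟨y, hy, rfl⟩ := List.mem_map.1 hx
        rw [abs_mul]; simpa using hb1.2 y hy
      rcases lt_or_gt_of_ne hne' with h | h
      · rw [Cert.distinctB_getD hok.distE h (hok.lenE.symm ▸ hr)] at hpe
        exact Bool.noConfusion hpe
      · have hpe' : peq (C.E.getD r []) (C.E.getD (wl D l r) []) = true := by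
          refine hsmall h6 _ (by simp [length_padd, pscale]; exact ⟨hb1.1, hb2.1⟩) ?_ ?_
          · refine fun a ha => (mem_padd_bound (B := 2) (C := 2) (by norm_num) (by norm_num) hb1.2 ?_ a ha).trans (by norm_num)
            intro x hx
            obtain ⟨y, hy, rfl⟩ := List.mem_map.1 hx
            rw [abs_mul]; simpa using hb2.2 y hy
          · rw [pev_padd, pev_pscale, ← pev_of_peq hpe q]
            simp
        rw [Cert.distinctB_getD hok.distE h (hok.lenE.symm ▸ hwr)] at hpe'
        exact Bool.noConfusion hpe'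
    · by_contra hne'
      have := List.all_eq_true.1 hok.small q h6
      simp only [Bool.and_eq_true] at this
      have e : (C.res q).getD (wl D l r) 0 = (C.res q).getD r 0 := by
        rw [hres r hr, hres _ hwr]
        exact (Int.emod_eq_emod_iff_emod_sub_eq_zero).2 (Int.emod_eq_zero_of_dvd (hl r hr))
      rcases lt_or_gt_of_ne hne' with h | h
      · exact Cert.distinctZ_getD this.1 h (by simp [Cert.res, hok.lenE, hr]) e
      · exact Cert.distinctZ_getD this.1 h (by simp [Cert.res, hok.lenE, hwr]) e.symm
    · have hcls : ∀ s < D.nroots, wl D l s ∈ C.cls D s := fun s hs => by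
        rw [Cert.cls, List.mem_filter, List.mem_range]
        refine ⟨wl_lt hD hR l hs, beq_iff_eq.2 ?_⟩
        rw [hV h6 _ hs, hV h6 _ (wl_lt hD hR l hs)]
        exact (Int.emod_eq_emod_iff_emod_sub_eq_zero).2 (Int.emod_eq_zero_of_dvd (hl s hs))
      have hb := List.all_eq_true.1 hok.rigid _ (Cert.mem_prodL (fun i => wl D l (D.simple i))
        (fun i => C.cls D (D.simple i)) (List.range D.rank)
        (fun i hi => hcls _ (hD.simple_lt i (List.mem_range.1 hi))))
      rcases Bool.or_eq_true _ _ ▸ hb with hb | hb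
      · exact wl_eq_self hD hR
          (fun k hk => List.map_inj_left.1 (beq_iff_eq.1 hb) k (List.mem_range.2 hk)) hr
      · obtain ⟨s, hs, hb⟩ := List.any_eq_true.1 hb
        rw [List.mem_range] at hs
        have hb' := List.all_eq_true.1 hb _ (hcls s hs)
        simp only [Bool.not_eq_true', List.all_eq_false, List.mem_range, Bool.not_eq_true, beq_eq_false_iff_ne]
          at hb'
        obtain ⟨k, hk, hne'⟩ := hb'
        refine absurd ?_ hne'
        have hCO : ∀ a < D.nroots, ∀ b < D.rank, (C.CO.getD a []).getD b 0 = co D M b a := fun a ha b hb => by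
          simp [hok.tableCO, ha, hb]
        rw [hCO _ (wl_lt hD hR l hs) _ hk, co_wl hD hR l hs]
        refine congrArg List.sum (List.map_congr_left fun i hi => ?_)
        have hi' := List.mem_range.1 hi
        have e : ((List.range D.rank).map fun i => wl D l (D.simple i)).getD i 0 = wl D l (D.simple i) := by
          simp [hi']
        rw [hCO _ hs _ hi', e, hCO _ (wl_lt hD hR l (hD.simple_lt i hi')) _ hk]
  -- the characteristic does not divide `N`
  have hN : (N : F) ≠ 0 := by
    have h0 : (qn : F) = 0 := by rw [hqn]; exact FiniteField.cast_card_eq_zero F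
    have e : ((pev q C.N : ℤ) : F) = 1 := by
      have hN0 := hok.N0
      cases hC : C.N with
      | nil => rw [hC] at hN0; simp at hN0
      | cons a f =>
        rw [hC] at hN0
        simp only [List.getD_cons_zero] at hN0
        simp [pev, hN0, hqdef, h0]
    rw [← Int.cast_natCast, hNc, e]
    exact one_ne_zero
  -- the kernel
  have hdpos := hR.d_pos
  have hg : ∀ f : List ℤ, d ∣ pev 1 f → (Nat.gcd d.toNat (qn - 1) : ℤ) ∣ pev q f := by
    intro f hf
    have h1 : (Nat.gcd d.toNat (qn - 1) : ℤ) ∣ pev 1 f := by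
      refine (Int.natCast_dvd_natCast.2 (Nat.gcd_dvd_left _ _)).trans ?_
      rwa [Int.toNat_of_nonneg hdpos.le]
    have h2 : q ≡ 1 [ZMOD (Nat.gcd d.toNat (qn - 1) : ℤ)] := by
      refine (Int.modEq_iff_dvd.2 ?_).symm
      rw [hqdef, show ((qn : ℤ) - 1) = ((qn - 1 : ℕ) : ℤ) by omega]
      exact Int.natCast_dvd_natCast.2 (Nat.gcd_dvd_right _ _)
    exact (pev_modEq h2 f).dvd_iff.2 h1
  have hgcd : ∀ k : ℕ, (N : ℤ) ∣ k * d → N ∣ k * Nat.gcd d.toNat (qn - 1) := by
    intro k hk
    rw [← Int.toNat_of_nonneg hdpos.le, ← Nat.cast_mul, Int.natCast_dvd_natCast] at hk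
    rcases hok.prime with h1 | hp
    · subst h1; simpa using hk
    by_cases hdq : d.toNat ∣ qn - 1
    · rwa [Nat.gcd_eq_left hdq]
    · rw [Nat.coprime_iff_gcd_eq_one.1 (hp.coprime_iff_not_dvd.2 hdq), mul_one]
      refine Nat.Coprime.dvd_of_dvd_mul_right ?_ hk
      have hr := List.all_eq_true.1 hok.cop (qn % d.toNat) (List.mem_range.2 (Nat.mod_lt _ hp.pos))
      simp only [Bool.or_eq_true, beq_iff_eq, Nat.mod_mod] at hr
      rcases hr with hr | hr
      · exact absurd ((Nat.modEq_iff_dvd' (by omega)).1 hr.symm) hdq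
      · rw [Nat.coprime_comm, hp.coprime_iff_not_dvd]
        intro hdN
        have e : q ≡ ((qn % d.toNat : ℕ) : ℤ) [ZMOD (d.toNat : ℤ)] := by
          rw [hqdef, Int.natCast_mod]; exact (Int.mod_modEq _ _).symm
        have h2 := (pev_modEq e C.N).dvd_iff.1 (hNc ▸ Int.natCast_dvd_natCast.2 hdN)
        have h3 := Int.natCast_dvd.1 h2
        exact hp.not_dvd_one (hr ▸ Nat.dvd_gcd h3 dvd_rfl)
  refine exists_cyclic hD hR hX hinj (C.wordFin D) (C.mat D)
    (fun i r hr => mat_spec hD hR _ _ (of_decide_eq_true hok.word) i hr) hN P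
    (fun i => C.Ps.getD i.val 0) (fun i => pev q (C.phv D i)) (Matrix.of fun i j => pev q (C.yv D i j))
    (fun i => ⟨C.u.getD i.val 0, ?_⟩) ?_ ?_ (fun i => ?_) ?_ (fun r hr => ?_) hgcd hne hrig
  · have e := pev_of_peq (of_decide_eq_true hok.bp i) q
    rw [pev_psum, pev_pscale, ← hNc] at e
    rw [mul_comm, ← e]
    simp only [pev_pmul, ← hB, P, Matrix.mulVec, dotProduct, q, qn]
  · have e := pev_of_peq hok.psp q
    rw [pev_psum] at e
    simpa [pev_pscale, pev, P] using e
  · ext i j
    have e := pev_of_peq (of_decide_eq_true hok.split i j) q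
    rw [pev_padd, pev_pscale, pev_psum] at e
    simp only [pev_pmul, ← hB] at e
    rw [Matrix.add_apply, Matrix.vecMulVec_apply, Matrix.mul_apply, Matrix.one_apply]
    simp only [Matrix.of_apply]
    rw [mul_comm (P i)]
    refine e.trans ?_
    simp [pev]
  · have e := pev_of_peq (of_decide_eq_true hok.php i) q
    rw [pev_psum, pev_pscale, ← hNc] at e
    rw [mul_comm, ← e]
    simp only [pev_pmul, ← hB, Matrix.vecMul, dotProduct, q, qn]
  · have := hg C.N hok.dvdN
    rwa [← hNc, Int.natCast_dvd_natCast] at this
  · rw [hexp r hr]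
    refine hg _ ?_
    have := List.all_eq_true.1 hok.dvdE (C.E.getD r [])
      (by rw [List.getD_eq_getElem _ _ (hok.lenE.symm ▸ hr)]; exact List.getElem_mem _)
    simpa using this

end Cfsg.Agent.ChevLang
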