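import Cfsg.Agent.EqLemmas
import Cfsg.Agent.Lib.ChevLang.Twist

/-!
# Torsion of twisted tori

`mem_image_of_pow`: fixed elements of order prime to the index of connection come from the finite field.
`exists_torus_hom`: an embedding of a homocyclic group into a twisted torus.
-/

set_option autoImplicit false

namespace Cfsg.Agent.ChevLang

open Cfsg.Lie Cfsg.Lie.ChevalleyDatum Cfsg.Agent.Chev Cfsg.Agent.ChevBN Cfsg.Agent.ChevFixed
  Cfsg.Agent.ChevSt
open scoped Matrix

universe u v

variable {D : ChevalleyDatum} {M : List (List ℤ)} {d : ℤ} (hD : Good D) (hR : Roots D M d)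
variable {F : Type u} [Field F] [Fintype F] {K : Type v} [Field K] [Algebra F K] [Algebra.IsAlgebraic F K]

include hD hR in
/-- A fixed element of order prime to the index of connection comes from the finite field. -/
theorem mem_image_of_pow (σ : K →+* K) (hσ : ∀ z, σ z = z ^ Fintype.card F) {x : GL D.Idx K} (hx : x ∈ D.group K)
    (hσx : mapG D σ x = x) {m : ℕ} (hxm : x ^ m = 1) (hm : Nat.Coprime m d.toNat) :
    x ∈ fixedImage (algebraMap F K) hD := by
  set I := fixedImage (algebraMap F K) hD with hI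
  have hσι : σ.comp (algebraMap F K) = algebraMap F K :=
    RingHom.ext fun a => by rw [RingHom.comp_apply, hσ, ← map_pow, FiniteField.pow_card]
  obtain ⟨L, hL, gL, hgL, eg⟩ := exists_defined (F := F) hD hx
  have : Finite L := Module.finite_of_finite F
  let σL : L →+* L := (σ.comp (algebraMap L K)).codRestrict L.toSubfield.toSubring fun y => by
    show σ (y : K) ∈ L
    rw [hσ]
    exact pow_mem y.2 _
  have hσL : (algebraMap L K).comp σL = σ.comp (algebraMap L K) := RingHom.ext fun y => rfl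
  have hfixL : mapG D σL gL = gL := by
    apply mapG_injective (algebraMap L K)
    rw [mapG_comp, hσL, ← mapG_comp, eg, hσx]
  have hfix : ∀ t, σL t = t → ∃ t₀, algebraMap F L t₀ = t := fun t ht => by
    have h1 : σ (t : K) = t := congrArg Subtype.val ht
    rw [hσ] at h1
    obtain ⟨a, ha⟩ := exists_eq_of_pow_card h1
    exact ⟨a, Subtype.ext ha⟩
  obtain ⟨_, ⟨v, hv, rfl⟩, _, ⟨w, hw, rfl⟩, h, hh, e⟩ :=
    exists_fixed_split hD hR (algebraMap F L) σL hfix hgL hfixL
  have hιL : (algebraMap L K).comp (algebraMap F L) = algebraMap F K := RingHom.ext fun y => rfl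
  set v' := mapG D (algebraMap F K) v with hv'
  set w' := mapG D (algebraMap F K) w with hw'
  have hvI : v' ∈ I := ⟨v, hv, rfl⟩
  have hwI : w' ∈ I := ⟨w, hw, rfl⟩
  obtain ⟨c, hc⟩ := (ChevOrder.torusHom_range (F := K) hD).ge (mapG_diag hD (algebraMap L K) hh)
  have e' : x = v' * ChevOrder.torusHom D K c * w' := by
    rw [← eg, e, map_mul, map_mul, mapG_comp, mapG_comp, hιL, hc]
  have hfixI : ∀ y ∈ I, mapG D σ y = y := by
    rintro _ ⟨y, -, rfl⟩
    rw [mapG_comp, hσι]
  have hc' : mapG D σ (ChevOrder.torusHom D K c) = ChevOrder.torusHom D K c := by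
    have := hσx
    rw [e', map_mul, map_mul, hfixI v' hvI, hfixI w' hwI] at this
    exact mul_left_cancel (mul_right_cancel this)
  rw [mapG_torusHom hD] at hc'
  -- the torus part normalises the image
  have hconj : ∀ c : Fin D.rank → Kˣ,
      ChevOrder.torusHom D K (fun i => Units.map σ.toMonoidHom (c i)) = ChevOrder.torusHom D K c →
      ∀ y ∈ I, ChevOrder.torusHom D K c * y * (ChevOrder.torusHom D K c)⁻¹ ∈ I := by
    intro c hc y hy
    obtain ⟨y₀, hy₀, rfl⟩ := hy
    induction hy₀ using Subgroup.closure_induction with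
    | mem z hz =>
      obtain ⟨r, u, er⟩ := hz
      obtain rfl : z = xg hD F r.val u := Units.ext (by rw [er]; simp [ChevalleyDatum.x])
      have hval : σ (ChevOrder.chi c r.val : K) = ChevOrder.chi c r.val := by
        have e1 : Units.map σ.toMonoidHom (ChevOrder.chi c r.val) =
            ChevOrder.chi (fun i => Units.map σ.toMonoidHom (c i)) r.val := by
          simp [ChevOrder.chi, map_prod, map_zpow]
        have e2 := congrArg (fun z : GL D.Idx K => (z : Matrix D.Idx D.Idx K) (Sum.inr r) (Sum.inr r)) hc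
        simp only [ChevOrder.coe_torusHom, dg, Matrix.diagonal_apply_eq, Sum.elim_inr] at e2
        exact (congrArg Units.val e1).trans e2
      rw [hσ] at hval
      obtain ⟨a, ha⟩ := exists_eq_of_pow_card hval
      refine ⟨xg hD F r.val (a * u), xg_mem_group hD _ _, ?_⟩
      rw [mapG_xg hD, mapG_xg hD, torusHom_mul_xg hD c r.isLt, mul_inv_cancel_right, map_mul, ha]
    | one => rw [map_one, mul_one, mul_inv_cancel]; exact one_mem _
    | mul a b _ _ ha hb =>
      rw [map_mul]
      generalize ChevOrder.torusHom D K c = t at ha hb ⊢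
      rw [show t * (mapG D (algebraMap F K) a * mapG D (algebraMap F K) b) * t⁻¹ =
        (t * mapG D (algebraMap F K) a * t⁻¹) * (t * mapG D (algebraMap F K) b * t⁻¹) by group]
      exact mul_mem ha hb
    | inv a _ ha =>
      rw [map_inv]
      generalize ChevOrder.torusHom D K c = t at ha ⊢
      rw [show t * (mapG D (algebraMap F K) a)⁻¹ * t⁻¹ = (t * mapG D (algebraMap F K) a * t⁻¹)⁻¹ by group]
      exact inv_mem ha
  set t := ChevOrder.torusHom D K c with ht
  have hcinv : ChevOrder.torusHom D K (fun i => Units.map σ.toMonoidHom (c⁻¹ i)) = ChevOrder.torusHom D K c⁻¹ := by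
    rw [show (fun i => Units.map σ.toMonoidHom (c⁻¹ i)) = (fun i => Units.map σ.toMonoidHom (c i))⁻¹ from
      funext fun i => map_inv (Units.map σ.toMonoidHom) (c i), map_inv, map_inv, hc']
  have hinv : ∀ y ∈ I, t⁻¹ * y * t ∈ I := fun y hy => by
    have := hconj c⁻¹ hcinv y hy
    rwa [map_inv, inv_inv] at this
  have hpow : ∀ k : ℕ, (t ^ k)⁻¹ * x ^ k ∈ I := by
    intro k
    induction k with
    | zero => simp [one_mem]
    | succ k ih =>
      have e1 : (t ^ (k + 1))⁻¹ * x ^ (k + 1) = (t⁻¹ * ((t ^ k)⁻¹ * x ^ k) * t) * ((t⁻¹ * v' * t) * w') := by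
        rw [pow_succ x, pow_succ t, e']; group
      rw [e1]
      exact mul_mem (hinv _ ih) (mul_mem (hinv v' hvI) hwI)
  have htd : t ^ d.toNat ∈ I := by
    have h1 : ∀ i, σ ((c i : K) ^ d.toNat) = (c i : K) ^ d.toNat := by
      intro i
      have e1 : ChevOrder.torusHom D K ((fun i => Units.map σ.toMonoidHom (c i)) * c⁻¹) = 1 := by
        rw [map_mul, hc', map_inv, mul_inv_cancel]
      have e2 := exists_chi_one hD hR e1 i
      rw [show d = (d.toNat : ℤ) by have := hR.d_pos; omega, zpow_natCast, Pi.mul_apply, Pi.inv_apply, mul_pow,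
        inv_pow, mul_inv_eq_one] at e2
      rw [map_pow]
      exact congrArg (fun z : Kˣ => (z : K)) e2
    choose c₀ hc₀ using fun i => exists_eq_of_pow_card (F := F) (z := (c i : K) ^ d.toNat) (by rw [← hσ]; exact h1 i)
    have hne : ∀ i, c₀ i ≠ 0 := fun i h0 => pow_ne_zero d.toNat (c i).ne_zero (by rw [← hc₀ i, h0, map_zero])
    refine ⟨_, borel_le_group hD hR (Subgroup.mem_sup_right
      ((ChevOrder.torusHom_range (F := F) hD).le ⟨fun i => Units.mk0 (c₀ i) (hne i), rfl⟩)), ?_⟩
    rw [mapG_torusHom hD, ht, ← map_pow]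
    congr 1
    funext i
    exact Units.ext (hc₀ i)
  have hxd : x ^ d.toNat ∈ I := by
    have := mul_mem htd (hpow d.toNat)
    rwa [mul_inv_cancel_left] at this
  obtain ⟨a, b, hab⟩ := Nat.isCoprime_iff_coprime.2 hm
  have : x = (x ^ m) ^ a * (x ^ d.toNat) ^ b := by
    rw [← zpow_natCast, ← zpow_natCast, ← zpow_mul, ← zpow_mul, ← zpow_add, mul_comm (m : ℤ),
      mul_comm (d.toNat : ℤ), hab, zpow_one]
  rw [this, hxm, one_zpow, one_mul]
  exact zpow_mem hxd _

include hD hR in
/-- A homocyclic group inside a twisted torus. -/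
theorem exists_torus_hom (l : List (Fin D.rank)) (A : Matrix (Fin D.rank) (Fin D.rank) ℤ)
    (hA : ∀ i : Fin D.rank, ∀ r < D.nroots, ∑ j : Fin D.rank, A j i * D.cartan j.val (wl D l r) = D.cartan i.val r)
    {m a : ℕ} (hm : (m : F) ≠ 0) (hmd : Nat.Coprime m d.toNat) (P : Matrix (Fin D.rank) (Fin a) ℤ)
    (Ψ : Matrix (Fin a) (Fin D.rank) ℤ) (δ : ℤ) (hδ : IsCoprime δ (m : ℤ))
    (h1 : ∀ i k, (m : ℤ) ∣ ((((Fintype.card F : ℤ) • A - 1 : Matrix (Fin D.rank) (Fin D.rank) ℤ)) * P) i k)
    (h2 : ∀ j k, (m : ℤ) ∣ (Ψ * P) j k - if j = k then δ else 0) :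
    ∃ f : (Fin a → Multiplicative (ZMod m)) →* ↥(D.group F), Function.Injective f := by
  classical
  have hm0 : m ≠ 0 := by rintro rfl; simp at hm
  have : NeZero m := ⟨hm0⟩
  obtain ⟨p, hp⟩ := CharP.exists F
  obtain ⟨f, hpr, hqf⟩ := FiniteField.card F p
  have : Fact p.Prime := ⟨hpr⟩
  let K := AlgebraicClosure F
  have : CharP K p := charP_of_injective_algebraMap (algebraMap F K).injective p
  have : ExpChar K p := ExpChar.prime hpr
  let σ : K →+* K := iterateFrobenius K p (f : ℕ)
  have hσ : ∀ z, σ z = z ^ Fintype.card F := fun z => by rw [hqf]; exact iterateFrobenius_def p _ z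
  set R := chevRGD hD hR K
  have hnG : R.nw l ∈ D.group K := by rw [← chev_G hD hR]; exact R.N_le_G (R.nw_mem_N l)
  obtain ⟨g, hgG, hg⟩ := exists_lang hD f.pos hqf σ hσ hnG
  have hmK : NeZero (m : K) := ⟨fun h => hm ((map_eq_zero (algebraMap F K)).1 (by rw [map_natCast, h]))⟩
  obtain ⟨ζ', hζ'⟩ : ∃ ζ : K, IsPrimitiveRoot ζ m := by
    obtain ⟨z, hz⟩ := IsAlgClosed.exists_root (Polynomial.cyclotomic m K)
      (Polynomial.degree_cyclotomic_pos m K (Nat.pos_of_ne_zero hm0)).ne'
    exact ⟨z, Polynomial.isRoot_cyclotomic_iff.1 hz⟩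
  let ζ : Kˣ := (hζ'.isUnit hm0).unit
  have hζ : IsPrimitiveRoot ζ m := IsPrimitiveRoot.coe_units_iff.1 hζ'
  let e : Multiplicative (ZMod m) ≃* Subgroup.zpowers ζ := mulEquivOfCyclicCardEq (by
    rw [Nat.card_zpowers, ← hζ.eq_orderOf, Nat.card_congr Multiplicative.toAdd, Nat.card_zmod])
  let φ : Multiplicative (ZMod m) →* Kˣ := (Subgroup.zpowers ζ).subtype.comp e.toMonoidHom
  have hφ : Function.Injective φ := (Subgroup.subtype_injective _).comp e.injective
  have hpowm : ∀ y : Multiplicative (ZMod m), y ^ m = 1 := fun y => by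
    have := pow_card_eq_one' (x := y)
    rwa [Nat.card_congr Multiplicative.toAdd, Nat.card_zmod] at this
  have hφd : ∀ (y : Multiplicative (ZMod m)) (k : ℤ), (m : ℤ) ∣ k → φ y ^ k = 1 := by
    rintro y _ ⟨k, rfl⟩
    rw [zpow_mul, zpow_natCast, ← map_pow, hpowm, map_one, one_zpow]
  let θ : (Fin a → Multiplicative (ZMod m)) →* (Fin D.rank → Kˣ) :=
    MonoidHom.mk' (fun y i => ∏ k, φ (y k) ^ P i k) fun y z => by
      funext i
      simp [mul_zpow, Finset.prod_mul_distrib]
  have hθ : ∀ y, ChevOrder.act A (θ y ^ (Fintype.card F : ℤ)) = θ y := fun y => by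
    refine (act_smul_sub_one _ A (θ y)).1 (funext fun j => ?_)
    rw [ChevOrder.act_apply, Pi.one_apply]
    have e4 : ∀ (i : Fin D.rank) (z : ℤ), θ y i ^ z = ∏ k, φ (y k) ^ (P i k * z) := fun i z => by
      show (∏ k, φ (y k) ^ P i k) ^ z = _
      rw [← Finset.prod_zpow]
      exact Finset.prod_congr rfl fun k _ => by rw [← zpow_mul]
    rw [Finset.prod_congr rfl fun i _ => e4 i _, Finset.prod_comm]
    refine Finset.prod_eq_one fun k _ => ?_
    rw [← ChevOrder.zpow_sum']
    refine hφd _ _ ?_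
    convert h1 j k using 1
    simp only [Matrix.mul_apply, mul_comm]
  let ψ : (Fin a → Multiplicative (ZMod m)) →* GL D.Idx K :=
    (MulAut.conj g).toMonoidHom.comp ((ChevOrder.torusHom D K).comp θ)
  have hψ : ∀ y, ψ y ∈ fixedImage (algebraMap F K) hD := by
    intro y
    have hψy : ψ y = g * ChevOrder.torusHom D K (θ y) * g⁻¹ := rfl
    refine mem_image_of_pow hD hR σ hσ ?_ ?_ (m := m) ?_ hmd
    · rw [hψy]
      exact mul_mem (mul_mem hgG (borel_le_group hD hR (Subgroup.mem_sup_right
        ((ChevOrder.torusHom_range (F := K) hD).le ⟨_, rfl⟩)))) (inv_mem hgG)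
    · have e2 : mapG D σ (ChevOrder.torusHom D K (θ y)) = ChevOrder.torusHom D K (θ y ^ (Fintype.card F : ℤ)) := by
        rw [mapG_torusHom hD]
        congr 1
        funext i
        exact Units.ext (by simp [hσ])
      have e3 := nw_conj_torusHom hD hR l A hA (θ y ^ (Fintype.card F : ℤ)) (K := K)
      rw [hθ] at e3
      rw [hψy, map_mul, map_mul, map_inv, hg, e2, ← e3]
      simp only [R]
      group
    · rw [← map_pow, show y ^ m = 1 from funext fun k => hpowm (y k), map_one]
  have hinj : Function.Injective ψ := by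
    rw [injective_iff_map_eq_one]
    intro y hy
    have h0 : ChevOrder.torusHom D K (θ y) = 1 := by
      have : g * ChevOrder.torusHom D K (θ y) * g⁻¹ = 1 := hy
      exact conj_eq_one_iff.1 this
    funext j
    refine hφ ?_
    rw [Pi.one_apply, map_one]
    have e1 : φ (y j) ^ (δ * d) = 1 := by
      have e2 : ∏ i, (θ y i ^ d) ^ Ψ j i = 1 := Finset.prod_eq_one fun i _ => by
        rw [exists_chi_one hD hR h0 i, one_zpow]
      have e3 : ∏ k, φ (y k) ^ ((Ψ * P) j k * d) = 1 := by
        rw [← e2]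
        have e4 : ∀ i, (θ y i ^ d) ^ Ψ j i = ∏ k, φ (y k) ^ (P i k * d * Ψ j i) := fun i => by
          show ((∏ k, φ (y k) ^ P i k) ^ d) ^ Ψ j i = _
          rw [← Finset.prod_zpow, ← Finset.prod_zpow]
          exact Finset.prod_congr rfl fun k _ => by rw [← zpow_mul, ← zpow_mul, mul_assoc]
        rw [Finset.prod_congr rfl fun i _ => e4 i, Finset.prod_comm]
        refine Finset.prod_congr rfl fun k _ => ?_
        rw [← ChevOrder.zpow_sum']
        congr 1
        rw [Matrix.mul_apply, Finset.sum_mul]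
        exact Finset.sum_congr rfl fun i _ => by ring
      rw [← e3, Finset.prod_eq_single j]
      · obtain ⟨c, hc⟩ := h2 j j
        rw [if_pos rfl] at hc
        rw [show (Ψ * P) j j * d = δ * d + (m : ℤ) * (c * d) by linear_combination d * hc, zpow_add,
          hφd _ _ (dvd_mul_right _ _), mul_one]
      · intro k _ hk
        have := h2 j k
        rw [if_neg (Ne.symm hk), sub_zero] at this
        exact hφd _ _ (dvd_mul_of_dvd_left this _)
      · exact fun h => absurd (Finset.mem_univ j) h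
    have hco : IsCoprime (δ * d) (m : ℤ) := by
      refine hδ.mul_left ?_
      rw [show d = (d.toNat : ℤ) by have := hR.d_pos; omega]
      exact Nat.isCoprime_iff_coprime.2 hmd.symm
    obtain ⟨u, v, huv⟩ := hco
    rw [← zpow_one (φ (y j)), ← huv, zpow_add, mul_comm u, zpow_mul, e1, one_zpow, one_mul, hφd _ _ (dvd_mul_left _ _)]
  let j : D.group F →* GL D.Idx K := (mapG D (algebraMap F K)).comp (D.group F).subtype
  have hj : Function.Injective j := fun a b h => Subtype.ext (mapG_injective _ h)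
  have hrange : ∀ y, ψ y ∈ j.range := fun y => by
    obtain ⟨x, hx, hxe⟩ := hψ y
    exact ⟨⟨x, hx⟩, hxe⟩
  refine ⟨(MonoidHom.ofInjective hj).symm.toMonoidHom.comp (ψ.codRestrict j.range hrange), ?_⟩
  exact (MonoidHom.ofInjective hj).symm.injective.comp fun y z h => hinj (congrArg Subtype.val h)

end Cfsg.Agent.ChevLang
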