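import Cfsg.Agent.EqLemmas
import Cfsg.Agent.Lib.ChevLang.Torsion
import Cfsg.Agent.Lib.ChevLang.Cert

/-!
# Homocyclic Sylow subgroups of Chevalley groups

`SylCert`: a word and polynomial matrices exhibiting the `Φ_d`-part of a twisted torus, with the checks `ok`.
`sylow_homocyclic`: the Sylow subgroups for primes not dividing `q` or the order of the Weyl group.
-/

set_option autoImplicit false

namespace Cfsg.Agent.ChevLang

open Cfsg.Lie Cfsg.Lie.ChevalleyDatum Cfsg.Agent.Chev Cfsg.Agent.ChevBN Cfsg.Agent.ChevFixed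
  Cfsg.Agent.ChevSt
open scoped Matrix

/-- Data for the `Φ_d`-part of a twisted torus: the word, its matrix, the polynomial `f`, the cofactor `g` in
`X ^ d - 1` with `g * u = ∏ (X ^ k - 1)` over `ks`, the matrices `P`, `Ps` with `Ps * P = delta` modulo `f` and the
quotients `Qa`, `Qb`. -/
structure SylCert where
  d : ℕ
  a : ℕ
  word : List ℕ
  A : List (List ℤ)
  f : List ℤ
  g : List ℤ
  u : List ℤ
  ks : List ℕ
  P : List (List (List ℤ))
  Ps : List (List (List ℤ))
  delta : ℤ
  Qa : List (List (List ℤ))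
  Qb : List (List (List ℤ))

/-- An entry of a matrix of coefficient lists. -/
def pent (L : List (List (List ℤ))) (i j : ℕ) : List ℤ := (L.getD i []).getD j []

/-- `X ^ k - 1`. -/
def xpow1 (k : ℕ) : List ℤ := padd [-1] (List.replicate k 0 ++ [1])

/-- A product of coefficient lists. -/
def pprod (L : List (List ℤ)) : List ℤ := L.foldr pmul [1]

theorem pev_xpow1 (q : ℤ) (k : ℕ) : pev q (xpow1 k) = q ^ k - 1 := by
  have h : ∀ k, pev q (List.replicate k 0 ++ [1]) = q ^ k := by
    intro k
    induction k with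
    | zero => simp [pev]
    | succ k ih => rw [List.replicate_succ, List.cons_append, pev, ih]; ring
  rw [xpow1, pev_padd, h]
  simp [pev]
  ring

theorem pev_pprod (q : ℤ) (L : List (List ℤ)) : pev q (pprod L) = (L.map (pev q)).prod := by
  induction L with
  | nil => simp [pprod, pev]
  | cons a L ih => rw [pprod, List.foldr_cons, pev_pmul, List.map_cons, List.prod_cons, ← ih]; rfl

/-- A fundamental reflection on a coroot vector. -/
def stepV (D : ChevalleyDatum) (k : ℕ) (v : List ℤ) : List ℤ :=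
  (List.range D.rank).map fun i =>
    v.getD i 0 - if i = k then ((List.range D.rank).map fun j => D.cartan j (D.simple k) * v.getD j 0).sum else 0

/-- The image of the `i`-th fundamental coroot under a word. -/
def colV (D : ChevalleyDatum) (l : List (Fin D.rank)) (i : ℕ) : List ℤ :=
  l.foldr (fun k v => stepV D k.val v) ((List.range D.rank).map fun j => if j = i then 1 else 0)

theorem colV_spec {D : ChevalleyDatum} {M : List (List ℤ)} {d : ℤ} (hD : Good D) (hR : Roots D M d)
    (l : List (Fin D.rank)) (i : Fin D.rank) {r : ℕ} (hr : r < D.nroots) :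
    ∑ j : Fin D.rank, (colV D l i.val).getD j.val 0 * D.cartan j.val (wl D l r) = D.cartan i.val r := by
  induction l with
  | nil => simp [colV, wl, Fin.val_inj]
  | cons k l ih =>
    set v := colV D l i.val with hv
    set s := wl D l r with hs
    have hs' : s < D.nroots := wl_lt hD hR l hr
    have hstep : ∀ j : Fin D.rank, D.cartan j.val (wN D k.val s) =
        D.cartan j.val s - D.cartan k.val s * D.cartan j.val (D.simple k.val) := fun j => by
      rw [wN, (isLin_cartan hD j.isLt).refl hD (hD.simple_lt _ k.isLt) hs', pairing_simple hD k.isLt]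
    have h2 : D.cartan k.val (D.simple k.val) = 2 := by
      rw [← pairing_simple hD k.isLt]
      exact hD.pairing_self _ (hD.simple_lt _ k.isLt)
    set S := ∑ j : Fin D.rank, D.cartan j.val (D.simple k.val) * v.getD j.val 0 with hS
    have hsum : ((List.range D.rank).map fun j => D.cartan j (D.simple k.val) * v.getD j 0).sum = S := by
      rw [← List.sum_toFinset _ List.nodup_range, List.toFinset_range, Finset.sum_range]
    have hget : ∀ j : Fin D.rank, (colV D (k :: l) i.val).getD j.val 0 =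
        v.getD j.val 0 - if j = k then S else 0 := fun j => by
      show (stepV D k.val v).getD j.val 0 = _
      rw [stepV, List.getD_eq_getElem _ _ (by simp), List.getElem_map, List.getElem_range, hsum]
      simp only [Fin.val_inj]
    calc ∑ j : Fin D.rank, (colV D (k :: l) i.val).getD j.val 0 * D.cartan j.val (wN D k.val s)
        = ∑ j : Fin D.rank, (v.getD j.val 0 * D.cartan j.val s
            - D.cartan k.val s * (D.cartan j.val (D.simple k.val) * v.getD j.val 0)
            - if j = k then S * (D.cartan k.val s - D.cartan k.val s * 2) else 0) := by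
          refine Finset.sum_congr rfl fun j _ => ?_
          rw [hget, hstep]
          by_cases hjk : j = k
          · subst hjk
            rw [if_pos rfl, if_pos rfl, h2]
            ring
          · rw [if_neg hjk, if_neg hjk]
            ring
      _ = D.cartan i.val r := by
          rw [Finset.sum_sub_distrib, Finset.sum_sub_distrib, ← Finset.mul_sum, ← hS, ih,
            Finset.sum_ite_eq' Finset.univ k, if_pos (Finset.mem_univ k)]
          ring

namespace SylCert

variable (C : SylCert) (D : ChevalleyDatum)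

/-- The word in the fundamental reflections. -/
def wordFin : List (Fin D.rank) := C.word.filterMap fun i => if h : i < D.rank then some ⟨i, h⟩ else none

/-- The matrix of the word. -/
def mat : Matrix (Fin D.rank) (Fin D.rank) ℤ := ChevOrder.toMat D.rank C.A

/-- The checks; `W` is a multiple of `delta` made of primes to be avoided. -/
def ok (W : ℕ) : Bool :=
  decide (∀ i : Fin D.rank, colV D (C.wordFin D) i.val = (List.range D.rank).map fun j =>
    (C.A.getD j []).getD i.val 0) &&
  decide (∀ (i : Fin D.rank) (k : Fin C.a), peq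
    (psum fun j : Fin D.rank => pmul [if i = j then -1 else 0, C.mat D i j] (pent C.P j.val k.val))
    (pmul (pent C.Qa i.val k.val) C.f) = true) &&
  decide (∀ j k : Fin C.a, peq
    (psum fun i : Fin D.rank => pmul (pent C.Ps j.val i.val) (pent C.P i.val k.val))
    (padd [if j = k then C.delta else 0] (pmul (pent C.Qb j.val k.val) C.f)) = true) &&
  peq (pmul C.f C.g) (xpow1 C.d) && peq (pmul C.g C.u) (pprod (C.ks.map xpow1)) &&
  C.ks.all (fun k => decide (0 < k ∧ k < C.d)) && decide (0 < C.d) && decide (C.delta ∣ (W : ℤ))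

end SylCert

/-- The certificates cover all divisors of the degrees, with the right multiplicities. -/
def covers (deg : List ℕ) (cs : List SylCert) : Bool :=
  (deg.all fun e => decide (0 < e) && (List.range (e + 1)).all fun k => !(e % k == 0) || cs.any fun c => c.d == k) &&
    cs.all fun c => c.a == (deg.filter fun e => e % c.d == 0).length

section Val

variable {r q : ℕ} [hr : Fact r.Prime]

theorem not_dvd_pow_sub_one (hrq : ¬ r ∣ q) {k : ℕ} (hk : ¬ orderOf (q : ZMod r) ∣ k) : ¬ r ∣ q ^ k - 1 := by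
  intro h
  refine hk (orderOf_dvd_iff_pow_eq_one.2 ?_)
  have h1 : 1 ≤ q ^ k := Nat.one_le_pow _ _ (Nat.pos_of_ne_zero fun e => hrq (e ▸ dvd_zero r))
  have := (ZMod.natCast_eq_zero_iff (q ^ k - 1) r).2 h
  rw [Nat.cast_sub h1, Nat.cast_pow, Nat.cast_one, sub_eq_zero] at this
  exact this

theorem dvd_pow_order_sub_one (hrq : ¬ r ∣ q) : r ∣ q ^ orderOf (q : ZMod r) - 1 := by
  have h1 : 1 ≤ q ^ orderOf (q : ZMod r) := Nat.one_le_pow _ _ (Nat.pos_of_ne_zero fun e => hrq (e ▸ dvd_zero r))
  rw [← ZMod.natCast_eq_zero_iff, Nat.cast_sub h1, Nat.cast_pow, Nat.cast_one, pow_orderOf_eq_one, sub_self]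

theorem order_pos (hrq : ¬ r ∣ q) : 0 < orderOf (q : ZMod r) := by
  have hne : (q : ZMod r) ≠ 0 := fun h => hrq ((ZMod.natCast_eq_zero_iff q r).1 h)
  refine orderOf_pos_iff.2 ?_
  exact MonoidHom.isOfFinOrder (Units.coeHom _) (isOfFinOrder_of_finite (Units.mk0 _ hne))

theorem pow_sub_one_ne_zero (hq : 2 ≤ q) {e : ℕ} (he : 0 < e) : q ^ e - 1 ≠ 0 := by
  have : q ^ 1 ≤ q ^ e := Nat.pow_le_pow_right (by omega) he
  rw [pow_one] at this
  omega

theorem val_pow_sub_one (hodd : Odd r) (hrq : ¬ r ∣ q) (hq : 2 ≤ q) {e : ℕ} (he : 0 < e) (hre : ¬ r ∣ e) :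
    padicValNat r (q ^ e - 1) =
      if orderOf (q : ZMod r) ∣ e then padicValNat r (q ^ orderOf (q : ZMod r) - 1) else 0 := by
  set d := orderOf (q : ZMod r) with hd
  split_ifs with h
  · obtain ⟨k, rfl⟩ := h
    have hdpos : 0 < d := order_pos hrq
    have hk : k ≠ 0 := by rintro rfl; simp at he
    have h1 : 1 < q ^ d := Nat.one_lt_pow hdpos.ne' (by omega)
    have := padicValNat.pow_sub_pow hodd h1 (dvd_pow_order_sub_one hrq)
      (fun hh => hrq (hr.out.dvd_of_dvd_pow hh)) hk
    rw [one_pow, ← pow_mul] at this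
    rw [this, padicValNat.eq_zero_of_not_dvd fun hh => hre (dvd_mul_of_dvd_right hh d), add_zero]
  · exact padicValNat.eq_zero_of_not_dvd (not_dvd_pow_sub_one hrq h)

theorem val_prod (hodd : Odd r) (hrq : ¬ r ∣ q) (hq : 2 ≤ q) :
    ∀ deg : List ℕ, (∀ e ∈ deg, 0 < e ∧ ¬ r ∣ e) → (deg.map fun e => q ^ e - 1).prod ≠ 0 ∧
      padicValNat r (deg.map fun e => q ^ e - 1).prod =
        (deg.filter fun e => orderOf (q : ZMod r) ∣ e).length * padicValNat r (q ^ orderOf (q : ZMod r) - 1)
  | [], _ => by simp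
  | e :: deg, h => by
    obtain ⟨h1, h2⟩ := val_prod hodd hrq hq deg fun x hx => h x (List.mem_cons_of_mem _ hx)
    obtain ⟨he, hre⟩ := h e List.mem_cons_self
    have h3 := pow_sub_one_ne_zero hq he
    refine ⟨by simp [h3, h1], ?_⟩
    rw [List.map_cons, List.prod_cons, padicValNat.mul h3 h1, h2, val_pow_sub_one hodd hrq hq he hre,
      List.filter_cons]
    by_cases hde : orderOf (q : ZMod r) ∣ e
    · rw [if_pos hde, if_pos (by simpa using hde), List.length_cons, Nat.succ_mul, add_comm]
    · rw [if_neg hde, if_neg (by simpa using hde), zero_add]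

theorem val_cyclotomic (hrq : ¬ r ∣ q) (hq : 2 ≤ q) :
    padicValNat r ((Polynomial.cyclotomic (orderOf (q : ZMod r)) ℤ).eval (q : ℤ)).natAbs =
      padicValNat r (q ^ orderOf (q : ZMod r) - 1) := by
  set d := orderOf (q : ZMod r) with hd
  have hdpos : 0 < d := order_pos hrq
  have e := congrArg (Polynomial.eval (q : ℤ)) (Polynomial.prod_cyclotomic_eq_X_pow_sub_one hdpos ℤ)
  rw [Polynomial.eval_prod, Polynomial.eval_sub, Polynomial.eval_pow, Polynomial.eval_X, Polynomial.eval_one,
    ← Finset.mul_prod_erase _ _ (Nat.mem_divisors_self d hdpos.ne')] at e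
  have e' := congrArg Int.natAbs e
  rw [Int.natAbs_mul, show (q : ℤ) ^ d - 1 = ((q ^ d - 1 : ℕ) : ℤ) by
    rw [Nat.cast_sub (Nat.one_le_pow _ _ (by omega))]; simp, Int.natAbs_natCast] at e'
  have h0 := pow_sub_one_ne_zero hq hdpos
  rw [← e'] at h0 ⊢
  obtain ⟨h1, h2⟩ := mul_ne_zero_iff.1 h0
  rw [padicValNat.mul h1 h2, padicValNat.eq_zero_of_not_dvd (n := Int.natAbs (∏ k ∈ _, _)), add_zero]
  intro h
  rw [← Int.natCast_dvd] at h
  obtain ⟨k, hk, hk'⟩ := (Nat.prime_iff_prime_int.1 hr.out).exists_mem_finset_dvd h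
  obtain ⟨hne, hkd, -⟩ := by simpa [Finset.mem_erase, Nat.mem_divisors] using hk
  have hdvd := hk'.trans (Polynomial.eval_dvd (x := (q : ℤ)) (Polynomial.cyclotomic.dvd_X_pow_sub_one k ℤ))
  rw [Polynomial.eval_sub, Polynomial.eval_pow, Polynomial.eval_X, Polynomial.eval_one] at hdvd
  rw [show (q : ℤ) ^ k - 1 = ((q ^ k - 1 : ℕ) : ℤ) by
    rw [Nat.cast_sub (Nat.one_le_pow _ _ (by omega))]; simp, Int.natCast_dvd_natCast] at hdvd
  exact not_dvd_pow_sub_one hrq (fun hdk => hne (Nat.dvd_antisymm hkd hdk)) hdvd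

end Val

universe u

variable {D : ChevalleyDatum} {M : List (List ℤ)} {d : ℤ} (hD : Good D) (hR : Roots D M d)

include hD hR in
/-- Sylow subgroups for primes not dividing `q` or the product of the degrees are homocyclic. -/
theorem sylow_homocyclic {F : Type u} [Field F] [Fintype F] {q : ℕ} (hq : Fintype.card F = q) {deg : List ℕ}
    {k N : ℕ} (hk : k ∣ deg.prod)
    (hcard : k * Nat.card ↥(D.group F) = q ^ N * (deg.map fun e => q ^ e - 1).prod)
    (hd : d.toNat ∣ deg.prod) (h2 : 2 ∣ deg.prod) {cs : List SylCert} (hcov : covers deg cs = true)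
    (hok : cs.all (fun c => c.ok D deg.prod) = true)
    (r : ℕ) [hr : Fact r.Prime] (hrq : ¬ r ∣ q) (hrW : ¬ r ∣ deg.prod) (hrG : r ∣ Nat.card ↥(D.group F))
    (P : Sylow r ↥(D.group F)) :
    Nonempty (↥(P : Subgroup ↥(D.group F)) ≃*
      (Fin (deg.filter (fun e => orderOf (q : ZMod r) ∣ e)).length → Multiplicative (ZMod (r ^ padicValNat r
        ((Polynomial.cyclotomic (orderOf (q : ZMod r)) ℤ).eval (q : ℤ)).natAbs)))) := by
  classical
  have hq2 : 2 ≤ q := hq ▸ Fintype.one_lt_card
  have hodd : Odd r := hr.out.odd_of_ne_two fun e => hrW (e ▸ h2)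
  rw [val_cyclotomic hrq hq2]
  set dd := orderOf (q : ZMod r) with hdd
  set v := padicValNat r (q ^ dd - 1) with hv
  simp only [covers, Bool.and_eq_true, List.all_eq_true] at hcov
  have hdeg : ∀ e ∈ deg, 0 < e ∧ ¬ r ∣ e := fun e he =>
    ⟨of_decide_eq_true (hcov.1 e he).1, fun h => hrW (h.trans (List.dvd_prod he))⟩
  -- the order
  obtain ⟨hne, hval⟩ := val_prod hodd hrq hq2 deg hdeg
  have : Finite (GL D.Idx F) := inferInstance
  have : Finite ↥(D.group F) := inferInstance
  have hG0 : Nat.card ↥(D.group F) ≠ 0 := Nat.card_pos.ne'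
  have hk0 : ¬ r ∣ k := fun h => hrW (h.trans hk)
  set a := (deg.filter fun e => dd ∣ e).length with ha
  have hvG : padicValNat r (Nat.card ↥(D.group F)) = a * v := by
    have e := congrArg (padicValNat r) hcard
    have hqN : q ^ N ≠ 0 := pow_ne_zero _ (by omega)
    rw [padicValNat.mul (fun h => hk0 (by rw [h]; exact dvd_zero r)) hG0, padicValNat.mul hqN hne,
      padicValNat.eq_zero_of_not_dvd hk0,
      padicValNat.eq_zero_of_not_dvd fun h => hrq (hr.out.dvd_of_dvd_pow h), zero_add, zero_add, hval] at e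
    exact e
  -- a certificate
  have hapos : 0 < a := by
    have h1 : 0 < padicValNat r (Nat.card ↥(D.group F)) := one_le_padicValNat_of_dvd hG0 hrG
    rw [hvG] at h1
    exact Nat.pos_of_ne_zero fun h => by rw [h, zero_mul] at h1; omega
  obtain ⟨e, he⟩ := List.exists_mem_of_length_pos hapos
  rw [List.mem_filter, decide_eq_true_iff] at he
  obtain ⟨he, hde⟩ := he
  have hc := (hcov.1 e he).2 dd (List.mem_range.2 (Nat.lt_succ_of_le (Nat.le_of_dvd (hdeg e he).1 hde)))
  simp only [Bool.or_eq_true, Bool.not_eq_true', beq_eq_false_iff_ne, List.any_eq_true, beq_iff_eq] at hc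
  obtain ⟨c, hcmem, hcd⟩ := hc.resolve_left (fun h => h (Nat.mod_eq_zero_of_dvd hde))
  have hca : c.a = a := by
    have := hcov.2 c hcmem
    rw [beq_iff_eq] at this
    rw [this, ha, hcd]
    congr 2
    funext x
    rw [Bool.eq_iff_iff]
    simp [Nat.dvd_iff_mod_eq_zero]
  have hc' := List.all_eq_true.1 hok c hcmem
  simp only [SylCert.ok, Bool.and_eq_true, decide_eq_true_eq, List.all_eq_true] at hc'
  obtain ⟨⟨⟨⟨⟨⟨⟨hword, hP⟩, hPs⟩, hfg⟩, hgu⟩, hks⟩, -⟩, hdelta⟩ := hc'
  -- the part prime to the cofactor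
  set m := r ^ v with hm
  have hfq : (m : ℤ) ∣ pev (q : ℤ) c.f := by
    have e1 : ((q ^ dd - 1 : ℕ) : ℤ) = pev (q : ℤ) c.f * pev (q : ℤ) c.g := by
      rw [← pev_pmul, pev_of_peq hfg, pev_xpow1, hcd, Nat.cast_sub (Nat.one_le_pow _ _ (by omega))]
      simp
    have e2 : (m : ℤ) ∣ pev (q : ℤ) c.f * pev (q : ℤ) c.g := by
      rw [← e1, Int.natCast_dvd_natCast]
      exact pow_padicValNat_dvd
    refine IsCoprime.dvd_of_dvd_mul_right ?_ e2
    rw [hm, Nat.cast_pow]
    refine IsCoprime.pow_left ((Nat.prime_iff_prime_int.1 hr.out).coprime_iff_not_dvd.2 fun h => ?_)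
    have h' : (r : ℤ) ∣ pev (q : ℤ) (pprod (c.ks.map xpow1)) := by
      rw [← pev_of_peq hgu, pev_pmul]
      exact h.mul_right _
    rw [pev_pprod] at h'
    obtain ⟨x, hx, hx'⟩ := (Nat.prime_iff_prime_int.1 hr.out).dvd_prod_iff.1 h'
    simp only [List.mem_map] at hx
    obtain ⟨_, ⟨j, hj, rfl⟩, rfl⟩ := hx
    obtain ⟨hj0, hjd⟩ := hks j hj
    rw [pev_xpow1, show (q : ℤ) ^ j - 1 = ((q ^ j - 1 : ℕ) : ℤ) by
      rw [Nat.cast_sub (Nat.one_le_pow _ _ (by omega))]; simp, Int.natCast_dvd_natCast] at hx'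
    exact not_dvd_pow_sub_one hrq (fun hh => absurd (Nat.le_of_dvd hj0 hh) (by omega)) hx'
  have hmF : (m : F) ≠ 0 := by
    rw [hm, Nat.cast_pow]
    refine pow_ne_zero _ fun h => ?_
    obtain ⟨p, hp⟩ := CharP.exists F
    obtain ⟨n, hpr, hqn⟩ := FiniteField.card F p
    have h1 : p ∣ r := (CharP.cast_eq_zero_iff F p r).1 h
    rw [(Nat.prime_dvd_prime_iff_eq hpr hr.out).1 h1] at hqn
    exact hrq (by rw [← hq, hqn]; exact dvd_pow_self _ n.pos.ne')
  have hco : ∀ x : ℕ, x ∣ deg.prod → Nat.Coprime m x := fun x hx =>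
    Nat.Coprime.pow_left _ (hr.out.coprime_iff_not_dvd.2 fun h => hrW (h.trans hx))
  have hδ : IsCoprime c.delta (m : ℤ) := by
    refine IsCoprime.of_isCoprime_of_dvd_left ?_ hdelta
    exact Nat.isCoprime_iff_coprime.2 (hco _ dvd_rfl).symm
  obtain ⟨f, hf⟩ := exists_torus_hom (F := F) hD hR (c.wordFin D) (c.mat D)
    (fun i s hs => by
      rw [← colV_spec hD hR (c.wordFin D) i hs]
      refine Finset.sum_congr rfl fun j _ => ?_
      rw [hword i, List.getD_eq_getElem _ _ (by simp), List.getElem_map, List.getElem_range]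
      rfl) (a := c.a) hmF (hco _ hd)
    (Matrix.of fun i j => pev (q : ℤ) (pent c.P i.val j.val))
    (Matrix.of fun j i => pev (q : ℤ) (pent c.Ps j.val i.val)) c.delta hδ
    (fun i j => by
      have e := pev_of_peq (hP i j) (q : ℤ)
      rw [pev_psum, pev_pmul] at e
      rw [Matrix.mul_apply]
      refine dvd_trans (hfq.trans (dvd_mul_left _ _)) (dvd_of_eq (e.symm.trans ?_))
      refine Finset.sum_congr rfl fun x _ => ?_
      rw [pev_pmul, hq, Matrix.sub_apply, Matrix.smul_apply, smul_eq_mul, Matrix.one_apply]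
      simp only [pev, Matrix.of_apply]
      split_ifs <;> ring)
    (fun i j => by
      have e := pev_of_peq (hPs i j) (q : ℤ)
      rw [pev_psum, pev_padd, pev_pmul] at e
      rw [Matrix.mul_apply]
      refine hfq.trans ⟨pev (q : ℤ) (pent c.Qb i.val j.val), ?_⟩
      simp only [pev_pmul] at e
      simp only [Matrix.of_apply]
      rw [e]
      simp [pev]
      ring)
  have hcardf : Nat.card ↥f.range = r ^ (Nat.card ↥(D.group F)).factorization r := by
    rw [← Nat.card_congr (MonoidHom.ofInjective hf).toEquiv, Nat.card_pi, Finset.prod_const, Finset.card_univ,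
      Fintype.card_fin, Nat.card_congr Multiplicative.toAdd, Nat.card_zmod, Nat.factorization_def _ hr.out, hvG,
      hm, ← pow_mul, hca, mul_comm]
  let Q : Sylow r ↥(D.group F) := Sylow.ofCard f.range hcardf
  have : Finite (Sylow r ↥(D.group F)) := inferInstance
  refine ⟨(Sylow.equiv P Q).trans ?_⟩
  refine (MonoidHom.ofInjective hf).symm.trans ?_
  rw [hca]
  exact MulEquiv.refl _

end Cfsg.Agent.ChevLang
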