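import Cfsg.Agent.EqLemmas
import Cfsg.Agent.Lib.ChevLang.SylCert
import Cfsg.Agent.Lib.ChevBN.RootTables

/-!
# Twisted tori carrying the Sylow subgroups of type B2
-/

set_option autoImplicit false
set_option maxRecDepth 100000
set_option synthInstance.maxSize 4000

namespace Cfsg.Agent.ChevLang

open Cfsg.Lie

/-- The certificates for `B2`. -/
def sylB2 : List SylCert := [
  { d := 1, a := 2, word := [],
    A := [[1, 0], [0, 1]],
    f := [-1, 1], g := [1], u := [1], ks := [],
    P := [[[1], []], [[], [1]]],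
    Ps := [[[1], []], [[], [1]]],
    delta := 1,
    Qa := [[[1], []], [[], [1]]],
    Qb := [[[], []], [[], []]] },
  { d := 2, a := 2, word := [1, 0, 1, 0],
    A := [[-1, 0], [0, -1]],
    f := [1, 1], g := [-1, 1], u := [1], ks := [1],
    P := [[[1], []], [[], [1]]],
    Ps := [[[1], []], [[], [1]]],
    delta := 1,
    Qa := [[[-1], []], [[], [-1]]],
    Qb := [[[], []], [[], []]] },
  { d := 4, a := 1, word := [0, 1],
    A := [[1, -1], [2, -1]],
    f := [1, 0, 1], g := [-1, 0, 1], u := [1], ks := [2],
    P := [[[0, -1]], [[1, -1]]],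
    Ps := [[[0, 1], []]],
    delta := 1,
    Qa := [[[]], [[-1]]],
    Qb := [[[-1]]] }]

theorem sylCoversB2 : covers [2, 4] sylB2 = true := by decide +kernel

theorem sylOKB2 : sylB2.all (fun c => c.ok chevB2 ([2, 4] : List ℕ).prod) = true := by decide +kernel

end Cfsg.Agent.ChevLang
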