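import Cfsg.Agent.EqLemmas
import Cfsg.Agent.Lib.ChevLang.SylCert
import Cfsg.Agent.Lib.ChevBN.RootTables

/-!
# Twisted tori carrying the Sylow subgroups of type D4
-/

set_option autoImplicit false
set_option maxRecDepth 100000
set_option synthInstance.maxSize 4000

namespace Cfsg.Agent.ChevLang

open Cfsg.Lie

/-- The certificates for `D4`. -/
def sylD4 : List SylCert := [
  { d := 1, a := 4, word := [],
    A := [[1, 0, 0, 0], [0, 1, 0, 0], [0, 0, 1, 0], [0, 0, 0, 1]],
    f := [-1, 1], g := [1], u := [1], ks := [],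
    P := [[[1], [], [], []], [[], [1], [], []], [[], [], [1], []], [[], [], [], [1]]],
    Ps := [[[1], [], [], []], [[], [1], [], []], [[], [], [1], []], [[], [], [], [1]]],
    delta := 1,
    Qa := [[[1], [], [], []], [[], [1], [], []], [[], [], [1], []], [[], [], [], [1]]],
    Qb := [[[], [], [], []], [[], [], [], []], [[], [], [], []], [[], [], [], []]] },
  { d := 2, a := 4, word := [3, 1, 2, 0, 1, 3, 0, 1, 2, 0, 1, 0],
    A := [[-1, 0, 0, 0], [0, -1, 0, 0], [0, 0, -1, 0], [0, 0, 0, -1]],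
    f := [1, 1], g := [-1, 1], u := [1], ks := [1],
    P := [[[1], [], [], []], [[], [1], [], []], [[], [], [1], []], [[], [], [], [1]]],
    Ps := [[[1], [], [], []], [[], [1], [], []], [[], [], [1], []], [[], [], [], [1]]],
    delta := 1,
    Qa := [[[-1], [], [], []], [[], [-1], [], []], [[], [], [-1], []], [[], [], [], [-1]]],
    Qb := [[[], [], [], []], [[], [], [], []], [[], [], [], []], [[], [], [], []]] },
  { d := 3, a := 1, word := [1, 0],
    A := [[-1, 1, 0, 0], [-1, 0, 1, 1], [0, 0, 1, 0], [0, 0, 0, 1]],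
    f := [1, 1, 1], g := [-1, 1], u := [1], ks := [1],
    P := [[[-1, -1]], [[-1]], [[]], [[]]],
    Ps := [[[], [-1], [], []]],
    delta := 1,
    Qa := [[[1]], [[1]], [[]], [[]]],
    Qb := [[[]]] },
  { d := 4, a := 2, word := [2, 0, 1, 3, 2, 1],
    A := [[1, -1, 0, 0], [2, -1, 0, 0], [1, 0, 0, -1], [1, -1, 1, 0]],
    f := [1, 0, 1], g := [-1, 0, 1], u := [1], ks := [2],
    P := [[[0, -1], []], [[1, -1], []], [[], [1]], [[0, -1], [0, 1]]],
    Ps := [[[], [], [1], [0, 1]], [[], [], [1], []]],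
    delta := 1,
    Qa := [[[], []], [[-1], []], [[], [-1]], [[], []]],
    Qb := [[[-1], [1]], [[], []]] },
  { d := 6, a := 1, word := [1, 3, 2, 0],
    A := [[-1, 1, 0, 0], [-1, 2, -1, -1], [0, 1, -1, 0], [0, 1, 0, -1]],
    f := [1, -1, 1], g := [-1, -1, 0, 1, 1], u := [-1, 1], ks := [3, 2],
    P := [[[1, -1]], [[1, -2]], [[1, -1]], [[1, -1]]],
    Ps := [[[], [], [], [0, 1]]],
    delta := 1,
    Qa := [[[-1]], [[-1]], [[-1]], [[-1]]],
    Qb := [[[-1]]] }]

theorem sylCoversD4 : covers [2, 4, 4, 6] sylD4 = true := by decide +kernel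

theorem sylOKD4 : sylD4.all (fun c => c.ok chevD4 ([2, 4, 4, 6] : List ℕ).prod) = true := by decide +kernel

end Cfsg.Agent.ChevLang
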