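import Cfsg.Agent.EqLemmas
import Cfsg.Agent.Lib.ChevLang.SylCert
import Cfsg.Agent.Lib.ChevBN.RootTables

/-!
# Twisted tori carrying the Sylow subgroups of type E6
-/

set_option autoImplicit false
set_option maxRecDepth 100000
set_option synthInstance.maxSize 4000

namespace Cfsg.Agent.ChevLang

open Cfsg.Lie

/-- The certificates for `E6`. -/
def sylE6 : List SylCert := [
  { d := 1, a := 6, word := [],
    A := [[1, 0, 0, 0, 0, 0], [0, 1, 0, 0, 0, 0], [0, 0, 1, 0, 0, 0], [0, 0, 0, 1, 0, 0], [0, 0, 0, 0, 1, 0], [0, 0, 0, 0, 0, 1]],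
    f := [-1, 1], g := [1], u := [1], ks := [],
    P := [[[1], [], [], [], [], []], [[], [1], [], [], [], []], [[], [], [1], [], [], []], [[], [], [], [1], [], []], [[], [], [], [], [1], []], [[], [], [], [], [], [1]]],
    Ps := [[[1], [], [], [], [], []], [[], [1], [], [], [], []], [[], [], [1], [], [], []], [[], [], [], [1], [], []], [[], [], [], [], [1], []], [[], [], [], [], [], [1]]],
    delta := 1,
    Qa := [[[1], [], [], [], [], []], [[], [1], [], [], [], []], [[], [], [1], [], [], []], [[], [], [], [1], [], []], [[], [], [], [], [1], []], [[], [], [], [], [], [1]]],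
    Qb := [[[], [], [], [], [], []], [[], [], [], [], [], []], [[], [], [], [], [], []], [[], [], [], [], [], []], [[], [], [], [], [], []], [[], [], [], [], [], []]] },
  { d := 2, a := 4, word := [5, 4, 3, 2, 1, 3, 4, 5, 4, 3, 2, 1, 3, 4, 3, 2, 1, 3, 2, 1],
    A := [[1, 0, 0, 0, 0, 0], [2, 0, -1, 0, 0, 0], [2, -1, 0, 0, 0, 0], [3, 0, 0, -1, 0, 0], [2, 0, 0, 0, -1, 0], [1, 0, 0, 0, 0, -1]],
    f := [1, 1], g := [-1, 1], u := [1], ks := [1],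
    P := [[[], [], [], []], [[1], [], [], []], [[1], [], [], []], [[], [1], [], []], [[], [], [1], []], [[], [], [], [1]]],
    Ps := [[[], [1], [], [], [], []], [[], [], [], [1], [], []], [[], [], [], [], [1], []], [[], [], [], [], [], [1]]],
    delta := 1,
    Qa := [[[], [], [], []], [[-1], [], [], []], [[-1], [], [], []], [[], [-1], [], []], [[], [], [-1], []], [[], [], [], [-1]]],
    Qb := [[[], [], [], []], [[], [], [], []], [[], [], [], []], [[], [], [], []]] },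
  { d := 3, a := 3, word := [4, 5, 1, 3, 4, 2, 3, 0, 2, 1, 3, 4, 5, 4, 3, 2, 1, 3, 4, 0, 2, 3, 0, 2],
    A := [[0, 1, -1, 0, 0, 0], [0, 1, 0, -1, 0, 0], [1, 2, -1, -1, 0, 0], [0, 3, 0, -2, 0, 0], [0, 2, 0, -1, 0, -1], [0, 1, 0, -1, 1, -1]],
    f := [1, 1, 1], g := [-1, 1], u := [1], ks := [1],
    P := [[[1, 2], [-1, -2], []], [[3, 3], [], []], [[2, 4], [1, -1], []], [[3, 6], [], []], [[2, 4], [], [-1, -2]], [[1, 2], [], [1, -1]]],
    Ps := [[[], [0, -1], [], [], [], []], [[1, 2], [0, -1], [], [], [], []], [[], [0, -2], [], [], [1, 2], []]],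
    delta := 3,
    Qa := [[[-1], [1], []], [[-3], [], []], [[-2], [-1], []], [[-3], [], []], [[-2], [], [1]], [[-1], [], [-1]]],
    Qb := [[[-3], [], []], [[1], [-4], []], [[2], [], [-4]]] },
  { d := 4, a := 2, word := [3, 2, 1, 3, 4, 5, 2, 1, 3, 4],
    A := [[1, 0, 0, 0, 0, 0], [1, 1, 0, 0, -1, 0], [1, 0, 1, 0, -1, 0], [1, 1, 1, 0, -1, -1], [0, 1, 1, 0, -1, 0], [0, 0, 0, 1, -1, 0]],
    f := [1, 0, 1], g := [-1, 0, 1], u := [1], ks := [2],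
    P := [[[], []], [[], [0, -1]], [[], [0, -1]], [[1], [0, -1]], [[], [1, -1]], [[0, 1], [0, -1]]],
    Ps := [[[], [-1], [], [1], [], []], [[], [0, 1], [], [], [], []]],
    delta := 1,
    Qa := [[[], []], [[], []], [[], []], [[-1], []], [[], [-1]], [[], []]],
    Qb := [[[], []], [[], [-1]]] },
  { d := 5, a := 1, word := [5, 4, 1, 3, 2, 1],
    A := [[1, 0, 0, 0, 0, 0], [1, 0, -1, 0, 1, 0], [1, 0, -1, 1, 0, 0], [1, -1, -1, 1, 1, 0], [1, -1, -1, 1, 0, 1], [1, -1, -1, 1, 0, 0]],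
    f := [1, 1, 1, 1, 1], g := [-1, 1], u := [1], ks := [1],
    P := [[[]], [[0, 0, 0, 1]], [[-1, 0, -1]], [[0, 0, 0, 1]], [[-1]], [[0, 1, 0, 1]]],
    Ps := [[[], [], [], [], [-1], []]],
    delta := 1,
    Qa := [[[]], [[]], [[1]], [[]], [[1]], [[]]],
    Qb := [[[]]] },
  { d := 6, a := 2, word := [1, 3, 4, 5, 3, 4, 0, 2, 1, 3, 0, 2],
    A := [[0, 1, 0, -1, 1, 0], [0, 1, -1, 0, 1, -1], [0, 1, -1, 0, 1, 0], [1, 1, -2, 0, 2, -1], [1, 1, -2, 0, 1, 0], [1, 1, -1, 0, 0, 0]],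
    f := [1, -1, 1], g := [-1, -1, 0, 1, 1], u := [-1, 1], ks := [3, 2],
    P := [[[1, 1], [-1, 2]], [[], [1, 1]], [[-1, 2], [-1, 2]], [[-2, 4], [-1, 2]], [[0, 3], [-1, 2]], [[1, 1], [-1, 2]]],
    Ps := [[[], [-2, 1], [1, -2], [], [], []], [[], [2, -1], [], [], [], []]],
    delta := 3,
    Qa := [[[-1], [1]], [[], [-1]], [[1], [1]], [[2], [1]], [[], [1]], [[-1], [1]]],
    Qb := [[[-4], [-3]], [[], [-1]]] },
  { d := 8, a := 1, word := [2, 1, 3, 4, 5],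
    A := [[1, 0, 0, 0, 0, 0], [0, 0, 1, 0, 0, -1], [1, 1, 0, 0, 0, -1], [0, 1, 1, 0, 0, -1], [0, 0, 0, 1, 0, -1], [0, 0, 0, 0, 1, -1]],
    f := [1, 0, 0, 0, 1], g := [-1, 0, 0, 0, 1], u := [1], ks := [4],
    P := [[[]], [[0, -1]], [[0, -1]], [[0, -1, -1]], [[0, -1, 0, -1]], [[1, -1]]],
    Ps := [[[], [0, 0, 0, 1], [], [], [], []]],
    delta := 1,
    Qa := [[[]], [[]], [[]], [[]], [[]], [[-1]]],
    Qb := [[[-1]]] },
  { d := 9, a := 1, word := [1, 3, 4, 5, 3, 4, 0, 2, 1, 3],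
    A := [[0, 1, 0, -1, 1, 0], [1, 1, 0, -1, 1, -1], [1, 1, 0, -1, 1, 0], [1, 1, 1, -2, 2, -1], [1, 1, 1, -2, 1, 0], [0, 1, 1, -1, 0, 0]],
    f := [1, 0, 0, 1, 0, 0, 1], g := [-1, 0, 0, 1], u := [1], ks := [3],
    P := [[[0, -2, -1, 0, -1, 1]], [[-1, -1, -1, -2, 1, 1]], [[-1, -2, -3, -2, -1]], [[0, -3, -3, -3]], [[-1, -3, -2, -2, 0, -1]], [[-1, -2, 0, -2, -1]]],
    Ps := [[[], [], [], [], [], [0, -1, 1, 1, -1]]],
    delta := 3,
    Qa := [[[]], [[1]], [[1]], [[]], [[1]], [[1]]],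
    Qb := [[[-3, 1, 1]]] },
  { d := 12, a := 1, word := [4, 5, 1, 3, 0, 2],
    A := [[0, 0, -1, 1, 0, 0], [1, 0, -1, 0, 1, 0], [1, 0, -1, 1, 0, 0], [1, 1, -1, 0, 1, 0], [1, 1, -1, 0, 1, -1], [0, 0, 0, 0, 1, -1]],
    f := [1, 0, -1, 0, 1], g := [-1, 0, -1, 0, 0, 0, 1, 0, 1], u := [-1, 0, 1], ks := [6, 4],
    P := [[[-1, 0, 2]], [[1, -1, 1, 2]], [[-1, -1, 2, 2]], [[-1, 0, 2, 3]], [[-1, 1, 2, 1]], [[-1, 0, 2]]],
    Ps := [[[], [], [], [], [-1, 2, -1, -1], []]],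
    delta := 3,
    Qa := [[[1]], [[-1]], [[1]], [[1]], [[1]], [[1]]],
    Qb := [[[-2, -3, -1]]] }]

theorem sylCoversE6 : covers [2, 5, 6, 8, 9, 12] sylE6 = true := by decide +kernel

theorem sylOKE6 : sylE6.all (fun c => c.ok chevE6 ([2, 5, 6, 8, 9, 12] : List ℕ).prod) = true := by decide +kernel

end Cfsg.Agent.ChevLang
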