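import Cfsg.Agent.EqLemmas
import Cfsg.Agent.Lib.ChevLang.SylCert
import Cfsg.Agent.Lib.ChevBN.RootTables

/-!
# Twisted tori carrying the Sylow subgroups of type E8
-/

set_option autoImplicit false
set_option maxRecDepth 100000
set_option synthInstance.maxSize 4000

namespace Cfsg.Agent.ChevLang

open Cfsg.Lie

/-- The certificates for `E8`. -/
def sylE8 : List SylCert := [
  { d := 1, a := 8, word := [],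
    A := [[1, 0, 0, 0, 0, 0, 0, 0], [0, 1, 0, 0, 0, 0, 0, 0], [0, 0, 1, 0, 0, 0, 0, 0], [0, 0, 0, 1, 0, 0, 0, 0], [0, 0, 0, 0, 1, 0, 0, 0], [0, 0, 0, 0, 0, 1, 0, 0], [0, 0, 0, 0, 0, 0, 1, 0], [0, 0, 0, 0, 0, 0, 0, 1]],
    f := [-1, 1], g := [1], u := [1], ks := [],
    P := [[[1], [], [], [], [], [], [], []], [[], [1], [], [], [], [], [], []], [[], [], [1], [], [], [], [], []], [[], [], [], [1], [], [], [], []], [[], [], [], [], [1], [], [], []], [[], [], [], [], [], [1], [], []], [[], [], [], [], [], [], [1], []], [[], [], [], [], [], [], [], [1]]],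
    Ps := [[[1], [], [], [], [], [], [], []], [[], [1], [], [], [], [], [], []], [[], [], [1], [], [], [], [], []], [[], [], [], [1], [], [], [], []], [[], [], [], [], [1], [], [], []], [[], [], [], [], [], [1], [], []], [[], [], [], [], [], [], [1], []], [[], [], [], [], [], [], [], [1]]],
    delta := 1,
    Qa := [[[1], [], [], [], [], [], [], []], [[], [1], [], [], [], [], [], []], [[], [], [1], [], [], [], [], []], [[], [], [], [1], [], [], [], []], [[], [], [], [], [1], [], [], []], [[], [], [], [], [], [1], [], []], [[], [], [], [], [], [], [1], []], [[], [], [], [], [], [], [], [1]]],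
    Qb := [[[], [], [], [], [], [], [], []], [[], [], [], [], [], [], [], []], [[], [], [], [], [], [], [], []], [[], [], [], [], [], [], [], []], [[], [], [], [], [], [], [], []], [[], [], [], [], [], [], [], []], [[], [], [], [], [], [], [], []], [[], [], [], [], [], [], [], []]] },
  { d := 2, a := 8, word := [7, 6, 5, 4, 3, 2, 1, 3, 4, 5, 6, 0, 2, 3, 4, 5, 1, 3, 4, 2, 3, 0, 2, 1, 3, 4, 5, 6, 7, 6, 5, 4, 3, 2, 1, 3, 4, 5, 6, 0, 2, 3, 4, 5, 1, 3, 4, 2, 3, 0, 2, 1, 3, 4, 5, 6, 7, 6, 5, 4, 3, 2, 1, 3, 4, 5, 6, 0, 2, 3, 4, 5, 1, 3, 4, 2, 3, 0, 2, 1, 3, 4, 5, 6, 0, 2, 3, 4, 5, 1, 3, 4, 2, 3, 0, 2, 1, 3, 4, 5, 1, 3, 4, 2, 3, 0, 2, 1, 3, 4, 2, 3, 0, 2, 1, 3, 0, 2, 1, 0],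
    A := [[-1, 0, 0, 0, 0, 0, 0, 0], [0, -1, 0, 0, 0, 0, 0, 0], [0, 0, -1, 0, 0, 0, 0, 0], [0, 0, 0, -1, 0, 0, 0, 0], [0, 0, 0, 0, -1, 0, 0, 0], [0, 0, 0, 0, 0, -1, 0, 0], [0, 0, 0, 0, 0, 0, -1, 0], [0, 0, 0, 0, 0, 0, 0, -1]],
    f := [1, 1], g := [-1, 1], u := [1], ks := [1],
    P := [[[1], [], [], [], [], [], [], []], [[], [1], [], [], [], [], [], []], [[], [], [1], [], [], [], [], []], [[], [], [], [1], [], [], [], []], [[], [], [], [], [1], [], [], []], [[], [], [], [], [], [1], [], []], [[], [], [], [], [], [], [1], []], [[], [], [], [], [], [], [], [1]]],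
    Ps := [[[1], [], [], [], [], [], [], []], [[], [1], [], [], [], [], [], []], [[], [], [1], [], [], [], [], []], [[], [], [], [1], [], [], [], []], [[], [], [], [], [1], [], [], []], [[], [], [], [], [], [1], [], []], [[], [], [], [], [], [], [1], []], [[], [], [], [], [], [], [], [1]]],
    delta := 1,
    Qa := [[[-1], [], [], [], [], [], [], []], [[], [-1], [], [], [], [], [], []], [[], [], [-1], [], [], [], [], []], [[], [], [], [-1], [], [], [], []], [[], [], [], [], [-1], [], [], []], [[], [], [], [], [], [-1], [], []], [[], [], [], [], [], [], [-1], []], [[], [], [], [], [], [], [], [-1]]],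
    Qb := [[[], [], [], [], [], [], [], []], [[], [], [], [], [], [], [], []], [[], [], [], [], [], [], [], []], [[], [], [], [], [], [], [], []], [[], [], [], [], [], [], [], []], [[], [], [], [], [], [], [], []], [[], [], [], [], [], [], [], []], [[], [], [], [], [], [], [], []]] },
  { d := 3, a := 4, word := [3, 4, 5, 6, 0, 2, 3, 4, 5, 1, 3, 4, 2, 3, 0, 2, 1, 3, 4, 5, 6, 7, 6, 5, 4, 3, 2, 1, 3, 4, 5, 6, 0, 2, 3, 4, 5, 1, 3, 4, 2, 3, 0, 2, 1, 3, 4, 5, 6, 7, 5, 3, 4, 2, 3, 0, 2, 1, 3, 4, 5, 6, 4, 2, 3, 0, 2, 1, 3, 4, 5, 3, 4, 0, 2, 1, 3, 0, 2, 1],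
    A := [[0, -1, -1, 1, 1, -1, 0, -1], [1, -2, -2, 1, 2, -1, 0, -1], [1, -2, -3, 2, 2, -2, 1, -2], [2, -3, -4, 2, 3, -2, 1, -3], [2, -3, -3, 2, 2, -2, 1, -2], [2, -2, -2, 1, 2, -2, 1, -2], [2, -1, -2, 1, 1, -1, 0, -1], [1, -1, -1, 1, 0, 0, 0, -1]],
    f := [1, 1, 1], g := [-1, 1], u := [1], ks := [1],
    P := [[[2, 1], [-1, -2], [1, 2], [-1, -2]], [[1, 2], [0, -3], [1, 2], [-1, -2]], [[1, 2], [-2, -4], [2, 4], [-2, -4]], [[2, 4], [-3, -6], [4, 5], [-2, -4]], [[2, 4], [-3, -6], [2, 4], [-2, -4]], [[2, 4], [-2, -4], [1, 2], [0, -3]], [[2, 4], [-1, -2], [1, 2], [-1, -2]], [[1, 2], [-1, -2], [1, 2], []]],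
    Ps := [[[2], [], [-1], [], [], [], [], []], [[0, -1], [2, 1], [-1], [], [], [], [], []], [[-2, -1], [2, 1], [], [], [], [], [], [-1, -2]], [[-1], [], [1, 1], [], [], [], [], [-1, -2]]],
    delta := 3,
    Qa := [[[-2], [1], [-1], [1]], [[-1], [], [-1], [1]], [[-1], [2], [-2], [2]], [[-2], [3], [-4], [2]], [[-2], [3], [-2], [2]], [[-2], [2], [-1], []], [[-2], [1], [-1], [1]], [[-1], [1], [-1], []]],
    Qb := [[[], [], [], []], [[1], [-1], [], []], [[-3], [3], [-4], []], [[-2], [], [], [-4]]] },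
  { d := 4, a := 4, word := [7, 6, 2, 3, 4, 5, 1, 3, 4, 2, 3, 0, 2, 1, 3, 4, 5, 6, 7, 5, 4, 3, 2, 1, 3, 4, 5, 6, 0, 2, 3, 4, 5, 1, 3, 4, 2, 3, 0, 2, 1, 3, 4, 5, 6, 5, 4, 3, 2, 1, 3, 4, 5, 3, 2, 1, 3, 4, 2, 0],
    A := [[-1, 1, 1, 0, -1, 0, -1, 2], [-2, 0, 1, 1, -1, 0, -2, 3], [-2, 1, 2, 0, -1, 0, -3, 4], [-3, 0, 3, 1, -2, 0, -4, 6], [-2, 0, 2, 1, -1, -1, -3, 5], [-2, 0, 2, 0, 0, -1, -2, 4], [-2, 0, 2, 0, 0, -1, -1, 2], [-1, 0, 1, 0, 0, -1, 0, 1]],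
    f := [1, 0, 1], g := [-1, 0, 1], u := [1], ks := [2],
    P := [[[1, -1], [0, -1], [], [0, 2]], [[0, -2], [0, -1], [], [0, 3]], [[0, -2], [0, -1], [], [0, 4]], [[0, -3], [0, -2], [], [0, 6]], [[0, -2], [1, -1], [0, -1], [0, 5]], [[0, -2], [], [1, -1], [0, 4]], [[0, -2], [], [0, -1], [0, 2]], [[0, -1], [], [0, -1], [1, 1]]],
    Ps := [[[1, -1], [-1, 1], [], [], [], [], [0, -1], [0, 1]], [[-2, -1], [2, 2], [], [], [], [], [-3, -1], [3, 1]], [[-2], [2], [], [], [], [], [-2, 1], [2]], [[0, -1], [0, 1], [], [], [], [], [-1, -1], [1, 1]]],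
    delta := 1,
    Qa := [[[-1], [], [], []], [[], [], [], []], [[], [], [], []], [[], [], [], []], [[], [-1], [], []], [[], [], [-1], []], [[], [], [], []], [[], [], [], [-1]]],
    Qb := [[[], [], [], []], [[-2], [-1], [], [3]], [[-2], [], [-1], [2]], [[], [], [], []]] },
  { d := 5, a := 2, word := [3, 4, 5, 6, 7, 3, 2, 1, 3, 4, 5, 6, 0, 2, 3, 4, 5, 1, 3, 4, 2, 3, 0, 2, 1, 3, 4, 5, 6, 7, 2, 3, 4, 5, 6, 2, 1, 3, 4, 5, 3, 4, 2, 1, 3, 0, 2, 1],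
    A := [[1, -1, -2, 1, 1, 0, 0, -1], [1, -2, -2, 2, 1, -1, 1, -2], [2, -2, -3, 2, 2, -1, 0, -2], [2, -3, -4, 3, 3, -2, 1, -4], [2, -2, -4, 3, 2, -2, 1, -3], [1, -1, -3, 2, 2, -2, 1, -2], [0, -1, -2, 2, 1, -1, 0, -1], [0, 0, -1, 1, 0, 0, 0, -1]],
    f := [1, 1, 1, 1, 1], g := [-1, 1], u := [1], ks := [1],
    P := [[[1, 2, 1, 1], [1, 1, 2, 1]], [[1, 3, 1], [1, 2, 1, 1]], [[1, 3, 1], [1, 1, 2, 1]], [[3, 5, 2], [1, 2, 2]], [[1, 4, 1, -1], [1, 2, 2]], [[1, 3, 2, -1], [1, 2, 2]], [[1, 3, 1], [2, 1, 2]], [[1, 2, 1, 1], [0, 0, 1, -1]]],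
    Ps := [[[2, -1, 1, -2], [], [], [], [], [], [-2, -1, -2], []], [[-1, -2, 2, 1], [], [], [], [], [], [2, 2, 0, 1], []]],
    delta := 5,
    Qa := [[[-1], [-1]], [[-1], [-1]], [[-1], [-1]], [[-3], [-1]], [[-1], [-1]], [[-1], [-1]], [[-1], [-2]], [[-1], []]],
    Qb := [[[-5, 1, -2], [-2, -1, -2]], [[1, 3, 1], [-2, 5, 1]]] },
  { d := 6, a := 4, word := [3, 4, 5, 6, 0, 2, 3, 4, 5, 1, 3, 4, 2, 3, 0, 2, 1, 3, 4, 5, 6, 7, 3, 4, 5, 6, 0, 2, 1, 3, 4, 5, 4, 0, 2, 1, 3, 0, 2, 1],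
    A := [[1, -1, -1, 1, 1, -1, 0, -1], [1, -1, -2, 1, 2, -1, 0, -1], [1, -2, -2, 2, 2, -2, 1, -2], [2, -3, -4, 3, 3, -2, 1, -3], [2, -3, -3, 2, 3, -2, 1, -2], [2, -2, -2, 1, 2, -1, 1, -2], [2, -1, -2, 1, 1, -1, 1, -1], [1, -1, -1, 1, 0, 0, 0, 0]],
    f := [1, -1, 1], g := [-1, -1, 0, 1, 1], u := [-1, 1], ks := [3, 2],
    P := [[[1, 1], [1, -2], [1, -2], [1, -2]], [[-1, 2], [3, -3], [1, -2], [1, -2]], [[-1, 2], [2, -4], [2, -4], [2, -4]], [[-2, 4], [3, -6], [2, -4], [3, -6]], [[-2, 4], [3, -6], [2, -4], [2, -4]], [[-2, 4], [2, -4], [3, -3], [2, -4]], [[-2, 4], [1, -2], [1, -2], [1, -2]], [[-1, 2], [1, -2], [], [2, -1]]],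
    Ps := [[[], [2], [-1, 2], [], [0, -2], [], [], []], [[], [2], [], [], [-1], [], [], []], [[], [-1], [-1, 2], [1, -2], [0, 1], [], [], []], [[], [], [], [-1, 2], [1, -2], [], [], []]],
    delta := 3,
    Qa := [[[-1], [-1], [-1], [-1]], [[1], [-3], [-1], [-1]], [[1], [-2], [-2], [-2]], [[2], [-3], [-2], [-3]], [[2], [-3], [-2], [-2]], [[2], [-2], [-3], [-2]], [[2], [-1], [-1], [-1]], [[1], [-1], [], [-2]]],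
    Qb := [[[-4], [4], [], []], [[], [], [], []], [[], [-2], [-4], []], [[], [], [], [-4]]] },
  { d := 7, a := 1, word := [6, 7, 6, 5, 1, 3, 4, 2, 3, 0],
    A := [[-1, 0, 1, 0, 0, 0, 0, 0], [-1, 1, 1, -1, 0, 1, 0, 0], [-1, 1, 1, -1, 1, 0, 0, 0], [-1, 2, 1, -1, 0, 1, 0, 0], [0, 1, 1, -1, 0, 1, 0, 0], [0, 1, 1, -1, 0, 0, 1, 0], [0, 1, 1, -1, 0, 0, 1, -1], [0, 1, 1, -1, 0, 0, 0, 0]],
    f := [1, 1, 1, 1, 1, 1, 1], g := [-1, 1], u := [1], ks := [1],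
    P := [[[0, 0, 0, 0, 0, -1]], [[0, 0, 0, -1, -1, -1]], [[0, 0, 0, 0, -1, -1]], [[1, 1, 1, 0, -1, -1]], [[1, 1, 1]], [[1, 1]], [[1]], [[1]]],
    Ps := [[[], [], [], [], [0, -1, 0, 0, -1], [], [], []]],
    delta := 1,
    Qa := [[[]], [[]], [[]], [[-1]], [[-1]], [[-1]], [[-1]], [[-1]]],
    Qb := [[[-1]]] },
  { d := 8, a := 2, word := [7, 6, 2, 3, 4, 5, 1, 3, 4, 2, 3, 0, 2, 1, 3, 4, 5, 6, 5, 4, 3, 2, 1, 3, 4, 5, 3, 4, 2, 0],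
    A := [[-1, 0, 0, 1, 0, -1, 0, 1], [-1, 0, 1, 1, -1, -1, 0, 2], [-2, 0, 1, 1, 0, -2, 0, 3], [-3, 1, 2, 1, -1, -2, 0, 4], [-2, 1, 2, 0, 0, -2, 0, 3], [-2, 0, 2, 0, 0, -1, 0, 2], [-1, 0, 1, 0, 0, 0, -1, 2], [-1, 0, 1, 0, 0, 0, -1, 1]],
    f := [1, 0, 0, 0, 1], g := [-1, 0, 0, 0, 1], u := [1], ks := [4],
    P := [[[0, 0, 1, -1], [0, -1]], [[1], [0, -1]], [[0, 0, 1, -1], [0, -2, 0, -1]], [[0, 1, 0, -1], [0, -2, 0, -1]], [[0, 1], [0, -2, -1, -1]], [[], [1, -1, -1, -1]], [[], [0, 0, -1, -1]], [[], [0, 0, -1]]],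
    Ps := [[[-1, -1, -1], [1, 1, 1], [], [], [], [], [], []], [[-1, -1, 0, 1], [1, 1], [], [], [], [], [], []]],
    delta := 1,
    Qa := [[[], []], [[-1], []], [[], []], [[], []], [[], []], [[], [-1]], [[], []], [[], []]],
    Qb := [[[0, 1], []], [[1, 1, -1], [-1]]] },
  { d := 9, a := 1, word := [0, 2, 3, 4, 5, 6, 5, 3, 0, 2, 1, 3, 4, 2, 3, 0, 2, 1, 3, 1],
    A := [[0, 0, 0, -1, 1, 1, -1, 1], [0, 0, 0, -1, 1, 1, 0, 0], [0, 0, 1, -2, 1, 2, -1, 1], [0, -1, 1, -2, 2, 2, -1, 1], [1, -1, 0, -1, 1, 2, -1, 1], [1, 0, 0, -1, 1, 1, -1, 1], [1, 0, 0, -1, 1, 0, 0, 1], [0, 0, 0, 0, 0, 0, 0, 1]],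
    f := [1, 0, 0, 1, 0, 0, 1], g := [-1, 0, 0, 1], u := [1], ks := [3],
    P := [[[1, 0, 2, -1, 0, 1]], [[0, 0, 3]], [[-1, 0, 4, -2, 0, 2]], [[-1, -1, 5, -2, -2, 1]], [[-1, 1, 3, -2, -1]], [[0, 1, 2, 0, -1, 1]], [[0, 1, 2, 0, -1, 1]], [[]]],
    Ps := [[[], [], [], [], [], [0, -1, 0, -1, 0, -1], [], []]],
    delta := 3,
    Qa := [[[-1]], [[]], [[1]], [[1]], [[1]], [[]], [[]], [[]]],
    Qb := [[[-3, 0, -1, 1, -1]]] },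
  { d := 10, a := 2, word := [6, 4, 5, 3, 4, 2, 3, 0, 2, 1, 3, 4, 5, 6, 7, 4, 5, 4, 2, 1, 3, 0, 2, 1],
    A := [[1, 0, -1, 0, 1, 0, 0, -1], [0, -1, -1, 1, 1, 0, 0, -1], [1, -1, -1, 1, 1, 0, 0, -2], [1, -2, -2, 2, 2, -1, 1, -3], [1, -2, -2, 2, 1, 0, 1, -3], [1, -1, -2, 2, 0, 0, 1, -2], [0, 0, -1, 1, 0, 0, 1, -2], [0, 0, 0, 0, 0, 0, 1, -1]],
    f := [1, -1, 1, -1, 1], g := [-1, -1, 0, 0, 0, 1, 1], u := [-1, 1], ks := [5, 2],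
    P := [[[1, -2, -1, -3], [0, 0, 1, 1]], [[1, -2, -1, -3], [0, 1, 2, 1]], [[3, -3, -1, -5], [0, 1, 2, 1]], [[2, -4, -2, -6], [1, 2, 3, 2]], [[1, -3, -3, -4], [0, 2, 3, 1]], [[1, -3, -2, -3], [-1, 3, 1, 2]], [[0, -1, -2, -1], [0, 1, 2, 1]], [[0, 0, -1, -1], [0, 0, 1, 1]]],
    Ps := [[[], [-1, 2, 2, -1], [], [], [], [], [1, -2, -2, 1], []], [[], [-1, 2, 2, -1], [], [], [], [], [0, -1, -2, -1], []]],
    delta := 5,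
    Qa := [[[-1], []], [[-1], []], [[-3], []], [[-2], [-1]], [[-1], []], [[-1], [1]], [[], []], [[], []]],
    Qb := [[[-6, -3, 2], []], [[-1, 3, 4], [-5, -6, -2]]] },
  { d := 12, a := 2, word := [2, 3, 4, 5, 6, 7, 6, 4, 5, 1, 3, 4, 2, 3, 0, 2, 1, 3, 4, 5, 6, 0, 2, 3, 4, 5],
    A := [[0, 1, 0, 0, 0, 0, -1, 1], [0, 0, 0, 1, 0, -1, -1, 2], [0, 1, 0, 1, 0, -1, -2, 2], [0, 1, 1, 1, 0, -2, -2, 3], [1, 1, 0, 1, 0, -2, -1, 2], [1, 1, 0, 0, 1, -2, -1, 2], [0, 1, 0, 0, 1, -2, 0, 1], [0, 1, 0, 0, 0, -1, 0, 1]],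
    f := [1, 0, -1, 0, 1], g := [-1, 0, -1, 0, 0, 0, 1, 0, 1], u := [-1, 0, 1], ks := [6, 4],
    P := [[[0, 1, 0, 1], [1, -1, -2, -1]], [[1, 0, 1], [1, 0, -2, -3]], [[0, 1, 0, 1], [2, -1, -4, -4]], [[-1, 2, 2, -1], [3, 0, -6, -6]], [[-1, 2, 2, -1], [2, 1, -4, -5]], [[-1, 2, 2, -1], [1, 0, -2, -3]], [[0, 2, 0, -1], [2, 1, -1, -2]], [[0, 2, 0, -1], []]],
    Ps := [[[0, 0, 0, -1], [], [], [], [], [], [0, 1], []], [[0, -1, 1], [], [], [], [], [], [1, 0, -1, 1], []]],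
    delta := 3,
    Qa := [[[], [-1]], [[-1], [-1]], [[], [-2]], [[1], [-3]], [[1], [-2]], [[1], [-1]], [[], [-2]], [[], []]],
    Qb := [[[-3, 0, -1], [0, 2, 1]], [[0, 2, -1], [-1, 0, -2]]] },
  { d := 14, a := 1, word := [7, 0, 2, 1, 3, 4, 5, 6, 3, 4, 5, 4, 3, 0, 2, 1, 3, 4, 3],
    A := [[0, 0, 1, 0, -1, 1, -1, 1], [1, 1, 0, 0, -1, 1, -1, 1], [0, 1, 1, 0, -2, 2, -1, 1], [1, 1, 1, 0, -2, 2, -1, 1], [1, 1, 1, 0, -2, 1, 0, 1], [1, 1, 1, -1, -1, 1, 0, 1], [1, 0, 0, 0, -1, 1, 0, 1], [1, 0, 0, 0, -1, 1, 0, 0]],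
    f := [1, -1, 1, -1, 1, -1, 1], g := [-1, -1, 0, 0, 0, 0, 0, 1, 1], u := [-1, 1], ks := [7, 2],
    P := [[[1, -1, 0, -1, 0, -2]], [[2, -1, 0, -2, 0, -2]], [[2, -1, 0, -2, -1, -3]], [[4, -2, 1, -4, 0, -5]], [[3, -1, 0, -3, 0, -4]], [[2, -1, 0, -3, 0, -3]], [[2, -1, 0, -2, 0, -2]], [[1, -1, 0, -1, 0, -1]]],
    Ps := [[[], [], [], [], [], [], [], [0, 1, -1, 1, -1, 1]]],
    delta := 1,
    Qa := [[[-1]], [[-2]], [[-2]], [[-4]], [[-3]], [[-2]], [[-2]], [[-1]]],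
    Qb := [[[-1, 0, -1, 0, -1]]] },
  { d := 15, a := 1, word := [4, 3, 0, 2, 1, 3, 4, 5, 6, 7, 4, 5, 6, 4, 3, 0, 2, 1],
    A := [[0, -1, 0, 1, 0, 0, 0, -1], [1, 0, -1, 1, 0, 0, 0, -1], [0, -1, -1, 2, 0, 0, 0, -1], [1, -1, -2, 2, 1, 0, 0, -2], [1, -1, -2, 2, 1, 0, -1, -1], [1, -1, -1, 1, 1, 0, -1, 0], [1, -1, -1, 1, 0, 1, -1, 0], [0, 0, 0, 0, 0, 1, -1, 0]],
    f := [1, -1, 0, 1, -1, 1, 0, -1, 1], g := [-1, -1, -1, 0, 0, 1, 1, 1], u := [-1, 1], ks := [5, 3],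
    P := [[[0, 1, 2, 0, 0, 0, 2, 1]], [[-2, 1, 3, 0, 3, -1, -1, 3]], [[0, 1, 3, -1, 2, 2, 1, 2]], [[0, 2, 2, 1, 4, 1, 2, 2]], [[2, -2, 2, 2, 2, 3, 1]], [[3, -2, 0, 3, 0, 3, 2]], [[3, -1, 0, 1, 1, 1, 2, 1]], [[1, -1, -1, 1, 1, 0, 2, -1]]],
    Ps := [[[2, -2, 3, -4, -4, 3, -2, 2], [], [], [], [], [], [], []]],
    delta := 15,
    Qa := [[[]], [[2]], [[]], [[]], [[-2]], [[-3]], [[-3]], [[-1]]],
    Qb := [[[-15, -13, -11, 3, 3, 4, 2]]] },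
  { d := 18, a := 1, word := [7, 2, 3, 4, 5, 6, 5, 2, 1, 3, 0],
    A := [[-1, 0, 1, 0, 0, 0, 0, 0], [0, 0, 1, -1, 1, 0, 0, 0], [-1, 0, 2, -1, 1, 0, -1, 1], [-1, 1, 2, -2, 2, 0, -1, 1], [0, 1, 1, -1, 1, 0, -1, 1], [0, 0, 0, 0, 1, 0, -1, 1], [0, 0, 0, 0, 1, -1, 0, 1], [0, 0, 0, 0, 1, -1, 0, 0]],
    f := [1, 0, 0, -1, 0, 0, 1], g := [-1, 0, 0, -1, 0, 0, 0, 0, 0, 1, 0, 0, 1], u := [-1, 0, 0, 1], ks := [9, 6],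
    P := [[[0, 1, -2, 0, -2, 1]], [[1, -1, 0, -2, -1]], [[1, -1, -2, -2, -1, 1]], [[3, -2, -2, -3, -2, 1]], [[1, -1, -1, -2, -1, -1]], [[1, 0, -1, -2, 0, -1]], [[1, 0, -1, -2, 0, -1]], [[0, 0, -1, 0, 0, -1]]],
    Ps := [[[], [], [], [], [], [], [-1, 0, 0, 1, 1, -1], []]],
    delta := 3,
    Qa := [[[]], [[-1]], [[-1]], [[-3]], [[-1]], [[-1]], [[-1]], [[]]],
    Qb := [[[-4, 0, 1, -1, 1]]] },
  { d := 20, a := 1, word := [6, 7, 2, 3, 4, 5, 6, 0, 2, 3, 4, 5, 4, 1],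
    A := [[0, -1, 0, 1, 0, -1, 1, 0], [0, -1, 0, 1, 0, 0, 0, 0], [0, -2, 0, 2, 0, -1, 0, 1], [1, -2, 0, 2, 0, -1, 0, 1], [0, -1, 1, 1, 0, -1, 0, 1], [0, 0, 0, 1, 0, -1, 0, 1], [0, 0, 0, 1, 0, -1, 0, 0], [0, 0, 0, 1, -1, 0, 0, 0]],
    f := [1, 0, -1, 0, 1, 0, -1, 0, 1], g := [-1, 0, -1, 0, 0, 0, 0, 0, 0, 0, 1, 0, 1], u := [-1, 0, 1], ks := [10, 4],
    P := [[[0, 1, 0, 1, 1, 1, 1, 1]], [[-1, 0, 1, 1, 0, 2, 3, 1]], [[0, 0, 0, 2, 2, 3, 2, 1]], [[-1, 0, 2, 2, 2, 4, 4, 2]], [[0, 0, 0, 1, 3, 3, 3, 2]], [[0, -1, 0, 2, 2, 1, 2, 3]], [[1, -1, 0, 2, 1, 0, 2, 2]], [[0, -1, 0, 2, 1, -1, 1, 1]]],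
    Ps := [[[], [], [], [], [], [], [1, -1, 1, 0, -1, -1, 0, 1], []]],
    delta := 5,
    Qa := [[[]], [[1]], [[]], [[1]], [[]], [[]], [[-1]], [[]]],
    Qb := [[[-4, -2, -2, -1, 0, 2, 2]]] },
  { d := 24, a := 1, word := [5, 6, 7, 3, 2, 1, 3, 4, 5, 6, 3, 0, 2, 1, 3, 4, 5, 2, 3, 4, 0, 2],
    A := [[0, 1, 0, 0, 0, -1, 1, 0], [0, 1, -1, 1, 0, -1, 0, 1], [0, 2, -1, 1, -1, -1, 1, 1], [1, 2, -2, 2, -1, -2, 1, 2], [1, 1, -2, 2, -1, -1, 1, 1], [1, 1, -2, 2, -1, -1, 1, 0], [1, 1, -1, 1, -1, 0, 0, 0], [0, 0, 0, 1, -1, 0, 0, 0]],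
    f := [1, 0, 0, 0, -1, 0, 0, 0, 1], g := [-1, 0, 0, 0, -1, 0, 0, 0, 0, 0, 0, 0, 1, 0, 0, 0, 1], u := [-1, 0, 0, 0, 1], ks := [12, 8],
    P := [[[0, -1, 0, -2, 0, -1, 0, 1]], [[0, -1, -2, -2, 0, -1, 1, 1]], [[-1, 0, -2, -4, 2, -3, 1, 2]], [[-1, -1, -4, -4, 2, -4, 2, 2]], [[-1, 0, -3, -4, 2, -3, 0, 2]], [[1, 0, -3, -3, 1, -3, 0, 3]], [[0, 1, -3, -1, 0, -2, 0, 2]], [[0, 0, -1, -1, 0, 0, -1, 2]]],
    Ps := [[[0, -1, 0, 1, 0, -1, 0, 1], [], [], [], [], [], [], []]],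
    delta := 3,
    Qa := [[[]], [[]], [[1]], [[1]], [[1]], [[-1]], [[]], [[]]],
    Qb := [[[-3, 0, 1, 0, -2, 0, 1]]] },
  { d := 30, a := 1, word := [3, 4, 5, 6, 7, 5, 6, 3, 4, 5, 4, 0, 2, 1],
    A := [[0, 0, -1, 1, 0, 0, 0, 0], [0, -1, 0, 1, 0, 0, 0, 0], [1, 0, -1, 1, 0, 0, 0, 0], [1, -1, -1, 2, 0, 0, 0, -1], [1, -1, -1, 2, 0, -1, 1, -1], [0, 0, 0, 1, 0, -1, 1, -1], [0, 0, 0, 1, 0, -1, 0, 0], [0, 0, 0, 1, -1, 0, 0, 0]],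
    f := [1, 1, 0, -1, -1, -1, 0, 1, 1], g := [-1, 1, -1, 0, 0, -1, 1, -1, 0, 0, 0, 0, 0, 0, 0, 1, -1, 1, 0, 0, 1, -1, 1], u := [1, 1, 0, -1, -1, -1, -1, 0, 1, 1], ks := [15, 10, 6],
    P := [[[1, 0, -2, -1, 1, 0, 1, 3]], [[-1, -3, -1, 0, 3, 2, 3, -1]], [[-2, -2, -2, 0, 3, 4, 1, 1]], [[-3, -4, -2, 2, 4, 5, 3]], [[-3, -2, -3, 2, 4, 5, 2, -1]], [[0, 0, -4, 0, 0, 3, 3, 2]], [[2, -1, -4, 0, 0, 2, 2, 2]], [[-1, -1, -2, 2, 1, 1]]],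
    Ps := [[[], [], [], [], [], [], [1, -2, 1, -1, 1, 0, -1, -3], []]],
    delta := 15,
    Qa := [[[-1]], [[1]], [[2]], [[3]], [[3]], [[]], [[-2]], [[1]]],
    Qb := [[[-13, 8, -8, 0, -6, -2, -6]]] }]

theorem sylCoversE8 : covers [2, 8, 12, 14, 18, 20, 24, 30] sylE8 = true := by decide +kernel

theorem sylOKE8 : sylE8.all (fun c => c.ok chevE8 ([2, 8, 12, 14, 18, 20, 24, 30] : List ℕ).prod) = true := by decide +kernel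

end Cfsg.Agent.ChevLang
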