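import Cfsg.Agent.EqLemmas
import Cfsg.Agent.Lib.ChevLang.SylCert
import Cfsg.Agent.Lib.ChevBN.RootTables

/-!
# Twisted tori carrying the Sylow subgroups of type F4
-/

set_option autoImplicit false
set_option maxRecDepth 100000
set_option synthInstance.maxSize 4000

namespace Cfsg.Agent.ChevLang

open Cfsg.Lie

/-- The certificates for `F4`. -/
def sylF4 : List SylCert := [
  { d := 1, a := 4, word := [],
    A := [[1, 0, 0, 0], [0, 1, 0, 0], [0, 0, 1, 0], [0, 0, 0, 1]],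
    f := [-1, 1], g := [1], u := [1], ks := [],
    P := [[[1], [], [], []], [[], [1], [], []], [[], [], [1], []], [[], [], [], [1]]],
    Ps := [[[1], [], [], []], [[], [1], [], []], [[], [], [1], []], [[], [], [], [1]]],
    delta := 1,
    Qa := [[[1], [], [], []], [[], [1], [], []], [[], [], [1], []], [[], [], [], [1]]],
    Qb := [[[], [], [], []], [[], [], [], []], [[], [], [], []], [[], [], [], []]] },
  { d := 2, a := 4, word := [3, 2, 1, 2, 0, 1, 2, 3, 2, 1, 2, 0, 1, 2, 3, 2, 1, 2, 0, 1, 2, 0, 1, 0],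
    A := [[-1, 0, 0, 0], [0, -1, 0, 0], [0, 0, -1, 0], [0, 0, 0, -1]],
    f := [1, 1], g := [-1, 1], u := [1], ks := [1],
    P := [[[1], [], [], []], [[], [1], [], []], [[], [], [1], []], [[], [], [], [1]]],
    Ps := [[[1], [], [], []], [[], [1], [], []], [[], [], [1], []], [[], [], [], [1]]],
    delta := 1,
    Qa := [[[-1], [], [], []], [[], [-1], [], []], [[], [], [-1], []], [[], [], [], [-1]]],
    Qb := [[[], [], [], []], [[], [], [], []], [[], [], [], []], [[], [], [], []]] },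
  { d := 3, a := 2, word := [1, 2, 3, 2, 1, 2, 0, 1, 2, 3, 1, 2, 0, 1, 2, 0],
    A := [[-1, 1, -1, 1], [-1, 2, -2, 1], [-2, 4, -3, 1], [-2, 2, -1, 0]],
    f := [1, 1, 1], g := [-1, 1], u := [1], ks := [1],
    P := [[[1, 2], [1, 2]], [[4, 5], [1, 2]], [[4, 8], [1, 2]], [[2, 4], [2, 1]]],
    Ps := [[[1], [], [], [-1, -1]], [[-2, -2], [], [], [1, 1]]],
    delta := 3,
    Qa := [[[-1], [-1]], [[-4], [-1]], [[-4], [-1]], [[-2], [-2]]],
    Qb := [[[-4], [-1]], [[], [-3]]] },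
  { d := 4, a := 2, word := [1, 2, 3, 1, 2, 0, 1, 2, 3, 2, 1, 0],
    A := [[-1, 0, 1, -1], [-2, 1, 1, -2], [-4, 2, 1, -2], [-2, 2, 0, -1]],
    f := [1, 0, 1], g := [-1, 0, 1], u := [1], ks := [2],
    P := [[[0, 1], [0, -1]], [[0, 1], [0, -2]], [[1, 1], [0, -2]], [[], [1, -1]]],
    Ps := [[[0, -2], [0, 1], [], []], [[0, -1], [0, 1], [], []]],
    delta := 1,
    Qa := [[[], []], [[], []], [[-1], []], [[], [-1]]],
    Qb := [[[-1], []], [[], [-1]]] },
  { d := 6, a := 2, word := [1, 2, 3, 2, 0, 1, 2, 0],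
    A := [[0, 1, -1, 1], [-1, 3, -2, 1], [-2, 4, -2, 1], [-2, 2, -1, 1]],
    f := [1, -1, 1], g := [-1, -1, 0, 1, 1], u := [-1, 1], ks := [3, 2],
    P := [[[1, -2], [-1, 2]], [[2, -4], [-1, 2]], [[4, -5], [-1, 2]], [[1, -2], [1, 1]]],
    Ps := [[[-2, 1], [], [], [1, 1]], [[-1, -1], [], [], [1, 1]]],
    delta := 3,
    Qa := [[[-1], [1]], [[-2], [1]], [[-4], [1]], [[-1], [-1]]],
    Qb := [[[-4], [3]], [[], [-1]]] },
  { d := 8, a := 1, word := [2, 1, 2, 3, 1, 0],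
    A := [[-1, 1, 0, 0], [-2, 1, 1, -1], [-2, 2, 1, -2], [0, 0, 1, -1]],
    f := [1, 0, 0, 0, 1], g := [-1, 0, 0, 0, 1], u := [1], ks := [4],
    P := [[[0, 0, 1]], [[0, 1, 1]], [[1, 1, 1, 1]], [[0, 1, 0, 1]]],
    Ps := [[[0, 0, -1], [], [], []]],
    delta := 1,
    Qa := [[[]], [[]], [[-1]], [[]]],
    Qb := [[[-1]]] },
  { d := 12, a := 1, word := [3, 1, 2, 0],
    A := [[-1, 1, 0, 0], [-1, 2, -1, 1], [0, 2, -1, 1], [0, 2, -1, 0]],
    f := [1, 0, -1, 0, 1], g := [-1, 0, -1, 0, 0, 0, 1, 0, 1], u := [-1, 0, 1], ks := [6, 4],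
    P := [[[-1, 0, 2]], [[-1, 1, 2, 1]], [[-1, 0, 2, 3]], [[1, -1, 1, 2]]],
    Ps := [[[1, 0, -2], [], [], []]],
    delta := 3,
    Qa := [[[1]], [[1]], [[1]], [[-1]]],
    Qb := [[[-4]]] }]

theorem sylCoversF4 : covers [2, 6, 8, 12] sylF4 = true := by decide +kernel

theorem sylOKF4 : sylF4.all (fun c => c.ok chevF4 ([2, 6, 8, 12] : List ℕ).prod) = true := by decide +kernel

end Cfsg.Agent.ChevLang
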