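import Cfsg.Agent.EqLemmas
import Cfsg.Agent.Lib.ChevLang.SylCert
import Cfsg.Agent.Lib.ChevBN.RootTables

/-!
# Twisted tori carrying the Sylow subgroups of type G2
-/

set_option autoImplicit false
set_option maxRecDepth 100000
set_option synthInstance.maxSize 4000

namespace Cfsg.Agent.ChevLang

open Cfsg.Lie

/-- The certificates for `G2`. -/
def sylG2 : List SylCert := [
  { d := 1, a := 2, word := [],
    A := [[1, 0], [0, 1]],
    f := [-1, 1], g := [1], u := [1], ks := [],
    P := [[[1], []], [[], [1]]],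
    Ps := [[[1], []], [[], [1]]],
    delta := 1,
    Qa := [[[1], []], [[], [1]]],
    Qb := [[[], []], [[], []]] },
  { d := 2, a := 2, word := [1, 0, 1, 0, 1, 0],
    A := [[-1, 0], [0, -1]],
    f := [1, 1], g := [-1, 1], u := [1], ks := [1],
    P := [[[1], []], [[], [1]]],
    Ps := [[[1], []], [[], [1]]],
    delta := 1,
    Qa := [[[-1], []], [[], [-1]]],
    Qb := [[[], []], [[], []]] },
  { d := 3, a := 1, word := [0, 1, 0, 1],
    A := [[1, -1], [3, -2]],
    f := [1, 1, 1], g := [-1, 1], u := [1], ks := [1],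
    P := [[[1, 1]], [[1, 2]]],
    Ps := [[[0, -1], []]],
    delta := 1,
    Qa := [[[-1]], [[-1]]],
    Qb := [[[-1]]] },
  { d := 6, a := 1, word := [1, 0],
    A := [[-1, 1], [-3, 2]],
    f := [1, -1, 1], g := [-1, -1, 0, 1, 1], u := [-1, 1], ks := [3, 2],
    P := [[[1, -1]], [[1, -2]]],
    Ps := [[[0, 1], []]],
    delta := 1,
    Qa := [[[-1]], [[-1]]],
    Qb := [[[-1]]] }]

theorem sylCoversG2 : covers [2, 6] sylG2 = true := by decide +kernel

theorem sylOKG2 : sylG2.all (fun c => c.ok chevG2 ([2, 6] : List ℕ).prod) = true := by decide +kernel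

end Cfsg.Agent.ChevLang
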