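import Cfsg.Agent.EqLemmas
import Cfsg.Agent.Lib.ChevLang.Cert
import Cfsg.Agent.Lib.ChevBN.RootTables
import Cfsg.Agent.Lib.Chev.All

/-!
# The certificate of the cyclic twisted torus of type E6
-/

set_option autoImplicit false
set_option maxRecDepth 100000
set_option synthInstance.maxSize 4000

namespace Cfsg.Agent.ChevLang

open Cfsg.Lie

/-- The certificate for `E6`. -/
def certE6 : Cert where
  word := [5, 2, 4, 1, 0, 3]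
  A := [[-1, 0, 1, 0, 0, 0], [0, 0, 1, -1, 1, 0], [-1, 1, 1, -1, 1, 0], [0, 1, 1, -1, 1, 0], [0, 1, 1, -1, 0, 1], [0, 1, 1, -1, 0, 0]]
  N := [1, 1, 0, -1, 0, 1, 1]
  P := [[-1, -1, -1, -1, -1], [-1, -2, -2, -1], [-1, -2, -3, -2, 0, 1], [-1, -3, -4, -3, -1], [-1, -3, -3, -1], [-1, -2, -1]]
  Ps := [-1, -2, 0, 1, 0, 1]
  ph := [[1, 0, -1, 0, 0, 1], [2, 0, 0, -1, 1, 1], [0, 1], [-1, -1, 0, 0, 0, -1], [0, 1, 0, 0, -1, 1], [-1, -1, 1, 1, 0, -2]]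
  Y := [[[0, 1, 0, 1], [2, 0, 1, 1], [], [-1, -1, 0, -1], [0, 1, -1, 1], [-1, -1, 0, -2]], [[1, 1, 1], [1, 2, 1], [], [-1, -1, -1], [0, 0, 1], [-1, -2, -2]], [[1, 2, 1, 1, -1], [2, 1, 3, 0, -1], [-1], [-1, -1, -1, -1, 1], [0, 0, 0, 2, -1], [-1, -2, -3, -2, 2]], [[1, 2, 2, 1], [2, 3, 3, 1], [], [-2, -2, -2, -1], [0, 0, 1, 1], [-1, -3, -4, -2]], [[1, 2, 1], [2, 3, 1], [], [-1, -2, -1], [-1, 1, 1], [-1, -4, -2]], [[1, 1], [2, 1], [], [-1, -1], [0, 1], [-2, -2]]]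
  u := [1, 1, 1, 1, 1, 1]
  L := 6
  E := [
    [1, 2, 2, 1, 0, 0],
    [0, 1, 2, 2, 1, 0],
    [1, 2, 2, 0, -1, -1],
    [1, 1, 1, 1, 0, -1],
    [0, 0, 2, 2, 0, -1],
    [1, 2, 1, 0, 1, 1],
    [1, 1, 0, 1, 2, 1],
    [0, 0, 1, 2, 2, 1],
    [2, 2, 0, -1, 0, 0],
    [1, 1, 1, 0, 0, 0],
    [1, 0, 0, 1, 1, 0],
    [1, 1, 0, 0, 1, 0],
    [0, 0, 1, 1, 1, 0],
    [0, -1, 0, 2, 2, 0],
    [1, 0, 0, 0, 0, -1],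
    [1, 0, -1, 0, 2, 1],
    [0, 2, 2, 0, -1, 0],
    [0, 1, 1, 1, 0, 0],
    [-1, 0, 2, 2, 0, 0],
    [1, 2, 1, -1, -2, -1],
    [0, 1, 2, 0, -2, -1],
    [0, 0, 1, 1, -1, -1],
    [1, 2, 0, -1, 0, 1],
    [0, 1, 1, 0, 0, 1],
    [0, 0, 0, 1, 1, 1],
    [1, 1, 0, -1, -1, 0],
    [0, 1, 1, 0, -1, -1],
    [-1, 0, 2, 1, -1, -1],
    [-1, -1, 1, 2, 0, -1],
    [0, 0, 1, 0, -2, -2],
    [0, 1, 0, 0, 1, 1],
    [-1, 0, 1, 1, 1, 1],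
    [-1, -1, 0, 2, 2, 1],
    [1, 2, 0, -2, -1, 0],
    [0, 1, 1, -1, -1, 0],
    [1, 1, -1, -1, 0, 0],
    [-1, -1, 1, 1, 0, 0],
    [0, -1, -1, 1, 1, 0],
    [-1, -2, 0, 2, 1, 0],
    [1, 1, 0, -2, -2, -1],
    [1, 0, -1, -1, -1, -1],
    [0, -1, 0, 0, -1, -1],
    [0, 0, -1, 0, 2, 2],
    [1, 1, -1, -2, 0, 1],
    [1, 0, -2, -1, 1, 1],
    [0, -1, -1, 0, 1, 1],
    [-1, -1, 0, 1, 1, 0],
    [0, 0, 0, -1, -1, -1],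
    [0, -1, -1, 0, 0, -1],
    [-1, -2, 0, 1, 0, -1],
    [0, 0, -1, -1, 1, 1],
    [0, -1, -2, 0, 2, 1],
    [-1, -2, -1, 1, 2, 1],
    [1, 0, -2, -2, 0, 0],
    [0, -1, -1, -1, 0, 0],
    [0, -2, -2, 0, 1, 0],
    [-1, 0, 1, 0, -2, -1],
    [-1, 0, 0, 0, 0, 1],
    [0, 1, 0, -2, -2, 0],
    [0, 0, -1, -1, -1, 0],
    [-1, -1, 0, 0, -1, 0],
    [-1, 0, 0, -1, -1, 0],
    [-1, -1, -1, 0, 0, 0],
    [-2, -2, 0, 1, 0, 0],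
    [0, 0, -1, -2, -2, -1],
    [-1, -1, 0, -1, -2, -1],
    [-1, -2, -1, 0, -1, -1],
    [0, 0, -2, -2, 0, 1],
    [-1, -1, -1, -1, 0, 1],
    [-1, -2, -2, 0, 1, 1],
    [0, -1, -2, -2, -1, 0],
    [-1, -2, -2, -1, 0, 0]]
  V := [21, 42, 56, 74, 83, 57, 75, 84, 89, 7, 25, 19, 28, 46, 60, 61, 87, 14, 23, 28, 37, 55, 29, 38, 56, 70, 49, 58, 76, 90, 50, 59, 77, 64, 73, 82, 9, 18, 27, 14, 32, 41, 1, 15, 33, 42, 21, 35, 53, 62, 36, 54, 63, 68, 77, 4, 30, 31, 45, 63, 72, 66, 84, 2, 7, 16, 34, 8, 17, 35, 49, 70]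
  CO := [
    [-3, -6, -6, -9, -6, -3],
    [-3, -3, -6, -9, -6, -3],
    [-3, -3, -6, -6, -6, -3],
    [-3, -3, -6, -6, -3, -3],
    [-3, -3, -6, -6, -3, 0],
    [-3, -3, -3, -6, -6, -3],
    [-3, -3, -3, -6, -3, -3],
    [-3, -3, -3, -6, -3, 0],
    [-3, -3, -3, -3, -3, -3],
    [-3, -3, -3, -3, -3, 0],
    [-3, -3, -3, -3, 0, 0],
    [-3, 0, -3, -3, -3, -3],
    [-3, 0, -3, -3, -3, 0],
    [-3, 0, -3, -3, 0, 0],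
    [-3, 0, -3, 0, 0, 0],
    [-3, 0, 0, 0, 0, 0],
    [0, -3, -3, -6, -6, -3],
    [0, -3, -3, -6, -3, -3],
    [0, -3, -3, -6, -3, 0],
    [0, -3, -3, -3, -3, -3],
    [0, -3, -3, -3, -3, 0],
    [0, -3, -3, -3, 0, 0],
    [0, -3, 0, -3, -3, -3],
    [0, -3, 0, -3, -3, 0],
    [0, -3, 0, -3, 0, 0],
    [0, -3, 0, 0, 0, 0],
    [0, 0, -3, -3, -3, -3],
    [0, 0, -3, -3, -3, 0],
    [0, 0, -3, -3, 0, 0],
    [0, 0, -3, 0, 0, 0],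
    [0, 0, 0, -3, -3, -3],
    [0, 0, 0, -3, -3, 0],
    [0, 0, 0, -3, 0, 0],
    [0, 0, 0, 0, -3, -3],
    [0, 0, 0, 0, -3, 0],
    [0, 0, 0, 0, 0, -3],
    [0, 0, 0, 0, 0, 3],
    [0, 0, 0, 0, 3, 0],
    [0, 0, 0, 0, 3, 3],
    [0, 0, 0, 3, 0, 0],
    [0, 0, 0, 3, 3, 0],
    [0, 0, 0, 3, 3, 3],
    [0, 0, 3, 0, 0, 0],
    [0, 0, 3, 3, 0, 0],
    [0, 0, 3, 3, 3, 0],
    [0, 0, 3, 3, 3, 3],
    [0, 3, 0, 0, 0, 0],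
    [0, 3, 0, 3, 0, 0],
    [0, 3, 0, 3, 3, 0],
    [0, 3, 0, 3, 3, 3],
    [0, 3, 3, 3, 0, 0],
    [0, 3, 3, 3, 3, 0],
    [0, 3, 3, 3, 3, 3],
    [0, 3, 3, 6, 3, 0],
    [0, 3, 3, 6, 3, 3],
    [0, 3, 3, 6, 6, 3],
    [3, 0, 0, 0, 0, 0],
    [3, 0, 3, 0, 0, 0],
    [3, 0, 3, 3, 0, 0],
    [3, 0, 3, 3, 3, 0],
    [3, 0, 3, 3, 3, 3],
    [3, 3, 3, 3, 0, 0],
    [3, 3, 3, 3, 3, 0],
    [3, 3, 3, 3, 3, 3],
    [3, 3, 3, 6, 3, 0],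
    [3, 3, 3, 6, 3, 3],
    [3, 3, 3, 6, 6, 3],
    [3, 3, 6, 6, 3, 0],
    [3, 3, 6, 6, 3, 3],
    [3, 3, 6, 6, 6, 3],
    [3, 3, 6, 9, 6, 3],
    [3, 6, 6, 9, 6, 3]]

theorem certOKE6 : CertOK certE6 chevE6 ChevBN.adjE6 3 where
  word := by decide +kernel
  bp := by decide +kernel
  psp := by decide +kernel
  split := by decide +kernel
  php := by decide +kernel
  tableE := by decide +kernel
  lenE := by decide +kernel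
  boundE := by decide +kernel
  nzE := by decide +kernel
  distE := by decide +kernel
  small := by decide +kernel
  res2 := by decide +kernel
  nz2 := by decide +kernel
  tableCO := by decide +kernel
  rigid := by decide +kernel
  N0 := by decide +kernel
  prime := Or.inr (show Nat.Prime 3 by norm_num)
  dvdE := by decide +kernel
  dvdN := by decide +kernel
  cop := by decide +kernel

end Cfsg.Agent.ChevLang
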