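import Cfsg.Agent.EqLemmas
import Cfsg.Agent.Lib.ChevLang.Cert
import Cfsg.Agent.Lib.ChevBN.RootTables
import Cfsg.Agent.Lib.Chev.All

/-!
# The certificate of the cyclic twisted torus of type E7
-/

set_option autoImplicit false
set_option maxRecDepth 100000
set_option synthInstance.maxSize 4000

namespace Cfsg.Agent.ChevLang

open Cfsg.Lie

/-- The certificate for `E7`. -/
def certE7 : Cert where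
  word := [4, 2, 6, 3, 2, 0, 5, 4, 3, 5, 1]
  A := [[-1, 0, 1, 0, 0, 0, 0], [0, -1, 0, 1, 0, 0, 0], [-1, -1, 1, 1, 0, -1, 1], [-1, -2, 1, 1, 1, -1, 1], [-1, -2, 1, 1, 0, 0, 1], [0, -1, 1, 0, 0, 0, 1], [0, -1, 1, 0, 0, 0, 0]]
  N := [1, 0, -1, 1, 1, -1, 0, 1]
  P := [[-1, -1, 1, 0, -1, 1, 1], [-1, -1, 1, 0, -1, 1, 2], [-2, -1, 2, 0, -1, 2, 2], [-2, -1, 2, 0, -1, 3, 3], [-1, -1, 1, 0, 0, 2, 2], [-1, -1, 0, 0, 0, 1, 1], [0, -1, 0, 1, 0, 0, 1]]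
  Ps := [1, 0, -1, 0, 1, -1, 0]
  ph := [[-1, 1, 0, -2, 1, 0, -1], [0, 0, 0, 0, -1], [1, 0, 0, 0, 0, 1], [0, 0, 0, 1, 0, -1, 1], [-1, 0, 1, -1, 0, 1, -1], [1, -1, -1, 1, 0, -1], [0, 1, -1, 0, 1]]
  Y := [[[-2, 1, 1, -1, 1, 1], [0, 0, 1, 1], [1, 0, 0, -1, -1], [0, 0, -1, 1, 0, -1], [-1, -1, 1, -1, 0, 1], [1, 0, -1, 1, 1], [0, 1, -1, -1]], [[-1, 0, 2, -1, 1, 2], [-1, 1, 1, 2], [1, 1, -1, -1, -2], [0, -1, 0, 0, 1, -2], [-1, -1, 0, 0, -1, 2], [1, 0, -1, 1, 2], [0, 1, -1, -2]], [[-2, 2, 2, -1, 2, 2], [0, 1, 2, 2], [1, 0, -1, -2, -2], [0, -1, -1, 1, 0, -2], [-2, -1, 1, -1, 0, 2], [2, 0, -1, 2, 2], [0, 1, -2, -2]], [[-2, 2, 3, -1, 3, 3], [0, 2, 3, 3], [2, 0, -2, -3, -3], [-1, -1, -1, 1, 0, -3], [-2, -2, 1, -1, 0, 3], [2, 0, -1, 3, 3], [0, 1, -3, -3]], [[-1, 1, 2, 0, 2, 2], [0,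 2, 2, 2], [1, 0, -2, -2, -2], [0, -1, 0, 0, 0, -2], [-2, -1, 0, 0, 0, 2], [1, 0, 0, 2, 2], [0, 0, -2, -2]], [[-1, 0, 1, 0, 1, 1], [0, 1, 1, 1], [1, 0, -1, -1, -1], [0, 0, 0, 0, 0, -1], [-1, -1, 0, 0, 0, 1], [0, 0, 0, 1, 1], [0, 0, -1, -1]], [[0, -1, 2, 0, 0, 1], [0, 1, 0, 1], [0, 0, -1, 0, -1], [0, 0, 0, -1, 1, -1], [0, -1, 0, 1, -1, 1], [0, 1, 0, 0, 1], [-1, 0, 0, -1]]]
  u := [1, 1, 2, 2, 1, 1, 0]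
  L := 7
  E := [
    [1, 1, -1, 0, 1, -1, -1],
    [1, 0, -1, 0, 0, -1, -1],
    [0, 0, 0, 0, 0, -1, -1],
    [0, 1, 0, 0, 0, 0, -1],
    [1, 1, 0, 0, 1, 0, -1],
    [0, 1, -1, -1, 1, 0, -2],
    [1, 0, -1, 1, 1, -1, -1],
    [0, 0, 0, 0, -1, -1, 0],
    [1, 0, 0, 0, 0, -1, 0],
    [0, 0, -1, -1, 0, -1, -1],
    [1, -1, -1, 1, 0, -2, 0],
    [1, 1, 0, 0, 0, 0, 0],
    [0, 1, -1, -1, 0, 0, -1],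
    [1, 0, -1, 1, 0, -1, 0],
    [1, 1, -1, -1, 1, 0, -1],
    [2, 0, -1, 1, 1, -1, 0],
    [1, 0, -2, 0, 1, -1, -1],
    [0, 1, 1, 0, 0, 0, 0],
    [-1, 1, 0, -1, 0, 0, -1],
    [0, 0, 0, 1, 0, -1, 0],
    [0, 1, 0, -1, 1, 0, -1],
    [1, 0, 0, 1, 1, -1, 0],
    [0, 0, -1, 0, 1, -1, -1],
    [0, 2, 0, -1, 1, 1, -1],
    [1, 1, 0, 1, 1, 0, 0],
    [0, 1, -1, 0, 1, 0, -1],
    [1, 1, -1, 0, 2, 0, -1],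
    [0, 1, 0, -1, 0, 0, 0],
    [1, 0, 0, 1, 0, -1, 1],
    [0, 0, -1, 0, 0, -1, 0],
    [1, 0, -1, 0, 1, -1, 0],
    [1, 1, -1, 0, 1, 0, 0],
    [0, 1, 0, 0, 1, 0, 0],
    [0, 0, 1, 0, -1, 0, 0],
    [-1, 0, 0, -1, -1, 0, -1],
    [0, -1, 0, 1, -1, -1, 0],
    [0, 0, 0, -1, 0, 0, -1],
    [1, -1, 0, 1, 0, -1, 0],
    [0, -1, -1, 0, 0, -1, -1],
    [0, 1, 0, -1, 0, 1, -1],
    [1, 0, 0, 1, 0, 0, 0],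
    [0, 0, -1, 0, 0, 0, -1],
    [1, 0, -1, 0, 1, 0, -1],
    [-1, 1, 1, -1, 0, 1, -1],
    [0, 0, 1, 1, 0, 0, 0],
    [-1, 0, 0, 0, 0, 0, -1],
    [0, 0, 0, 0, 1, 0, -1],
    [0, 1, 0, 0, 1, 1, -1],
    [0, 0, 0, -1, -1, 0, 0],
    [1, -1, 0, 1, -1, -1, 1],
    [0, -1, -1, 0, -1, -1, 0],
    [1, -1, -1, 0, 0, -1, 0],
    [1, 0, -1, 0, 0, 0, 0],
    [-1, 0, 1, -1, -1, 0, 0],
    [0, -1, 1, 1, -1, -1, 1],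
    [-1, -1, 0, 0, -1, -1, 0],
    [0, -1, 0, 0, 0, -1, 0],
    [-1, 1, 1, -1, -1, 1, 0],
    [0, 0, 1, 1, -1, 0, 1],
    [-1, 0, 0, 0, -1, 0, 0],
    [0, 1, 1, -1, 0, 1, 0],
    [1, 0, 1, 1, 0, 0, 1],
    [-1, 1, 0, -2, 0, 1, -1],
    [1, -1, 0, 2, 0, -1, 1],
    [-1, 0, -1, -1, 0, 0, -1],
    [0, -1, -1, 1, 0, -1, 0],
    [1, 0, 0, 0, 1, 0, 0],
    [0, 0, -1, -1, 1, 0, -1],
    [1, -1, -1, 1, 1, -1, 0],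
    [0, 1, 0, 0, 0, 1, 0],
    [1, 1, 0, 0, 1, 1, 0],
    [0, 1, -1, -1, 1, 1, -1],
    [1, 0, -1, 1, 1, 0, 0],
    [-1, 0, 1, 0, 0, 0, 0],
    [-1, 1, 1, 0, 0, 1, 0],
    [0, 1, 1, 0, 1, 1, 0],
    [-1, 1, 0, -1, 1, 1, -1],
    [0, 0, 0, 1, 1, 0, 0],
    [0, -1, 0, 0, -1, -1, 1],
    [0, 0, 0, 0, -1, 0, 1],
    [1, 0, 0, 0, 0, 0, 1],
    [0, 0, -1, -1, 0, 0, 0],
    [1, -1, -1, 1, 0, -1, 1],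
    [-1, 0, 1, 0, -1, 0, 1],
    [0, 0, 1, 0, 0, 0, 1],
    [-1, 0, 0, -1, 0, 0, 0],
    [0, -1, 0, 1, 0, -1, 1],
    [0, 1, 1, 0, 0, 1, 1],
    [-1, 1, 0, -1, 0, 1, 0],
    [0, 0, 0, 1, 0, 0, 1],
    [0, 1, 0, -1, 1, 1, 0],
    [1, 0, 0, 1, 1, 0, 1],
    [0, 0, -1, 0, 1, 0, 0],
    [0, -1, 0, 0, -1, 0, 0],
    [-1, -1, 1, 0, -1, 0, 0],
    [-1, 0, 1, 0, -1, 1, 0],
    [0, 0, 1, 0, 0, 1, 0],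
    [-1, 0, 0, -1, 0, 1, -1],
    [0, -1, 0, 1, 0, 0, 0],
    [-1, -1, 1, 0, -2, 0, 1],
    [0, -1, 1, 0, -1, 0, 1],
    [-1, -1, 0, -1, -1, 0, 0],
    [0, -2, 0, 1, -1, -1, 1],
    [0, 0, 1, 0, -1, 1, 1],
    [-1, 0, 0, -1, -1, 1, 0],
    [0, -1, 0, 1, -1, 0, 1],
    [0, 0, 0, -1, 0, 1, 0],
    [1, -1, 0, 1, 0, 0, 1],
    [0, -1, -1, 0, 0, 0, 0],
    [-1, 0, 2, 0, -1, 1, 1],
    [-2, 0, 1, -1, -1, 1, 0],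
    [-1, -1, 1, 1, -1, 0, 1],
    [-1, 0, 1, -1, 0, 1, 0],
    [0, -1, 1, 1, 0, 0, 1],
    [-1, -1, 0, 0, 0, 0, 0],
    [-1, 1, 1, -1, 0, 2, 0],
    [0, 0, 1, 1, 0, 1, 1],
    [-1, 0, 0, 0, 0, 1, 0],
    [0, 0, 0, 0, 1, 1, 0],
    [-1, 0, 1, -1, -1, 1, 1],
    [0, -1, 1, 1, -1, 0, 2],
    [-1, -1, 0, 0, -1, 0, 1],
    [0, -1, 0, 0, 0, 0, 1],
    [0, 0, 0, 0, 0, 1, 1],
    [-1, 0, 1, 0, 0, 1, 1],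
    [-1, -1, 1, 0, -1, 1, 1]]
  V := [36, 18, 21, 55, 72, 112, 42, 69, 86, 9, 56, 3, 43, 90, 60, 107, 30, 6, 46, 93, 63, 110, 33, 97, 27, 67, 84, 111, 41, 81, 98, 15, 18, 105, 28, 75, 45, 92, 15, 79, 9, 49, 66, 82, 12, 52, 69, 103, 93, 23, 63, 80, 114, 96, 26, 66, 83, 13, 60, 100, 30, 77, 70, 47, 40, 87, 17, 57, 104, 34, 51, 91, 21, 3, 37, 54, 94, 24, 14, 48, 65, 105, 35, 51, 68, 108, 38, 102, 25, 72, 42, 89, 12, 99, 102, 19, 36, 76, 6, 33, 50, 90, 20, 84, 7, 54, 24, 71, 111, 87, 10, 57, 27, 74, 114, 61, 108, 31, 48, 75, 5, 45, 62, 96, 99, 81]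
  CO := [
    [-4, -4, -6, -8, -6, -4, -2],
    [-2, -4, -6, -8, -6, -4, -2],
    [-2, -4, -4, -8, -6, -4, -2],
    [-2, -4, -4, -6, -6, -4, -2],
    [-2, -4, -4, -6, -4, -4, -2],
    [-2, -4, -4, -6, -4, -2, -2],
    [-2, -4, -4, -6, -4, -2, 0],
    [-2, -2, -4, -6, -6, -4, -2],
    [-2, -2, -4, -6, -4, -4, -2],
    [-2, -2, -4, -6, -4, -2, -2],
    [-2, -2, -4, -6, -4, -2, 0],
    [-2, -2, -4, -4, -4, -4, -2],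
    [-2, -2, -4, -4, -4, -2, -2],
    [-2, -2, -4, -4, -4, -2, 0],
    [-2, -2, -4, -4, -2, -2, -2],
    [-2, -2, -4, -4, -2, -2, 0],
    [-2, -2, -4, -4, -2, 0, 0],
    [-2, -2, -2, -4, -4, -4, -2],
    [-2, -2, -2, -4, -4, -2, -2],
    [-2, -2, -2, -4, -4, -2, 0],
    [-2, -2, -2, -4, -2, -2, -2],
    [-2, -2, -2, -4, -2, -2, 0],
    [-2, -2, -2, -4, -2, 0, 0],
    [-2, -2, -2, -2, -2, -2, -2],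
    [-2, -2, -2, -2, -2, -2, 0],
    [-2, -2, -2, -2, -2, 0, 0],
    [-2, -2, -2, -2, 0, 0, 0],
    [-2, 0, -2, -2, -2, -2, -2],
    [-2, 0, -2, -2, -2, -2, 0],
    [-2, 0, -2, -2, -2, 0, 0],
    [-2, 0, -2, -2, 0, 0, 0],
    [-2, 0, -2, 0, 0, 0, 0],
    [-2, 0, 0, 0, 0, 0, 0],
    [0, -2, -2, -4, -4, -4, -2],
    [0, -2, -2, -4, -4, -2, -2],
    [0, -2, -2, -4, -4, -2, 0],
    [0, -2, -2, -4, -2, -2, -2],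
    [0, -2, -2, -4, -2, -2, 0],
    [0, -2, -2, -4, -2, 0, 0],
    [0, -2, -2, -2, -2, -2, -2],
    [0, -2, -2, -2, -2, -2, 0],
    [0, -2, -2, -2, -2, 0, 0],
    [0, -2, -2, -2, 0, 0, 0],
    [0, -2, 0, -2, -2, -2, -2],
    [0, -2, 0, -2, -2, -2, 0],
    [0, -2, 0, -2, -2, 0, 0],
    [0, -2, 0, -2, 0, 0, 0],
    [0, -2, 0, 0, 0, 0, 0],
    [0, 0, -2, -2, -2, -2, -2],
    [0, 0, -2, -2, -2, -2, 0],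
    [0, 0, -2, -2, -2, 0, 0],
    [0, 0, -2, -2, 0, 0, 0],
    [0, 0, -2, 0, 0, 0, 0],
    [0, 0, 0, -2, -2, -2, -2],
    [0, 0, 0, -2, -2, -2, 0],
    [0, 0, 0, -2, -2, 0, 0],
    [0, 0, 0, -2, 0, 0, 0],
    [0, 0, 0, 0, -2, -2, -2],
    [0, 0, 0, 0, -2, -2, 0],
    [0, 0, 0, 0, -2, 0, 0],
    [0, 0, 0, 0, 0, -2, -2],
    [0, 0, 0, 0, 0, -2, 0],
    [0, 0, 0, 0, 0, 0, -2],
    [0, 0, 0, 0, 0, 0, 2],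
    [0, 0, 0, 0, 0, 2, 0],
    [0, 0, 0, 0, 0, 2, 2],
    [0, 0, 0, 0, 2, 0, 0],
    [0, 0, 0, 0, 2, 2, 0],
    [0, 0, 0, 0, 2, 2, 2],
    [0, 0, 0, 2, 0, 0, 0],
    [0, 0, 0, 2, 2, 0, 0],
    [0, 0, 0, 2, 2, 2, 0],
    [0, 0, 0, 2, 2, 2, 2],
    [0, 0, 2, 0, 0, 0, 0],
    [0, 0, 2, 2, 0, 0, 0],
    [0, 0, 2, 2, 2, 0, 0],
    [0, 0, 2, 2, 2, 2, 0],
    [0, 0, 2, 2, 2, 2, 2],
    [0, 2, 0, 0, 0, 0, 0],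
    [0, 2, 0, 2, 0, 0, 0],
    [0, 2, 0, 2, 2, 0, 0],
    [0, 2, 0, 2, 2, 2, 0],
    [0, 2, 0, 2, 2, 2, 2],
    [0, 2, 2, 2, 0, 0, 0],
    [0, 2, 2, 2, 2, 0, 0],
    [0, 2, 2, 2, 2, 2, 0],
    [0, 2, 2, 2, 2, 2, 2],
    [0, 2, 2, 4, 2, 0, 0],
    [0, 2, 2, 4, 2, 2, 0],
    [0, 2, 2, 4, 2, 2, 2],
    [0, 2, 2, 4, 4, 2, 0],
    [0, 2, 2, 4, 4, 2, 2],
    [0, 2, 2, 4, 4, 4, 2],
    [2, 0, 0, 0, 0, 0, 0],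
    [2, 0, 2, 0, 0, 0, 0],
    [2, 0, 2, 2, 0, 0, 0],
    [2, 0, 2, 2, 2, 0, 0],
    [2, 0, 2, 2, 2, 2, 0],
    [2, 0, 2, 2, 2, 2, 2],
    [2, 2, 2, 2, 0, 0, 0],
    [2, 2, 2, 2, 2, 0, 0],
    [2, 2, 2, 2, 2, 2, 0],
    [2, 2, 2, 2, 2, 2, 2],
    [2, 2, 2, 4, 2, 0, 0],
    [2, 2, 2, 4, 2, 2, 0],
    [2, 2, 2, 4, 2, 2, 2],
    [2, 2, 2, 4, 4, 2, 0],
    [2, 2, 2, 4, 4, 2, 2],
    [2, 2, 2, 4, 4, 4, 2],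
    [2, 2, 4, 4, 2, 0, 0],
    [2, 2, 4, 4, 2, 2, 0],
    [2, 2, 4, 4, 2, 2, 2],
    [2, 2, 4, 4, 4, 2, 0],
    [2, 2, 4, 4, 4, 2, 2],
    [2, 2, 4, 4, 4, 4, 2],
    [2, 2, 4, 6, 4, 2, 0],
    [2, 2, 4, 6, 4, 2, 2],
    [2, 2, 4, 6, 4, 4, 2],
    [2, 2, 4, 6, 6, 4, 2],
    [2, 4, 4, 6, 4, 2, 0],
    [2, 4, 4, 6, 4, 2, 2],
    [2, 4, 4, 6, 4, 4, 2],
    [2, 4, 4, 6, 6, 4, 2],
    [2, 4, 4, 8, 6, 4, 2],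
    [2, 4, 6, 8, 6, 4, 2],
    [4, 4, 6, 8, 6, 4, 2]]

theorem certOKE7 : CertOK certE7 chevE7 ChevBN.adjE7 2 where
  word := by decide +kernel
  bp := by decide +kernel
  psp := by decide +kernel
  split := by decide +kernel
  php := by decide +kernel
  tableE := by decide +kernel
  lenE := by decide +kernel
  boundE := by decide +kernel
  nzE := by decide +kernel
  distE := by decide +kernel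
  small := by decide +kernel
  res2 := by decide +kernel
  nz2 := by decide +kernel
  tableCO := by decide +kernel
  rigid := by decide +kernel
  N0 := by decide +kernel
  prime := Or.inr (show Nat.Prime 2 by norm_num)
  dvdE := by decide +kernel
  dvdN := by decide +kernel
  cop := by decide +kernel

end Cfsg.Agent.ChevLang
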