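import Cfsg.Agent.EqLemmas
import Cfsg.Agent.Lib.ChevLang.Cert
import Cfsg.Agent.Lib.ChevBN.RootTables
import Cfsg.Agent.Lib.Chev.All

/-!
# The certificate of the cyclic twisted torus of type E8
-/

set_option autoImplicit false
set_option maxRecDepth 100000
set_option synthInstance.maxSize 4000

namespace Cfsg.Agent.ChevLang

open Cfsg.Lie

/-- The certificate for `E8`. -/
def certE8 : Cert where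
  word := [3, 6, 0, 2, 5, 1, 4, 7]
  A := [[0, 0, -1, 1, 0, 0, 0, 0], [0, -1, 0, 1, 0, 0, 0, 0], [1, 0, -1, 1, 0, 0, 0, 0], [1, -1, -1, 2, -1, 1, 0, 0], [0, 0, 0, 1, -1, 1, 0, 0], [0, 0, 0, 1, -1, 0, 1, 0], [0, 0, 0, 1, -1, 0, 1, -1], [0, 0, 0, 0, 0, 0, 1, -1]]
  N := [1, 1, 0, -1, -1, -1, 0, 1, 1]
  P := [[0, 0, 0, -1, -2, -2, -2, -1], [1, 1, 0, -2, -3, -4, -3, -1], [1, 1, 0, -2, -4, -5, -4, -2], [1, 1, -1, -4, -6, -7, -5, -2], [1, 2, 0, -3, -5, -6, -5, -2], [1, 1, -1, -3, -4, -4, -3, -1], [0, 0, -1, -2, -2, -2, -2, -1], [0, 0, 0, -1, -1, -1, -1, -1]]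
  Ps := [0, 1, 1, -1, -1, 1, 0, 0]
  ph := [[0, 0, 0, 0, 0, 1, 0, -1], [-1, -1, 0, 1, 1, 0, 0, -1], [-1, -1, 0, 1, 1, 0, -1], [1, 1, 0, -1], [1, 0, -1, -1, -1, 0, 1, 1], [-1, 1, 1, 0, -1], [0, -1, 0, 2, 1, -1, -1], [0, 0, 1, -1, -1, 0, 1]]
  Y := [[[-1, 0, 0, -1, 0, -1, -1], [0, 0, 1, -1, -1, -1, -1], [0, 1, 0, 0, -1, -1], [0, -1, -1], [0, 0, 1, 2, 2, 2, 1], [0, 0, -1, -1], [0, 0, 0, -1, -2, -1], [0, 0, 0, 0, 1, 1]], [[0, 0, -1, 0, -1, -2, -1], [0, 2, 0, -1, -2, -2, -1], [1, 1, 1, -1, -2, -1], [-1, -2, -1], [-1, 0, 2, 3, 4, 3, 1], [1, -1, -2, -1], [0, 1, 0, -3, -3, -1], [0, 0, -1, 1, 2, 1]], [[0, -1, 0, -1, -1, -2, -2], [1, 1, 1, -1, -3, -2, -2], [0, 2, 1, -1, -2, -2], [-1, -2, -2], [-1, 0, 2, 4, 5, 4, 2], [1, -1, -2, -2], [0, 1, 0, -3, -4, -2], [0, 0, -1, 1,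 2, 2]], [[0, -1, -1, -1, -2, -3, -2], [1, 2, 0, -2, -4, -3, -2], [1, 2, 1, -2, -3, -2], [-2, -3, -2], [-1, 1, 4, 6, 7, 5, 2], [1, -2, -3, -2], [0, 1, -1, -5, -5, -2], [0, 0, -1, 2, 3, 2]], [[0, 0, -1, -1, -1, -3, -2], [1, 2, 1, -2, -3, -3, -2], [1, 2, 1, -1, -3, -2], [-1, -3, -2], [-2, 0, 3, 5, 6, 5, 2], [1, -1, -3, -2], [0, 1, 0, -4, -5, -2], [0, 0, -1, 1, 3, 2]], [[0, 0, -1, -1, -1, -2, -1], [1, 1, 0, -2, -2, -2, -1], [1, 1, 0, -1, -2, -1], [-1, -2, -1], [-1, 1, 3, 4, 4, 3, 1], [0, -1, -2, -1], [0, 0, -1, -3, -3, -1], [0, 0, 0, 1, 2, 1]], [[0, 0, -1, -1, 0, -1, -1], [0, 0, 0, -1, -1, -1, -1], [0, 0, 0, 0, -1, -1], [0, -1, -1], [0, 1, 2, 2, 2, 2, 1], [0, 0, -1, -1], [-1, -1, 0, -1, -2, -1], [0, 1, 0, 0, 1, 1]], [[0, 0, 0, -1, 0, 0, -1], [0, 0, 0, 0, -1, 0, -1],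 [0, 0, 0, 0, 0, -1], [0, 0, -1], [0, 0, 1, 1, 1, 1, 1], [0, 0, 0, -1], [0, -1, 0, 0, -1, -1], [-1, 1, 0, 0, 0, 1]]]
  u := [0, -1, -1, -1, -1, -1, 0, 0]
  L := 8
  E := [
    [0, 0, 0, 1, 1, 1, 1, 1],
    [0, 0, 1, 1, 1, 1, 1, 0],
    [-1, -1, 0, 1, 2, 2, 1, 0],
    [0, -1, -1, 0, 1, 2, 2, 1],
    [0, 1, 1, 1, 1, 1, 0, 0],
    [-1, -1, -1, 0, 1, 2, 2, 1],
    [0, 0, 0, 1, 1, 1, 1, 0],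
    [0, 0, 0, 0, 1, 1, 1, 1],
    [1, 1, 1, 1, 1, 0, 0, 0],
    [0, -1, -1, 0, 1, 1, 2, 1],
    [0, 1, 1, 1, 1, 0, 0, 0],
    [1, 1, 0, 0, 0, 0, 1, 1],
    [0, 0, -1, 0, 1, 1, 1, 1],
    [0, 0, 0, 0, 1, 1, 1, 0],
    [-1, -1, 0, 1, 1, 2, 1, 0],
    [0, 0, 1, 1, 1, 1, 0, 0],
    [-1, -2, -1, 0, 1, 2, 2, 1],
    [-1, 0, 1, 1, 1, 1, 0, 0],
    [0, 0, 0, 0, 0, 1, 1, 1],
    [-1, -1, -1, 0, 1, 2, 1, 1],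
    [-1, -1, 0, 0, 1, 2, 1, 0],
    [0, -1, 0, 1, 1, 1, 1, 0],
    [0, 1, 2, 2, 1, 0, -1, -1],
    [1, 1, 1, 1, 0, 0, 0, 0],
    [0, 0, 0, 1, 1, 1, 0, 0],
    [0, 0, 1, 1, 1, 1, 0, -1],
    [-1, -1, 0, 1, 1, 1, 1, 0],
    [0, -1, -1, 0, 0, 1, 2, 1],
    [-1, -2, -2, 0, 1, 2, 2, 1],
    [-1, -2, -1, 0, 1, 2, 2, 0],
    [0, 1, 1, 1, 0, 0, 0, 0],
    [-1, 0, 0, 1, 1, 1, 0, 0],
    [-1, 0, 1, 1, 1, 1, 0, -1],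
    [0, 0, -1, 0, 0, 1, 1, 1],
    [0, 0, 0, 0, 0, 1, 1, 0],
    [-1, -1, -1, 0, 1, 2, 1, 0],
    [0, 0, 1, 1, 1, 0, 0, 0],
    [1, 0, 0, 0, 0, 0, 1, 1],
    [0, -1, -1, 0, 1, 1, 1, 1],
    [0, -1, 0, 0, 1, 1, 1, 0],
    [1, 2, 2, 1, 0, -1, -1, 0],
    [0, 1, 1, 1, 1, 0, -1, 0],
    [0, 1, 2, 1, 1, 0, -1, -1],
    [1, 1, 0, 0, 0, 0, 0, 1],
    [1, 1, 1, 0, 0, 0, 0, 0],
    [0, 0, 0, 0, 1, 1, 0, 0],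
    [0, 0, 0, 0, 0, 0, 1, 1],
    [-1, -1, -1, 0, 1, 1, 1, 1],
    [-1, -1, 0, 0, 1, 1, 1, 0],
    [0, -1, -2, -1, 0, 1, 2, 2],
    [0, -1, -1, -1, 0, 1, 2, 1],
    [-1, -2, -2, -1, 1, 2, 2, 1],
    [0, 1, 0, 0, 0, 0, 0, 1],
    [0, 1, 1, 0, 0, 0, 0, 0],
    [-1, 0, 0, 0, 1, 1, 0, 0],
    [0, 0, -1, -1, 0, 1, 1, 1],
    [1, 1, 1, 1, 0, -1, 0, 0],
    [0, 0, 0, 1, 1, 0, 0, 0],
    [0, 0, 1, 1, 1, 0, 0, -1],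
    [1, 0, -1, 0, 0, 0, 1, 1],
    [1, 0, 0, 0, 0, 0, 1, 0],
    [0, -1, -1, 0, 1, 1, 1, 0],
    [1, 2, 1, 1, 0, -1, -1, 0],
    [1, 2, 2, 1, 0, -1, -1, -1],
    [0, 1, 1, 1, 1, 0, -1, -1],
    [1, 1, 0, 0, 0, 0, 0, 0],
    [0, 0, -1, 0, 0, 0, 1, 1],
    [0, 0, 0, 0, 0, 0, 1, 0],
    [-1, -1, -1, 0, 1, 1, 1, 0],
    [0, -1, -2, -1, 0, 1, 2, 1],
    [0, 1, 0, 0, 0, 0, 0, 0],
    [1, 1, 0, 0, 0, -1, 0, 1],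
    [1, 1, 1, 0, 0, -1, 0, 0],
    [0, 0, 0, 0, 1, 0, 0, 0],
    [1, 0, -1, -1, 0, 0, 1, 1],
    [1, 2, 1, 0, 0, -1, -1, 0],
    [0, 0, -1, -1, 0, 0, 1, 1],
    [1, 1, 0, 0, 0, -1, 0, 0],
    [0, 0, 1, 1, 0, 0, 0, 0],
    [-1, -1, 0, 1, 1, 1, 0, 0],
    [-1, -1, 1, 1, 1, 1, 0, -1],
    [0, -1, -1, 0, 0, 1, 1, 1],
    [0, -1, 0, 0, 0, 1, 1, 0],
    [-1, -2, -1, 0, 1, 2, 1, 0],
    [0, 1, 1, 1, 0, 0, -1, 0],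
    [0, 1, 2, 1, 0, 0, -1, -1],
    [-1, 0, 1, 1, 1, 1, -1, -1],
    [0, 0, 0, 0, 0, 1, 0, 0],
    [-1, -1, -1, 0, 0, 1, 1, 1],
    [-1, -1, 0, 0, 0, 1, 1, 0],
    [-2, -2, -1, 0, 1, 2, 1, 0],
    [-1, -2, -2, -1, 0, 2, 2, 1],
    [-1, 0, 0, 0, 0, 1, 0, 0],
    [0, 0, 0, 1, 0, 0, 0, 0],
    [0, 0, 1, 1, 0, 0, 0, -1],
    [-1, -1, 0, 1, 1, 1, 0, -1],
    [0, -1, -1, 0, 0, 1, 1, 0],
    [0, 1, 1, 1, 0, 0, -1, -1],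
    [-1, -1, -1, 0, 0, 1, 1, 0],
    [0, 0, 0, 0, 0, 0, 0, 1],
    [0, 0, 1, 0, 0, 0, 0, 0],
    [-1, -1, 0, 0, 1, 1, 0, 0],
    [0, -1, -1, -1, 0, 1, 1, 1],
    [0, 1, 1, 0, 0, 0, -1, 0],
    [-1, -1, -1, -1, 0, 1, 1, 1],
    [1, 1, 1, 1, 0, -1, -1, 0],
    [1, 1, 2, 1, 0, -1, -1, -1],
    [0, 0, 1, 1, 1, 0, -1, -1],
    [1, 0, 0, 0, 0, 0, 0, 0],
    [1, 2, 2, 1, 0, -1, -2, -1],
    [0, -1, -1, 0, 0, 0, 1, 1],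
    [0, -1, 0, 0, 0, 0, 1, 0],
    [-1, -2, -1, 0, 1, 1, 1, 0],
    [0, -2, -2, -1, 0, 1, 2, 1],
    [0, 1, 1, 1, 0, -1, -1, 0],
    [0, 1, 2, 1, 0, -1, -1, -1],
    [-1, 0, 1, 1, 1, 0, -1, -1],
    [1, 1, 0, 0, -1, -1, 0, 1],
    [1, 1, 1, 0, -1, -1, 0, 0],
    [0, 0, -1, 0, 0, 0, 0, 1],
    [0, 0, 1, 0, 0, 0, 0, -1],
    [-1, -1, -1, 0, 1, 1, 0, 0],
    [-1, -1, 0, 0, 1, 1, 0, -1],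
    [1, 0, -1, -1, -1, 0, 1, 1],
    [0, -1, -2, -1, 0, 1, 1, 1],
    [0, -1, -1, -1, 0, 1, 1, 0],
    [0, 2, 2, 1, 0, -1, -2, -1],
    [1, 2, 1, 0, -1, -1, -1, 0],
    [0, 1, 0, 0, 0, 0, -1, 0],
    [0, 1, 1, 0, 0, 0, -1, -1],
    [-1, -2, -2, -1, 0, 1, 2, 1],
    [-1, 0, 0, 0, 0, 0, 0, 0],
    [0, 0, -1, -1, -1, 0, 1, 1],
    [-1, -1, -2, -1, 0, 1, 1, 1],
    [-1, -1, -1, -1, 0, 1, 1, 0],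
    [1, 1, 1, 1, 0, -1, -1, -1],
    [0, -1, -1, 0, 0, 0, 1, 0],
    [0, 1, 1, 1, 0, -1, -1, -1],
    [1, 1, 0, 0, -1, -1, 0, 0],
    [0, 0, -1, 0, 0, 0, 0, 0],
    [0, 0, 0, 0, 0, 0, 0, -1],
    [1, 1, 1, 0, 0, -1, -1, 0],
    [0, -1, -1, -1, 0, 0, 1, 1],
    [0, 1, 1, 0, 0, -1, -1, 0],
    [1, 1, 0, -1, -1, -1, 0, 1],
    [0, 0, -1, -1, 0, 0, 0, 1],
    [0, 0, 0, -1, 0, 0, 0, 0],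
    [1, 0, 0, 0, 0, -1, 0, 0],
    [1, 2, 2, 1, 0, -2, -2, -1],
    [2, 2, 1, 0, -1, -2, -1, 0],
    [1, 1, 0, 0, 0, -1, -1, 0],
    [1, 1, 1, 0, 0, -1, -1, -1],
    [0, 0, 0, 0, 0, -1, 0, 0],
    [1, 0, -1, -1, -1, -1, 1, 1],
    [0, -1, -2, -1, 0, 0, 1, 1],
    [0, -1, -1, -1, 0, 0, 1, 0],
    [1, 2, 1, 0, -1, -2, -1, 0],
    [0, 1, 0, 0, 0, -1, -1, 0],
    [0, 1, 1, 0, 0, -1, -1, -1],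
    [1, 1, -1, -1, -1, -1, 0, 1],
    [1, 1, 0, -1, -1, -1, 0, 0],
    [0, 0, -1, -1, 0, 0, 0, 0],
    [-1, -1, 0, 0, 0, 1, 0, 0],
    [0, 0, 1, 1, 0, 0, -1, -1],
    [-1, -2, -1, 0, 0, 1, 1, 0],
    [-1, 0, 1, 1, 0, 0, -1, -1],
    [0, 0, 0, 0, -1, 0, 0, 0],
    [-1, -1, -1, 0, 0, 1, 0, 0],
    [-1, -1, 0, 0, 0, 1, 0, -1],
    [0, -1, 0, 0, 0, 0, 0, 0],
    [0, 1, 2, 1, 0, -1, -2, -1],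
    [1, 1, 1, 0, -1, -1, -1, 0],
    [0, 0, 0, 0, 0, 0, -1, 0],
    [0, 0, 1, 0, 0, 0, -1, -1],
    [-1, -1, 0, 0, 0, 0, 0, 0],
    [0, -1, -1, -1, -1, 0, 1, 1],
    [-1, -2, -2, -1, 0, 1, 1, 1],
    [-1, -2, -1, -1, 0, 1, 1, 0],
    [0, 1, 1, 0, -1, -1, -1, 0],
    [-1, 0, 0, 0, 0, 0, -1, 0],
    [-1, 0, 1, 0, 0, 0, -1, -1],
    [0, 0, -1, -1, -1, 0, 0, 1],
    [0, 0, 0, -1, -1, 0, 0, 0],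
    [-1, -1, -1, -1, 0, 1, 0, 0],
    [0, 0, 1, 1, 0, -1, -1, -1],
    [1, 0, 0, 0, -1, -1, 0, 0],
    [0, -1, -1, 0, 0, 0, 0, 0],
    [0, -1, 0, 0, 0, 0, 0, -1],
    [1, 2, 2, 1, -1, -2, -2, -1],
    [0, 1, 1, 1, 0, -1, -2, -1],
    [0, 1, 2, 1, 0, -1, -2, -2],
    [1, 1, 0, 0, -1, -1, -1, 0],
    [1, 1, 1, 0, -1, -1, -1, -1],
    [0, 0, 0, 0, 0, 0, -1, -1],
    [0, 0, 0, 0, -1, -1, 0, 0],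
    [-1, -1, -1, 0, 0, 0, 0, 0],
    [-1, -1, 0, 0, 0, 0, 0, -1],
    [0, -1, -2, -1, -1, 0, 1, 1],
    [0, -1, -1, -1, -1, 0, 1, 0],
    [-1, -2, -2, -1, 0, 1, 1, 0],
    [0, 1, 0, 0, -1, -1, -1, 0],
    [0, 1, 1, 0, -1, -1, -1, -1],
    [-1, 0, 0, 0, 0, 0, -1, -1],
    [0, 0, -1, -1, -1, 0, 0, 0],
    [1, 1, 1, 0, -1, -2, -1, 0],
    [0, 0, 0, 0, 0, -1, -1, 0],
    [0, 0, 1, 0, 0, -1, -1, -1],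
    [1, 0, -1, -1, -1, -1, 0, 1],
    [1, 0, 0, -1, -1, -1, 0, 0],
    [0, -1, -1, -1, 0, 0, 0, 0],
    [1, 2, 1, 0, -1, -2, -2, 0],
    [1, 2, 2, 0, -1, -2, -2, -1],
    [0, 1, 1, 0, 0, -1, -2, -1],
    [1, 1, 0, -1, -1, -1, -1, 0],
    [0, 0, -1, -1, -1, -1, 0, 1],
    [0, 0, 0, -1, -1, -1, 0, 0],
    [-1, -1, -1, -1, 0, 0, 0, 0],
    [0, -1, -2, -2, -1, 0, 1, 1],
    [0, 1, 0, -1, -1, -1, -1, 0],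
    [1, 1, 0, 0, -1, -2, -1, 0],
    [1, 1, 1, 0, -1, -2, -1, -1],
    [0, 0, 0, 0, 0, -1, -1, -1],
    [1, 0, -1, -1, -1, -1, 0, 0],
    [1, 2, 1, 0, -1, -2, -2, -1],
    [0, 0, -1, -1, -1, -1, 0, 0],
    [1, 1, 0, -1, -1, -2, -1, 0],
    [0, 0, 0, 0, -1, -1, -1, 0],
    [0, 0, 1, 0, -1, -1, -1, -1],
    [-1, -1, 0, 0, 0, 0, -1, -1],
    [0, -1, -1, -1, -1, 0, 0, 0],
    [0, 1, 1, 0, -1, -1, -2, -1],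
    [-1, -1, -1, -1, -1, 0, 0, 0],
    [0, 0, 0, 0, -1, -1, -1, -1],
    [0, 0, 0, -1, -1, -1, -1, 0],
    [1, 1, 1, 0, -1, -2, -2, -1],
    [0, -1, -1, -1, -1, -1, 0, 0],
    [0, 1, 1, 0, -1, -2, -2, -1],
    [1, 1, 0, -1, -2, -2, -1, 0],
    [0, 0, -1, -1, -1, -1, -1, 0],
    [0, 0, 0, -1, -1, -1, -1, -1]]
  V := [248, 124, 165, 330, 62, 329, 120, 240, 31, 298, 30, 195, 236, 112, 149, 60, 327, 59, 224, 265, 141, 118, 181, 15, 56, 263, 117, 282, 323, 199, 14, 55, 262, 220, 96, 137, 28, 193, 234, 110, 256, 297, 173, 131, 7, 48, 192, 233, 109, 67, 274, 315, 130, 6, 47, 212, 314, 24, 231, 189, 65, 106, 252, 128, 169, 3, 188, 64, 105, 270, 2, 99, 306, 16, 181, 244, 180, 302, 12, 53, 260, 218, 94, 135, 281, 157, 198, 32, 217, 93, 134, 299, 31, 8, 215, 256, 90, 153,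 89, 128, 4, 45, 210, 273, 209, 250, 126, 167, 1, 64, 186, 62, 103, 268, 249, 125, 166, 83, 290, 124, 207, 41, 248, 165, 206, 82, 63, 228, 269, 145, 267, 330, 164, 205, 81, 122, 58, 121, 286, 327, 203, 242, 178, 241, 75, 116, 323, 300, 32, 197, 238, 114, 299, 133, 174, 50, 196, 237, 113, 71, 278, 319, 29, 151, 87, 150, 315, 25, 232, 329, 61, 226, 267, 143, 328, 162, 203, 79, 225, 266, 142, 100, 307, 17, 119, 284, 325, 201, 16, 57, 264, 222, 98, 139, 283, 324, 200, 158, 34, 75, 221, 97, 138, 303, 194, 235, 111, 69, 276, 317, 132, 8, 49, 214, 68, 275, 316, 150, 213, 190, 66, 107, 272, 4, 271, 182, 219, 95, 136, 301, 33, 300, 91, 211, 2, 269, 1, 166, 207, 83]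
  CO := [
    [-2, -3, -4, -6, -5, -4, -3, -2],
    [-2, -3, -4, -6, -5, -4, -3, -1],
    [-2, -3, -4, -6, -5, -4, -2, -1],
    [-2, -3, -4, -6, -5, -3, -2, -1],
    [-2, -3, -4, -6, -4, -3, -2, -1],
    [-2, -3, -4, -5, -4, -3, -2, -1],
    [-2, -3, -3, -5, -4, -3, -2, -1],
    [-2, -2, -4, -5, -4, -3, -2, -1],
    [-2, -2, -3, -5, -4, -3, -2, -1],
    [-2, -2, -3, -4, -4, -3, -2, -1],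
    [-2, -2, -3, -4, -3, -3, -2, -1],
    [-2, -2, -3, -4, -3, -2, -2, -1],
    [-2, -2, -3, -4, -3, -2, -1, -1],
    [-2, -2, -3, -4, -3, -2, -1, 0],
    [-1, -3, -3, -5, -4, -3, -2, -1],
    [-1, -2, -3, -5, -4, -3, -2, -1],
    [-1, -2, -3, -4, -4, -3, -2, -1],
    [-1, -2, -3, -4, -3, -3, -2, -1],
    [-1, -2, -3, -4, -3, -2, -2, -1],
    [-1, -2, -3, -4, -3, -2, -1, -1],
    [-1, -2, -3, -4, -3, -2, -1, 0],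
    [-1, -2, -2, -4, -4, -3, -2, -1],
    [-1, -2, -2, -4, -3, -3, -2, -1],
    [-1, -2, -2, -4, -3, -2, -2, -1],
    [-1, -2, -2, -4, -3, -2, -1, -1],
    [-1, -2, -2, -4, -3, -2, -1, 0],
    [-1, -2, -2, -3, -3, -3, -2, -1],
    [-1, -2, -2, -3, -3, -2, -2, -1],
    [-1, -2, -2, -3, -3, -2, -1, -1],
    [-1, -2, -2, -3, -3, -2, -1, 0],
    [-1, -2, -2, -3, -2, -2, -2, -1],
    [-1, -2, -2, -3, -2, -2, -1, -1],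
    [-1, -2, -2, -3, -2, -2, -1, 0],
    [-1, -2, -2, -3, -2, -1, -1, -1],
    [-1, -2, -2, -3, -2, -1, -1, 0],
    [-1, -2, -2, -3, -2, -1, 0, 0],
    [-1, -1, -2, -3, -3, -3, -2, -1],
    [-1, -1, -2, -3, -3, -2, -2, -1],
    [-1, -1, -2, -3, -3, -2, -1, -1],
    [-1, -1, -2, -3, -3, -2, -1, 0],
    [-1, -1, -2, -3, -2, -2, -2, -1],
    [-1, -1, -2, -3, -2, -2, -1, -1],
    [-1, -1, -2, -3, -2, -2, -1, 0],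
    [-1, -1, -2, -3, -2, -1, -1, -1],
    [-1, -1, -2, -3, -2, -1, -1, 0],
    [-1, -1, -2, -3, -2, -1, 0, 0],
    [-1, -1, -2, -2, -2, -2, -2, -1],
    [-1, -1, -2, -2, -2, -2, -1, -1],
    [-1, -1, -2, -2, -2, -2, -1, 0],
    [-1, -1, -2, -2, -2, -1, -1, -1],
    [-1, -1, -2, -2, -2, -1, -1, 0],
    [-1, -1, -2, -2, -2, -1, 0, 0],
    [-1, -1, -2, -2, -1, -1, -1, -1],
    [-1, -1, -2, -2, -1, -1, -1, 0],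
    [-1, -1, -2, -2, -1, -1, 0, 0],
    [-1, -1, -2, -2, -1, 0, 0, 0],
    [-1, -1, -1, -2, -2, -2, -2, -1],
    [-1, -1, -1, -2, -2, -2, -1, -1],
    [-1, -1, -1, -2, -2, -2, -1, 0],
    [-1, -1, -1, -2, -2, -1, -1, -1],
    [-1, -1, -1, -2, -2, -1, -1, 0],
    [-1, -1, -1, -2, -2, -1, 0, 0],
    [-1, -1, -1, -2, -1, -1, -1, -1],
    [-1, -1, -1, -2, -1, -1, -1, 0],
    [-1, -1, -1, -2, -1, -1, 0, 0],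
    [-1, -1, -1, -2, -1, 0, 0, 0],
    [-1, -1, -1, -1, -1, -1, -1, -1],
    [-1, -1, -1, -1, -1, -1, -1, 0],
    [-1, -1, -1, -1, -1, -1, 0, 0],
    [-1, -1, -1, -1, -1, 0, 0, 0],
    [-1, -1, -1, -1, 0, 0, 0, 0],
    [-1, 0, -1, -1, -1, -1, -1, -1],
    [-1, 0, -1, -1, -1, -1, -1, 0],
    [-1, 0, -1, -1, -1, -1, 0, 0],
    [-1, 0, -1, -1, -1, 0, 0, 0],
    [-1, 0, -1, -1, 0, 0, 0, 0],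
    [-1, 0, -1, 0, 0, 0, 0, 0],
    [-1, 0, 0, 0, 0, 0, 0, 0],
    [0, -1, -1, -2, -2, -2, -2, -1],
    [0, -1, -1, -2, -2, -2, -1, -1],
    [0, -1, -1, -2, -2, -2, -1, 0],
    [0, -1, -1, -2, -2, -1, -1, -1],
    [0, -1, -1, -2, -2, -1, -1, 0],
    [0, -1, -1, -2, -2, -1, 0, 0],
    [0, -1, -1, -2, -1, -1, -1, -1],
    [0, -1, -1, -2, -1, -1, -1, 0],
    [0, -1, -1, -2, -1, -1, 0, 0],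
    [0, -1, -1, -2, -1, 0, 0, 0],
    [0, -1, -1, -1, -1, -1, -1, -1],
    [0, -1, -1, -1, -1, -1, -1, 0],
    [0, -1, -1, -1, -1, -1, 0, 0],
    [0, -1, -1, -1, -1, 0, 0, 0],
    [0, -1, -1, -1, 0, 0, 0, 0],
    [0, -1, 0, -1, -1, -1, -1, -1],
    [0, -1, 0, -1, -1, -1, -1, 0],
    [0, -1, 0, -1, -1, -1, 0, 0],
    [0, -1, 0, -1, -1, 0, 0, 0],
    [0, -1, 0, -1, 0, 0, 0, 0],
    [0, -1, 0, 0, 0, 0, 0, 0],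
    [0, 0, -1, -1, -1, -1, -1, -1],
    [0, 0, -1, -1, -1, -1, -1, 0],
    [0, 0, -1, -1, -1, -1, 0, 0],
    [0, 0, -1, -1, -1, 0, 0, 0],
    [0, 0, -1, -1, 0, 0, 0, 0],
    [0, 0, -1, 0, 0, 0, 0, 0],
    [0, 0, 0, -1, -1, -1, -1, -1],
    [0, 0, 0, -1, -1, -1, -1, 0],
    [0, 0, 0, -1, -1, -1, 0, 0],
    [0, 0, 0, -1, -1, 0, 0, 0],
    [0, 0, 0, -1, 0, 0, 0, 0],
    [0, 0, 0, 0, -1, -1, -1, -1],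
    [0, 0, 0, 0, -1, -1, -1, 0],
    [0, 0, 0, 0, -1, -1, 0, 0],
    [0, 0, 0, 0, -1, 0, 0, 0],
    [0, 0, 0, 0, 0, -1, -1, -1],
    [0, 0, 0, 0, 0, -1, -1, 0],
    [0, 0, 0, 0, 0, -1, 0, 0],
    [0, 0, 0, 0, 0, 0, -1, -1],
    [0, 0, 0, 0, 0, 0, -1, 0],
    [0, 0, 0, 0, 0, 0, 0, -1],
    [0, 0, 0, 0, 0, 0, 0, 1],
    [0, 0, 0, 0, 0, 0, 1, 0],
    [0, 0, 0, 0, 0, 0, 1, 1],
    [0, 0, 0, 0, 0, 1, 0, 0],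
    [0, 0, 0, 0, 0, 1, 1, 0],
    [0, 0, 0, 0, 0, 1, 1, 1],
    [0, 0, 0, 0, 1, 0, 0, 0],
    [0, 0, 0, 0, 1, 1, 0, 0],
    [0, 0, 0, 0, 1, 1, 1, 0],
    [0, 0, 0, 0, 1, 1, 1, 1],
    [0, 0, 0, 1, 0, 0, 0, 0],
    [0, 0, 0, 1, 1, 0, 0, 0],
    [0, 0, 0, 1, 1, 1, 0, 0],
    [0, 0, 0, 1, 1, 1, 1, 0],
    [0, 0, 0, 1, 1, 1, 1, 1],
    [0, 0, 1, 0, 0, 0, 0, 0],
    [0, 0, 1, 1, 0, 0, 0, 0],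
    [0, 0, 1, 1, 1, 0, 0, 0],
    [0, 0, 1, 1, 1, 1, 0, 0],
    [0, 0, 1, 1, 1, 1, 1, 0],
    [0, 0, 1, 1, 1, 1, 1, 1],
    [0, 1, 0, 0, 0, 0, 0, 0],
    [0, 1, 0, 1, 0, 0, 0, 0],
    [0, 1, 0, 1, 1, 0, 0, 0],
    [0, 1, 0, 1, 1, 1, 0, 0],
    [0, 1, 0, 1, 1, 1, 1, 0],
    [0, 1, 0, 1, 1, 1, 1, 1],
    [0, 1, 1, 1, 0, 0, 0, 0],
    [0, 1, 1, 1, 1, 0, 0, 0],
    [0, 1, 1, 1, 1, 1, 0, 0],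
    [0, 1, 1, 1, 1, 1, 1, 0],
    [0, 1, 1, 1, 1, 1, 1, 1],
    [0, 1, 1, 2, 1, 0, 0, 0],
    [0, 1, 1, 2, 1, 1, 0, 0],
    [0, 1, 1, 2, 1, 1, 1, 0],
    [0, 1, 1, 2, 1, 1, 1, 1],
    [0, 1, 1, 2, 2, 1, 0, 0],
    [0, 1, 1, 2, 2, 1, 1, 0],
    [0, 1, 1, 2, 2, 1, 1, 1],
    [0, 1, 1, 2, 2, 2, 1, 0],
    [0, 1, 1, 2, 2, 2, 1, 1],
    [0, 1, 1, 2, 2, 2, 2, 1],
    [1, 0, 0, 0, 0, 0, 0, 0],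
    [1, 0, 1, 0, 0, 0, 0, 0],
    [1, 0, 1, 1, 0, 0, 0, 0],
    [1, 0, 1, 1, 1, 0, 0, 0],
    [1, 0, 1, 1, 1, 1, 0, 0],
    [1, 0, 1, 1, 1, 1, 1, 0],
    [1, 0, 1, 1, 1, 1, 1, 1],
    [1, 1, 1, 1, 0, 0, 0, 0],
    [1, 1, 1, 1, 1, 0, 0, 0],
    [1, 1, 1, 1, 1, 1, 0, 0],
    [1, 1, 1, 1, 1, 1, 1, 0],
    [1, 1, 1, 1, 1, 1, 1, 1],
    [1, 1, 1, 2, 1, 0, 0, 0],
    [1, 1, 1, 2, 1, 1, 0, 0],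
    [1, 1, 1, 2, 1, 1, 1, 0],
    [1, 1, 1, 2, 1, 1, 1, 1],
    [1, 1, 1, 2, 2, 1, 0, 0],
    [1, 1, 1, 2, 2, 1, 1, 0],
    [1, 1, 1, 2, 2, 1, 1, 1],
    [1, 1, 1, 2, 2, 2, 1, 0],
    [1, 1, 1, 2, 2, 2, 1, 1],
    [1, 1, 1, 2, 2, 2, 2, 1],
    [1, 1, 2, 2, 1, 0, 0, 0],
    [1, 1, 2, 2, 1, 1, 0, 0],
    [1, 1, 2, 2, 1, 1, 1, 0],
    [1, 1, 2, 2, 1, 1, 1, 1],
    [1, 1, 2, 2, 2, 1, 0, 0],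
    [1, 1, 2, 2, 2, 1, 1, 0],
    [1, 1, 2, 2, 2, 1, 1, 1],
    [1, 1, 2, 2, 2, 2, 1, 0],
    [1, 1, 2, 2, 2, 2, 1, 1],
    [1, 1, 2, 2, 2, 2, 2, 1],
    [1, 1, 2, 3, 2, 1, 0, 0],
    [1, 1, 2, 3, 2, 1, 1, 0],
    [1, 1, 2, 3, 2, 1, 1, 1],
    [1, 1, 2, 3, 2, 2, 1, 0],
    [1, 1, 2, 3, 2, 2, 1, 1],
    [1, 1, 2, 3, 2, 2, 2, 1],
    [1, 1, 2, 3, 3, 2, 1, 0],
    [1, 1, 2, 3, 3, 2, 1, 1],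
    [1, 1, 2, 3, 3, 2, 2, 1],
    [1, 1, 2, 3, 3, 3, 2, 1],
    [1, 2, 2, 3, 2, 1, 0, 0],
    [1, 2, 2, 3, 2, 1, 1, 0],
    [1, 2, 2, 3, 2, 1, 1, 1],
    [1, 2, 2, 3, 2, 2, 1, 0],
    [1, 2, 2, 3, 2, 2, 1, 1],
    [1, 2, 2, 3, 2, 2, 2, 1],
    [1, 2, 2, 3, 3, 2, 1, 0],
    [1, 2, 2, 3, 3, 2, 1, 1],
    [1, 2, 2, 3, 3, 2, 2, 1],
    [1, 2, 2, 3, 3, 3, 2, 1],
    [1, 2, 2, 4, 3, 2, 1, 0],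
    [1, 2, 2, 4, 3, 2, 1, 1],
    [1, 2, 2, 4, 3, 2, 2, 1],
    [1, 2, 2, 4, 3, 3, 2, 1],
    [1, 2, 2, 4, 4, 3, 2, 1],
    [1, 2, 3, 4, 3, 2, 1, 0],
    [1, 2, 3, 4, 3, 2, 1, 1],
    [1, 2, 3, 4, 3, 2, 2, 1],
    [1, 2, 3, 4, 3, 3, 2, 1],
    [1, 2, 3, 4, 4, 3, 2, 1],
    [1, 2, 3, 5, 4, 3, 2, 1],
    [1, 3, 3, 5, 4, 3, 2, 1],
    [2, 2, 3, 4, 3, 2, 1, 0],
    [2, 2, 3, 4, 3, 2, 1, 1],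
    [2, 2, 3, 4, 3, 2, 2, 1],
    [2, 2, 3, 4, 3, 3, 2, 1],
    [2, 2, 3, 4, 4, 3, 2, 1],
    [2, 2, 3, 5, 4, 3, 2, 1],
    [2, 2, 4, 5, 4, 3, 2, 1],
    [2, 3, 3, 5, 4, 3, 2, 1],
    [2, 3, 4, 5, 4, 3, 2, 1],
    [2, 3, 4, 6, 4, 3, 2, 1],
    [2, 3, 4, 6, 5, 3, 2, 1],
    [2, 3, 4, 6, 5, 4, 2, 1],
    [2, 3, 4, 6, 5, 4, 3, 1],
    [2, 3, 4, 6, 5, 4, 3, 2]]

theorem certOKE8 : CertOK certE8 chevE8 ChevBN.adjE8 1 where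
  word := by decide +kernel
  bp := by decide +kernel
  psp := by decide +kernel
  split := by decide +kernel
  php := by decide +kernel
  tableE := by decide +kernel
  lenE := by decide +kernel
  boundE := by decide +kernel
  nzE := by decide +kernel
  distE := by decide +kernel
  small := by decide +kernel
  res2 := by decide +kernel
  nz2 := by decide +kernel
  tableCO := by decide +kernel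
  rigid := by decide +kernel
  N0 := by decide +kernel
  prime := Or.inl rfl
  dvdE := by decide +kernel
  dvdN := by decide +kernel
  cop := by decide +kernel

end Cfsg.Agent.ChevLang
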