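import Cfsg.Agent.EqLemmas
import Cfsg.Agent.Lib.ChevLang.Cert
import Cfsg.Agent.Lib.ChevBN.RootTables
import Cfsg.Agent.Lib.Chev.All

/-!
# The certificate of the cyclic twisted torus of type F4
-/

set_option autoImplicit false
set_option maxRecDepth 100000
set_option synthInstance.maxSize 4000

namespace Cfsg.Agent.ChevLang

open Cfsg.Lie

/-- The certificate for `F4`. -/
def certF4 : Cert where
  word := [3, 1, 2, 1, 0, 2]
  A := [[-1, 1, 0, 0], [-2, 1, 0, 1], [-2, 2, -1, 2], [-2, 2, -1, 1]]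
  N := [1, 0, 0, 0, 1]
  P := [[0, -1, -1, -1], [-1, -2, -2, -1], [-1, -3, -3, -1], [-1, -2, -1]]
  Ps := [1, -2, 1, 0]
  ph := [[-1, -1, 1, -1], [2, -1, 0, 1], [-1, 1, -1], [0, 0, 1, -1]]
  Y := [[[-1, 0, -1], [0, 1, 1], [0, -1], [0, 0, -1]], [[-1, -1, -1], [1, 2, 1], [-1, -1], [0, -1, -1]], [[-1, -2, -1], [2, 3, 1], [-2, -1], [0, -2, -1]], [[-1, -1], [2, 1], [-1], [-1, -1]]]
  u := [0, 1, 1, 1]
  L := 4
  E := [
    [1, 2, 1, 0],
    [0, 1, 2, 1],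
    [1, 1, 1, 1],
    [0, 1, 1, 1],
    [-1, 1, 1, 1],
    [0, 1, 0, 1],
    [-1, 0, 1, 2],
    [1, 1, 1, 0],
    [0, 1, 1, 0],
    [1, 1, 0, 0],
    [0, 0, 1, 1],
    [0, 1, 0, 0],
    [-1, 0, 1, 1],
    [0, 0, 0, 1],
    [-1, 0, 0, 1],
    [1, 1, 1, -1],
    [2, 1, 0, -1],
    [1, 0, 1, 0],
    [1, 1, 0, -1],
    [0, 0, 1, 0],
    [1, 0, 0, 0],
    [0, 1, 0, -1],
    [-1, 0, 1, 0],
    [1, 1, -1, -1],
    [-1, -1, 1, 1],
    [1, 0, -1, 0],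
    [0, -1, 0, 1],
    [-1, 0, 0, 0],
    [0, 0, -1, 0],
    [-1, -1, 0, 1],
    [-1, 0, -1, 0],
    [-2, -1, 0, 1],
    [-1, -1, -1, 1],
    [1, 0, 0, -1],
    [0, 0, 0, -1],
    [1, 0, -1, -1],
    [0, -1, 0, 0],
    [0, 0, -1, -1],
    [-1, -1, 0, 0],
    [0, -1, -1, 0],
    [-1, -1, -1, 0],
    [1, 0, -1, -2],
    [0, -1, 0, -1],
    [1, -1, -1, -1],
    [0, -1, -1, -1],
    [-1, -1, -1, -1],
    [0, -1, -2, -1],
    [-1, -2, -1, 0]]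
  V := [9, 1, 15, 14, 13, 10, 2, 7, 6, 3, 12, 2, 11, 8, 7, 16, 13, 5, 12, 4, 1, 11, 3, 8, 9, 14, 6, 16, 13, 5, 12, 4, 1, 10, 9, 6, 15, 5, 14, 11, 10, 15, 7, 4, 3, 2, 16, 8]
  CO := [
    [-2, -4, -3, -2],
    [-2, -4, -3, -1],
    [-2, -4, -2, -1],
    [-2, -3, -2, -1],
    [-2, -2, -2, -1],
    [-2, -2, -1, -1],
    [-2, -2, -1, 0],
    [-1, -3, -2, -1],
    [-1, -2, -2, -1],
    [-1, -2, -1, -1],
    [-1, -2, -1, 0],
    [-1, -1, -1, -1],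
    [-1, -1, -1, 0],
    [-1, -1, 0, 0],
    [-1, 0, 0, 0],
    [0, -2, -2, -1],
    [0, -2, -1, -1],
    [0, -2, -1, 0],
    [0, -1, -1, -1],
    [0, -1, -1, 0],
    [0, -1, 0, 0],
    [0, 0, -1, -1],
    [0, 0, -1, 0],
    [0, 0, 0, -1],
    [0, 0, 0, 1],
    [0, 0, 1, 0],
    [0, 0, 1, 1],
    [0, 1, 0, 0],
    [0, 1, 1, 0],
    [0, 1, 1, 1],
    [0, 2, 1, 0],
    [0, 2, 1, 1],
    [0, 2, 2, 1],
    [1, 0, 0, 0],
    [1, 1, 0, 0],
    [1, 1, 1, 0],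
    [1, 1, 1, 1],
    [1, 2, 1, 0],
    [1, 2, 1, 1],
    [1, 2, 2, 1],
    [1, 3, 2, 1],
    [2, 2, 1, 0],
    [2, 2, 1, 1],
    [2, 2, 2, 1],
    [2, 3, 2, 1],
    [2, 4, 2, 1],
    [2, 4, 3, 1],
    [2, 4, 3, 2]]

theorem certOKF4 : CertOK certF4 chevF4 ChevBN.adjF4 1 where
  word := by decide +kernel
  bp := by decide +kernel
  psp := by decide +kernel
  split := by decide +kernel
  php := by decide +kernel
  tableE := by decide +kernel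
  lenE := by decide +kernel
  boundE := by decide +kernel
  nzE := by decide +kernel
  distE := by decide +kernel
  small := by decide +kernel
  res2 := by decide +kernel
  nz2 := by decide +kernel
  tableCO := by decide +kernel
  rigid := by decide +kernel
  N0 := by decide +kernel
  prime := Or.inl rfl
  dvdE := by decide +kernel
  dvdN := by decide +kernel
  cop := by decide +kernel

end Cfsg.Agent.ChevLang
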